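import Mathlib

/-! A computable model of `GL(2,3)`, its conjugacy classes, a Sylow 2-subgroup and the lift of the
natural representation to `ℤ[√-2]`. -/

set_option autoImplicit false

namespace Cfsg.Agent.H76

/-- Invertible `2 × 2` matrices over `ZMod 3`, as quadruples `(a, b, c, d)`. -/
@[ext] structure GL23 where
  a : ZMod 3
  b : ZMod 3
  c : ZMod 3
  d : ZMod 3
  det_ne : a * d - b * c ≠ 0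

namespace GL23

instance instDecidableEqGL23 : DecidableEq GL23 := fun x y =>
  decidable_of_iff (x.a = y.a ∧ x.b = y.b ∧ x.c = y.c ∧ x.d = y.d) GL23.ext_iff.symm

/-- The determinant. -/
def det (x : GL23) : ZMod 3 := x.a * x.d - x.b * x.c

theorem sq_eq_one_of_ne : ∀ z : ZMod 3, z ≠ 0 → z * z = 1 := by decide

theorem det_mul_det (x : GL23) : x.det * x.det = 1 := sq_eq_one_of_ne _ x.det_ne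

instance instMulGL23 : Mul GL23 := ⟨fun x y =>
  ⟨x.a * y.a + x.b * y.c, x.a * y.b + x.b * y.d, x.c * y.a + x.d * y.c, x.c * y.b + x.d * y.d, by
    have := mul_ne_zero x.det_ne y.det_ne
    intro h; apply this; linear_combination h⟩⟩

instance instOneGL23 : One GL23 := ⟨⟨1, 0, 0, 1, by decide⟩⟩

instance instInvGL23 : Inv GL23 := ⟨fun x =>
  ⟨x.det * x.d, -(x.det * x.b), -(x.det * x.c), x.det * x.a, by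
    have h1 := x.det_mul_det
    intro h; apply x.det_ne
    unfold det at *
    linear_combination h - (x.a * x.d - x.b * x.c) * h1⟩⟩

theorem mul_a (x y : GL23) : (x * y).a = x.a * y.a + x.b * y.c := rfl
theorem mul_b (x y : GL23) : (x * y).b = x.a * y.b + x.b * y.d := rfl
theorem mul_c (x y : GL23) : (x * y).c = x.c * y.a + x.d * y.c := rfl
theorem mul_d (x y : GL23) : (x * y).d = x.c * y.b + x.d * y.d := rfl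

instance instGroupGL23 : Group GL23 :=
  Group.ofLeftAxioms
    (fun x y z => by ext <;> simp only [mul_a, mul_b, mul_c, mul_d] <;> ring)
    (fun x => by
      ext
      · show 1 * x.a + 0 * x.c = _; ring
      · show 1 * x.b + 0 * x.d = _; ring
      · show 0 * x.a + 1 * x.c = _; ring
      · show 0 * x.b + 1 * x.d = _; ring)
    (fun x => by
      have h := x.det_mul_det
      ext
      · show x.det * x.d * x.a + -(x.det * x.b) * x.c = 1; unfold det at *; linear_combination h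
      · show x.det * x.d * x.b + -(x.det * x.b) * x.d = 0; ring
      · show -(x.det * x.c) * x.a + x.det * x.a * x.c = 0; ring
      · show -(x.det * x.c) * x.b + x.det * x.a * x.d = 1; unfold det at *; linear_combination h)

/-- The model as a subtype of quadruples. -/
def equivSub : {m : ZMod 3 × ZMod 3 × ZMod 3 × ZMod 3 // m.1 * m.2.2.2 - m.2.1 * m.2.2.1 ≠ 0} ≃ GL23 where
  toFun m := ⟨m.1.1, m.1.2.1, m.1.2.2.1, m.1.2.2.2, m.2⟩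
  invFun x := ⟨(x.a, x.b, x.c, x.d), x.det_ne⟩
  left_inv _ := rfl
  right_inv _ := rfl

instance instFintypeGL23 : Fintype GL23 := Fintype.ofEquiv _ equivSub

theorem card_eq : Fintype.card GL23 = 48 := by decide +kernel

theorem natCard_eq : Nat.card GL23 = 48 := by rw [Nat.card_eq_fintype_card, card_eq]

/-- The underlying matrix. -/
def toMat : GL23 →* Matrix (Fin 2) (Fin 2) (ZMod 3) where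
  toFun x := !![x.a, x.b; x.c, x.d]
  map_one' := Matrix.one_fin_two.symm
  map_mul' x y := by rw [Matrix.mul_fin_two]; rfl

/-- The model is isomorphic to Mathlib's general linear group. -/
noncomputable def equivGL : GL23 ≃* GL (Fin 2) (ZMod 3) :=
  MulEquiv.ofBijective toMat.toHomUnits ⟨by
    intro x y h
    have h' : toMat x = toMat y := congrArg Units.val h
    ext
    · exact congrFun (congrFun h' 0) 0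
    · exact congrFun (congrFun h' 0) 1
    · exact congrFun (congrFun h' 1) 0
    · exact congrFun (congrFun h' 1) 1, by
    intro A
    refine ⟨⟨A 0 0, A 0 1, A 1 0, A 1 1, ?_⟩, ?_⟩
    · have := (Matrix.GeneralLinearGroup.det A).ne_zero
      rwa [Matrix.GeneralLinearGroup.val_det_apply, Matrix.det_fin_two] at this
    · exact Units.ext (Matrix.eta_fin_two _).symm⟩

/-- The central involution. -/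
def z : GL23 := ⟨2, 0, 0, 2, by decide⟩
/-- A non-central involution. -/
def u : GL23 := ⟨1, 0, 0, 2, by decide⟩
/-- An element of order three. -/
def dd : GL23 := ⟨1, 1, 0, 1, by decide⟩

/-- The conjugacy class of an element: `1, z, 3, 6, 4, 2', 8, 8'`. -/
def cls (x : GL23) : Fin 8 :=
  if x.det = 1 then
    if x.a + x.d = 2 then (if x.b = 0 ∧ x.c = 0 ∧ x.a = x.d then 0 else 2)
    else if x.a + x.d = 1 then (if x.b = 0 ∧ x.c = 0 ∧ x.a = x.d then 1 else 3)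
    else 4
  else if x.a + x.d = 0 then 5 else if x.a + x.d = 1 then 6 else 7

/-- Class representatives. -/
def rep : Fin 8 → GL23 :=
  ![1, z, dd, ⟨2, 2, 0, 2, by decide⟩, ⟨0, 1, 2, 0, by decide⟩, u, ⟨2, 1, 2, 2, by decide⟩,
    ⟨1, 2, 1, 1, by decide⟩]

theorem cls_rep : ∀ k, cls (rep k) = k := by decide +kernel

theorem exists_conj_rep : ∀ x : GL23, ∃ g : GL23, g * rep (cls x) * g⁻¹ = x := by decide +kernel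

theorem cls_conj : ∀ x g : GL23, cls (g * x * g⁻¹) = cls x := by decide +kernel

/-- Class sizes. -/
def size : Fin 8 → ℕ := ![1, 1, 8, 8, 6, 12, 6, 6]

theorem card_cls : ∀ k, (Finset.univ.filter fun x => cls x = k).card = size k := by decide +kernel

theorem sum_cls {M : Type*} [AddCommMonoid M] (F : Fin 8 → M) :
    ∑ x : GL23, F (cls x) = ∑ k, size k • F k := by
  rw [← Finset.sum_fiberwise (s := Finset.univ) (g := cls)]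
  refine Finset.sum_congr rfl fun k _ => ?_
  rw [Finset.sum_congr rfl (g := fun _ => F k) fun x hx => by rw [(Finset.mem_filter.mp hx).2],
    Finset.sum_const, card_cls]

theorem eq_one_or_z_of_central : ∀ x : GL23, (∀ y, x * y = y * x) → x = 1 ∨ x = z := by
  decide +kernel

theorem z_central : ∀ y : GL23, z * y = y * z := by decide +kernel

theorem sq_eq_one_iff : ∀ x : GL23, x * x = 1 ↔ cls x = 0 ∨ cls x = 1 ∨ cls x = 5 := by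
  decide +kernel

theorem cls_eq_zero_iff : ∀ x : GL23, cls x = 0 ↔ x = 1 := by decide +kernel

theorem cls_eq_one_iff : ∀ x : GL23, cls x = 1 ↔ x = z := by decide +kernel

/-- A Sylow 2-subgroup (semidihedral of order 16). -/
def S0 : Subgroup GL23 where
  carrier := {x | (x.d = x.a ∧ x.c = -x.b) ∨ (x.d = -x.a ∧ x.c = x.b)}
  mul_mem' := by
    intro x y
    simp only [Set.mem_ofPred_eq]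
    revert x y
    decide +kernel
  one_mem' := by simp only [Set.mem_ofPred_eq]; decide +kernel
  inv_mem' := by
    intro x
    simp only [Set.mem_ofPred_eq]
    revert x
    decide +kernel

theorem mem_S0 (x : GL23) : x ∈ S0 ↔ (x.d = x.a ∧ x.c = -x.b) ∨ (x.d = -x.a ∧ x.c = x.b) := Iff.rfl

instance instDecidablePredS0 : DecidablePred (· ∈ S0) := fun x => decidable_of_iff _ (mem_S0 x).symm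

theorem card_S0 : Nat.card S0 = 16 := by
  rw [Nat.card_eq_fintype_card, Fintype.card_subtype]; decide +kernel

theorem z_mem_S0 : z ∈ S0 := by decide +kernel
theorem u_mem_S0 : u ∈ S0 := by decide +kernel

theorem eq_of_centralizes_S0 : ∀ x : GL23, (∀ y ∈ S0, x * y = y * x) → x = 1 ∨ x = z := by
  decide +kernel

/-- Number of elements of `S0` in each class. -/
def sizeS : Fin 8 → ℕ := ![1, 1, 0, 0, 6, 4, 2, 2]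

theorem card_cls_S0 : ∀ k, (Finset.univ.filter fun x => x ∈ S0 ∧ cls x = k).card = sizeS k := by
  decide +kernel

theorem sum_cls_S0 {M : Type*} [AddCommMonoid M] (F : Fin 8 → M) :
    ∑ x ∈ Finset.univ.filter (· ∈ S0), F (cls x) = ∑ k, sizeS k • F k := by
  rw [← Finset.sum_fiberwise (g := cls)]
  refine Finset.sum_congr rfl fun k _ => ?_
  rw [Finset.sum_congr rfl (g := fun _ => F k) fun x hx => by rw [(Finset.mem_filter.mp hx).2],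
    Finset.sum_const, Finset.filter_filter, card_cls_S0]

/-- The elements some power of which is the central involution. -/
def InD (x : GL23) : Prop := cls x = 1 ∨ cls x = 3 ∨ cls x = 4 ∨ cls x = 6 ∨ cls x = 7

instance instDecidablePredInD : DecidablePred InD := fun x => by unfold InD; infer_instance

theorem pow_24 : ∀ x : GL23, x ^ 24 = 1 := by decide +kernel

theorem exists_pow_iff : ∀ x : GL23, (∃ k : Fin 24, x ^ k.val = z) ↔ InD x := by decide +kernel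

theorem z_mem_zpowers_iff (x : GL23) : z ∈ Subgroup.zpowers x ↔ InD x := by
  rw [← exists_pow_iff]
  constructor
  · intro h
    obtain ⟨n, hn⟩ := (mem_powers_iff_mem_zpowers.2 h : z ∈ Submonoid.powers x)
    refine ⟨⟨n % 24, Nat.mod_lt _ (by norm_num)⟩, ?_⟩
    change x ^ (n % 24) = z
    rw [← pow_eq_pow_mod n (pow_24 x)]
    exact hn
  · rintro ⟨k, hk⟩
    exact hk ▸ Subgroup.npow_mem_zpowers x k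

theorem sq_eq_one_of_comm : ∀ x y : GL23, cls x = 5 → y * x = x * y → y * y = 1 := by
  decide +kernel

theorem eq_of_comm_u : ∀ y : GL23, y * u = u * y → y = 1 ∨ y = z ∨ y = u ∨ y = z * u := by
  decide +kernel

theorem eq_of_comm_dd : ∀ y : GL23, y * dd = dd * y → ∃ k : Fin 3, y = dd ^ k.val ∨
    y = z * dd ^ k.val := by
  decide +kernel

theorem cube_eq_one_iff : ∀ x : GL23, x ^ 3 = 1 ↔ cls x = 0 ∨ cls x = 2 := by decide +kernel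

theorem u_dd : u * dd * u⁻¹ = dd⁻¹ := by decide +kernel

theorem card_cent_u : Nat.card (Subgroup.centralizer ({u} : Set GL23)) = 4 := by
  have : DecidablePred (· ∈ Subgroup.centralizer ({u} : Set GL23)) := fun x =>
    decidable_of_iff (x * u = u * x) Subgroup.mem_centralizer_singleton_iff.symm
  rw [Nat.card_congr (Equiv.subtypeEquivRight (q := fun x => x * u = u * x)
    fun x => Subgroup.mem_centralizer_singleton_iff), Nat.card_eq_fintype_card,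
    Fintype.card_subtype]
  decide +kernel

theorem exists_even : ∀ x : GL23, x ≠ 1 → x * x = 1 ∨ InD x ∨ ∃ g, InD (x * (g * x⁻¹ * g⁻¹)) := by
  decide +kernel

theorem exists_prod_rep : ∀ k, ∃ a, cls a = 5 ∧ ∃ b, cls b = 5 ∧
    (rep k = a * b ∨ rep k = u * a * b) := by
  decide +kernel

theorem mem_of_cls {N : Subgroup GL23} [hN : N.Normal] {x : GL23} (h : rep (cls x) ∈ N) : x ∈ N := by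
  obtain ⟨g, hg⟩ := exists_conj_rep x
  exact hg ▸ hN.conj_mem _ h g

theorem eq_top_of_u_mem {N : Subgroup GL23} [N.Normal] (h : u ∈ N) : N = ⊤ := by
  refine eq_top_iff.2 fun x _ => mem_of_cls ?_
  obtain ⟨a, ha, b, hb, e⟩ := exists_prod_rep (cls x)
  have ha' : a ∈ N := mem_of_cls (by rw [ha]; exact h)
  have hb' : b ∈ N := mem_of_cls (by rw [hb]; exact h)
  rcases e with e | e <;> rw [e]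
  · exact mul_mem ha' hb'
  · exact mul_mem (mul_mem h ha') hb'

/-- An element of order eight. -/
def x8 : GL23 := ⟨2, 1, 2, 2, by decide⟩

theorem x8_mem_S0 : x8 ∈ S0 := by decide +kernel

theorem x8_facts : x8 ^ 8 = 1 ∧ x8 ^ 4 = z ∧ u * x8 * u⁻¹ = x8 ^ 3 ∧ u * u = 1 ∧ u ≠ 1 ∧ z ≠ 1 ∧
    u ≠ z ∧ z * z = 1 ∧ dd ^ 3 = 1 ∧ dd ≠ 1 := by
  decide +kernel

/-- The table of the lift to `GL₂(ℤ[√-2])`. -/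
def liftTab : List (ℤ√(-2) × ℤ√(-2) × ℤ√(-2) × ℤ√(-2)) := [
   (⟨0,0⟩, ⟨0,0⟩, ⟨0,0⟩, ⟨0,0⟩), (⟨0,0⟩, ⟨0,0⟩, ⟨0,0⟩, ⟨0,0⟩), (⟨0,0⟩, ⟨0,0⟩, ⟨0,0⟩, ⟨0,0⟩),
   (⟨0,0⟩, ⟨0,0⟩, ⟨0,0⟩, ⟨0,0⟩), (⟨0,0⟩, ⟨0,0⟩, ⟨0,0⟩, ⟨0,0⟩), (⟨0,0⟩, ⟨0,0⟩, ⟨0,0⟩, ⟨0,0⟩),
   (⟨0,0⟩, ⟨0,0⟩, ⟨0,0⟩, ⟨0,0⟩), (⟨0,0⟩, ⟨0,0⟩, ⟨0,0⟩, ⟨0,0⟩), (⟨0,0⟩, ⟨0,0⟩, ⟨0,0⟩, ⟨0,0⟩),
   (⟨0,0⟩, ⟨0,0⟩, ⟨0,0⟩, ⟨0,0⟩), (⟨0,0⟩, ⟨0,0⟩, ⟨0,0⟩, ⟨0,0⟩), (⟨0,0⟩, ⟨0,0⟩, ⟨0,0⟩, ⟨0,0⟩),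
   (⟨-1,-1⟩, ⟨-1,1⟩, ⟨-2,0⟩, ⟨1,1⟩), (⟨1,0⟩, ⟨0,-1⟩, ⟨1,0⟩, ⟨-1,-1⟩), (⟨0,1⟩, ⟨1,0⟩, ⟨1,0⟩, ⟨0,0⟩),
   (⟨-1,-1⟩, ⟨0,1⟩, ⟨-2,0⟩, ⟨1,1⟩), (⟨1,0⟩, ⟨-1,0⟩, ⟨1,0⟩, ⟨0,0⟩), (⟨0,1⟩, ⟨1,-1⟩, ⟨1,0⟩, ⟨-1,-1⟩),
   (⟨0,0⟩, ⟨0,0⟩, ⟨0,0⟩, ⟨0,0⟩), (⟨0,0⟩, ⟨0,0⟩, ⟨0,0⟩, ⟨0,0⟩), (⟨0,0⟩, ⟨0,0⟩, ⟨0,0⟩, ⟨0,0⟩),
   (⟨1,1⟩, ⟨0,-1⟩, ⟨2,0⟩, ⟨-1,-1⟩), (⟨0,-1⟩, ⟨-1,1⟩, ⟨-1,0⟩, ⟨1,1⟩), (⟨-1,0⟩, ⟨1,0⟩, ⟨-1,0⟩, ⟨0,0⟩),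
   (⟨1,1⟩, ⟨1,-1⟩, ⟨2,0⟩, ⟨-1,-1⟩), (⟨0,-1⟩, ⟨-1,0⟩, ⟨-1,0⟩, ⟨0,0⟩), (⟨-1,0⟩, ⟨0,1⟩, ⟨-1,0⟩, ⟨1,1⟩),
   (⟨0,0⟩, ⟨0,0⟩, ⟨0,0⟩, ⟨0,0⟩), (⟨1,0⟩, ⟨0,0⟩, ⟨0,0⟩, ⟨1,0⟩), (⟨-1,0⟩, ⟨1,1⟩, ⟨0,0⟩, ⟨1,0⟩),
   (⟨0,0⟩, ⟨0,0⟩, ⟨0,0⟩, ⟨0,0⟩), (⟨-1,1⟩, ⟨1,0⟩, ⟨1,1⟩, ⟨0,-1⟩), (⟨1,-1⟩, ⟨-2,0⟩, ⟨-1,-1⟩, ⟨-1,1⟩),
   (⟨0,0⟩, ⟨0,0⟩, ⟨0,0⟩, ⟨0,0⟩), (⟨0,-1⟩, ⟨-1,0⟩, ⟨-1,-1⟩, ⟨-1,1⟩), (⟨0,1⟩, ⟨1,-1⟩, ⟨1,1⟩, ⟨0,-1⟩),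
   (⟨0,0⟩, ⟨0,0⟩, ⟨0,0⟩, ⟨0,0⟩), (⟨-2,0⟩, ⟨1,1⟩, ⟨-1,1⟩, ⟨1,0⟩), (⟨-1,0⟩, ⟨0,0⟩, ⟨-1,1⟩, ⟨1,0⟩),
   (⟨0,0⟩, ⟨1,0⟩, ⟨1,0⟩, ⟨0,-1⟩), (⟨0,0⟩, ⟨0,0⟩, ⟨0,0⟩, ⟨0,0⟩), (⟨1,-1⟩, ⟨-2,0⟩, ⟨0,-1⟩, ⟨-1,1⟩),
   (⟨1,1⟩, ⟨1,-1⟩, ⟨1,0⟩, ⟨0,-1⟩), (⟨1,0⟩, ⟨-1,0⟩, ⟨0,-1⟩, ⟨-1,1⟩), (⟨0,0⟩, ⟨0,0⟩, ⟨0,0⟩, ⟨0,0⟩),
   (⟨0,0⟩, ⟨0,0⟩, ⟨0,0⟩, ⟨0,0⟩), (⟨1,0⟩, ⟨-1,-1⟩, ⟨1,-1⟩, ⟨-2,0⟩), (⟨2,0⟩, ⟨-1,-1⟩, ⟨1,-1⟩, ⟨-2,0⟩),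
   (⟨0,0⟩, ⟨1,0⟩, ⟨-1,0⟩, ⟨1,0⟩), (⟨-1,1⟩, ⟨1,0⟩, ⟨0,1⟩, ⟨1,0⟩), (⟨0,0⟩, ⟨0,0⟩, ⟨0,0⟩, ⟨0,0⟩),
   (⟨-1,-1⟩, ⟨0,1⟩, ⟨-1,0⟩, ⟨1,0⟩), (⟨0,0⟩, ⟨0,0⟩, ⟨0,0⟩, ⟨0,0⟩), (⟨-1,0⟩, ⟨0,1⟩, ⟨0,1⟩, ⟨1,0⟩),
   (⟨0,0⟩, ⟨0,0⟩, ⟨0,0⟩, ⟨0,0⟩), (⟨1,0⟩, ⟨-1,-1⟩, ⟨0,0⟩, ⟨-1,0⟩), (⟨-1,0⟩, ⟨0,0⟩, ⟨0,0⟩, ⟨-1,0⟩),
   (⟨0,0⟩, ⟨0,0⟩, ⟨0,0⟩, ⟨0,0⟩), (⟨0,-1⟩, ⟨-1,1⟩, ⟨-1,-1⟩, ⟨0,1⟩), (⟨0,1⟩, ⟨1,0⟩, ⟨1,1⟩, ⟨1,-1⟩),
   (⟨0,0⟩, ⟨0,0⟩, ⟨0,0⟩, ⟨0,0⟩), (⟨-1,1⟩, ⟨2,0⟩, ⟨1,1⟩, ⟨1,-1⟩), (⟨1,-1⟩, ⟨-1,0⟩, ⟨-1,-1⟩, ⟨0,1⟩),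
   (⟨0,0⟩, ⟨0,0⟩, ⟨0,0⟩, ⟨0,0⟩), (⟨-2,0⟩, ⟨1,1⟩, ⟨-1,1⟩, ⟨2,0⟩), (⟨-1,0⟩, ⟨1,1⟩, ⟨-1,1⟩, ⟨2,0⟩),
   (⟨1,1⟩, ⟨0,-1⟩, ⟨1,0⟩, ⟨-1,0⟩), (⟨1,0⟩, ⟨0,-1⟩, ⟨0,-1⟩, ⟨-1,0⟩), (⟨0,0⟩, ⟨0,0⟩, ⟨0,0⟩, ⟨0,0⟩),
   (⟨0,0⟩, ⟨-1,0⟩, ⟨1,0⟩, ⟨-1,0⟩), (⟨0,0⟩, ⟨0,0⟩, ⟨0,0⟩, ⟨0,0⟩), (⟨1,-1⟩, ⟨-1,0⟩, ⟨0,-1⟩, ⟨-1,0⟩),
   (⟨0,0⟩, ⟨0,0⟩, ⟨0,0⟩, ⟨0,0⟩), (⟨1,0⟩, ⟨0,0⟩, ⟨1,-1⟩, ⟨-1,0⟩), (⟨2,0⟩, ⟨-1,-1⟩, ⟨1,-1⟩, ⟨-1,0⟩),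
   (⟨-1,-1⟩, ⟨-1,1⟩, ⟨-1,0⟩, ⟨0,1⟩), (⟨0,0⟩, ⟨0,0⟩, ⟨0,0⟩, ⟨0,0⟩), (⟨-1,0⟩, ⟨1,0⟩, ⟨0,1⟩, ⟨1,-1⟩),
   (⟨0,0⟩, ⟨-1,0⟩, ⟨-1,0⟩, ⟨0,1⟩), (⟨-1,1⟩, ⟨2,0⟩, ⟨0,1⟩, ⟨1,-1⟩), (⟨0,0⟩, ⟨0,0⟩, ⟨0,0⟩, ⟨0,0⟩)]

/-- The lift of an element to a quadruple over `ℤ[√-2]`. -/
def lift (x : GL23) : ℤ√(-2) × ℤ√(-2) × ℤ√(-2) × ℤ√(-2) :=
  liftTab.getD (x.a.val + 3 * x.b.val + 9 * x.c.val + 27 * x.d.val) (0, 0, 0, 0)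

theorem lift_one : lift 1 = (1, 0, 0, 1) := by decide +kernel

theorem lift_mul : ∀ x y : GL23, lift (x * y) =
    ((lift x).1 * (lift y).1 + (lift x).2.1 * (lift y).2.2.1,
     (lift x).1 * (lift y).2.1 + (lift x).2.1 * (lift y).2.2.2,
     (lift x).2.2.1 * (lift y).1 + (lift x).2.2.2 * (lift y).2.2.1,
     (lift x).2.2.1 * (lift y).2.1 + (lift x).2.2.2 * (lift y).2.2.2) := by
  decide +kernel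

/-- The character table, with values in `ℤ[√-2]`. -/
def tab : Fin 8 → Fin 8 → ℤ√(-2) :=
  ![![1, 1, 1, 1, 1, 1, 1, 1],
    ![1, 1, 1, 1, 1, -1, -1, -1],
    ![2, 2, -1, -1, 2, 0, 0, 0],
    ![3, 3, 0, 0, -1, 1, -1, -1],
    ![3, 3, 0, 0, -1, -1, 1, 1],
    ![2, -2, -1, 1, 0, 0, ⟨0, -1⟩, ⟨0, 1⟩],
    ![2, -2, -1, 1, 0, 0, ⟨0, 1⟩, ⟨0, -1⟩],
    ![4, -4, 1, -1, 0, 0, 0, 0]]

theorem trace_lift : ∀ x : GL23, (lift x).1 + (lift x).2.2.2 = tab 5 (cls x) := by decide +kernel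

theorem tab_one_mul : ∀ x y : GL23, tab 1 (cls (x * y)) = tab 1 (cls x) * tab 1 (cls y) := by
  decide +kernel

theorem tab_orth : ∀ i j, ∑ k, size k • (tab i k * star (tab j k)) = if i = j then 48 else 0 := by
  decide +kernel

theorem tab_rel : ∀ k, tab 0 k = 1 ∧ tab 6 k = tab 5 k * tab 1 k ∧
    tab 3 k = tab 5 k * tab 5 k - tab 1 k ∧ tab 4 k = tab 3 k * tab 1 k ∧
    tab 7 k = tab 5 k * tab 3 k - tab 6 k ∧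
    tab 2 k = tab 3 k * tab 3 k - tab 0 k - tab 3 k - tab 4 k := by
  decide +kernel

end GL23

end Cfsg.Agent.H76
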