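import Cfsg.Agent.H76.HyG

/-! Computations in the model `q^(1+2) : SL₂(q)` and its automorphisms. -/

set_option autoImplicit false
set_option linter.unusedSectionVars false
open Subgroup

namespace Cfsg.Agent.H76
namespace Cm
variable {F : Type*} [Field F]

/-- elements of `O_p` -/
@[simps] def qq (a b c : F) : Cm F := ⟨a, b, c, 1, 0, 0, 1, by ring⟩
/-- the involution -/
@[simps] def tt : Cm F := ⟨0, 0, 0, -1, 0, 0, -1, by ring⟩
/-- an element of order four -/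
@[simps] def ii : Cm F := ⟨0, 0, 0, 0, 1, -1, 0, by ring⟩
/-- another element of order four -/
@[simps] def jj (h3 : (3 : F) = 0) : Cm F := ⟨0, 0, 0, 1, 1, 1, -1, by linear_combination -h3⟩

/-- the normal subgroup of order `q³` -/
def Q0 (F : Type*) [Field F] : Subgroup (Cm F) where
  carrier := {x | x.p = 1 ∧ x.q = 0 ∧ x.r = 0 ∧ x.s = 1}
  mul_mem' := fun {x y} hx hy => by
    simp only [Set.mem_setOf_eq, mul_r, mul_p, mul_s, mul_q] at *; simp [hx, hy]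
  one_mem' := ⟨rfl, rfl, rfl, rfl⟩
  inv_mem' := fun {x} hx => by simp only [Set.mem_setOf_eq, inv_r, inv_p, inv_s, inv_q] at *; simp [hx]
theorem mem_Q0' {x : Cm F} : x ∈ Q0 F ↔ x.p = 1 ∧ x.q = 0 ∧ x.r = 0 ∧ x.s = 1 := Iff.rfl
theorem qq_mem (a b c : F) : qq a b c ∈ Q0 F := ⟨rfl, rfl, rfl, rfl⟩
theorem mem_Q0 {x : Cm F} : x ∈ Q0 F ↔ ∃ a b c, x = qq a b c :=
  ⟨fun ⟨h1, h2, h3, h4⟩ => ⟨x.a, x.b, x.c, by ext <;> simp [h1, h2, h3, h4]⟩, fun ⟨_, _, _, h⟩ => h ▸ qq_mem _ _ _⟩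
instance : (Q0 F).Normal := ⟨fun x ⟨h1, h2, h3, h4⟩ g => by
  have := g.det
  refine ⟨?_, ?_, ?_, ?_⟩ <;> simp [h1, h2, h3, h4] <;> first | ring1 | linear_combination this⟩
theorem Q0_le : Q0 F ≤ P0 F := fun _ h => ⟨h.2.2.1, h.1, h.2.2.2⟩
theorem Z0_le_Q0 : Z0 F ≤ Q0 F := by rintro _ ⟨c, rfl⟩; exact ⟨rfl, rfl, rfl, rfl⟩
theorem mem_V0 {x : Cm F} (h : x ∈ M0 F) (h' : x ∈ Q0 F) : ∃ a c, x = mm a c 0 := by
  obtain ⟨a, c, s, rfl⟩ := mem_M0.1 h
  exact ⟨a, c, by rw [show s = 0 from h'.2.1]⟩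
theorem mm_mem_Q0 (a c : F) : mm a c 0 ∈ Q0 F := ⟨rfl, rfl, rfl, rfl⟩
theorem zz_inj {c d : F} (h : zz c = zz d) : c = d := (mm_inj h).2.1
theorem zz_mul (c d : F) : zz c * zz d = zz (c + d) := by rw [mm_mul]; simp
theorem mem_Z0_of {x : Cm F} (h : x ∈ Q0 F) (ha : x.a = 0) (hb : x.b = 0) : x ∈ Z0 F :=
  ⟨x.c, by obtain ⟨h1, h2, h3, h4⟩ := h; ext <;> simp [h1, h2, h3, h4, ha, hb]⟩

theorem tt_mul : (tt : Cm F) * tt = 1 := by ext <;> simp
theorem tt_inv : (tt : Cm F)⁻¹ = tt := inv_eq_of_mul_eq_one_right tt_mul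
theorem tt_ne (h2 : (2 : F) ≠ 0) : (tt : Cm F) ≠ 1 := fun e => by
  have := congrArg Cm.p e
  simp only [tt_p, one_p] at this
  exact h2 (by linear_combination -this)
theorem tt_mm (a c s : F) : tt * mm a c s * tt⁻¹ = mm (-a) c s := by ext <;> simp
theorem tt_mem : (tt : Cm F) ∈ B0 F := rfl
theorem ii_mul : (ii : Cm F) * ii = tt := by ext <;> simp
theorem jj_mul (h3 : (3 : F) = 0) : jj h3 * jj h3 = tt := by
  ext <;> simp <;> linear_combination h3
theorem jj_ii (h3 : (3 : F) = 0) : jj h3 * ii * (jj h3)⁻¹ = ii⁻¹ := by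
  ext <;> simp <;> first | linear_combination h3 | linear_combination -h3
theorem u_ii (h3 : (3 : F) = 0) : (mm 0 0 1)⁻¹ * ii * mm 0 0 1 = ii * jj h3 := by
  ext <;> simp <;> linear_combination h3
theorem u_jj (h3 : (3 : F) = 0) : (mm 0 0 1)⁻¹ * jj h3 * mm 0 0 1 = ii⁻¹ := by
  ext <;> simp <;> linear_combination h3

theorem cube (h3 : (3 : F) = 0) {x : Cm F} (hx : x ∈ P0 F) (e : x ^ 3 = 1) : x ∈ Q0 F ∨ x ∈ M0 F := by
  obtain ⟨h1, h2, h4⟩ := hx
  have := congrArg Cm.c e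
  simp [pow_succ, h1, h2, h4] at this
  have h5 : x.q * x.b ^ 2 = 0 := by linear_combination -this + (x.c - x.q * x.b ^ 2) * h3
  rcases mul_eq_zero.1 h5 with h | h
  · exact .inl ⟨h2, h, h1, h4⟩
  · exact .inr ⟨h1, h2, h4, pow_eq_zero_iff two_ne_zero |>.1 h⟩
theorem Q0_cube (h3 : (3 : F) = 0) {x : Cm F} (hx : x ∈ Q0 F) : x ^ 3 = 1 := by
  obtain ⟨a, b, c, rfl⟩ := mem_Q0.1 hx
  ext <;> simp [pow_succ]
  · linear_combination a * h3
  · linear_combination b * h3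
  · linear_combination c * h3
theorem M0_cube (h3 : (3 : F) = 0) {x : Cm F} (hx : x ∈ M0 F) : x ^ 3 = 1 := by
  obtain ⟨a, c, s, rfl⟩ := mem_M0.1 hx
  rw [mm_pow, Nat.cast_ofNat, h3]; simp [mm_zero]
theorem M0_comm {x y : Cm F} (hx : x ∈ M0 F) (hy : y ∈ M0 F) : x * y = y * x := by
  obtain ⟨a, c, s, rfl⟩ := mem_M0.1 hx
  obtain ⟨a', c', s', rfl⟩ := mem_M0.1 hy
  rw [mm_mul, mm_mul, add_comm a, add_comm c, add_comm s]

theorem conj_V {x : Cm F} (hx : x ∈ Q0 F) : ∃ y, y * x * y⁻¹ ∈ M0 F := by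
  obtain ⟨a, b, c, rfl⟩ := mem_Q0.1 hx
  by_cases hb : b = 0
  · exact ⟨1, by simp [mem_M0', hb]⟩
  · refine ⟨⟨0, 0, 0, 0, -b⁻¹, b, -a, by field_simp; ring⟩, ?_, ?_, ?_, ?_⟩ <;> simp [hb] <;> ring

theorem cent_t (h2 : (2 : F) ≠ 0) {x : Cm F} (e : x * tt = tt * x) : x.a = 0 ∧ x.b = 0 := by
  have e1 := congrArg Cm.a e
  have e2 := congrArg Cm.b e
  simp at e1 e2
  exact ⟨mul_left_cancel₀ h2 (by linear_combination e1), mul_left_cancel₀ h2 (by linear_combination e2)⟩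

theorem cent_R (h2 : (2 : F) ≠ 0) {x : Cm F} {a c : F} (ha : a ≠ 0) (e : mm a c 0 * x = x * mm a c 0) : x ∈ M0 F := by
  have a2 := congrArg Cm.a e
  have b2 := congrArg Cm.b e
  have c2 := congrArg Cm.c e
  simp [ha] at a2 b2 c2
  have hp : x.p = 1 := mul_right_cancel₀ ha (by linear_combination -a2)
  have hd := x.det
  rw [hp, b2] at hd c2
  refine ⟨b2, hp, by linear_combination hd, ?_⟩
  apply mul_left_cancel₀ (mul_ne_zero h2 ha); linear_combination c2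

theorem cent_Q (h2 : (2 : F) ≠ 0) {x : Cm F} (e : ∀ y ∈ Q0 F, y * x = x * y) : x ∈ Z0 F := by
  obtain ⟨a, c, s, rfl⟩ := mem_M0.1 (cent_R h2 one_ne_zero (e _ (mm_mem_Q0 1 0)))
  obtain ⟨rfl, rfl⟩ := cent_out h2 (yy_mem (1 : F)) one_ne_zero (e (yy 1) ⟨rfl, rfl, rfl, rfl⟩).symm
  exact ⟨c, rfl⟩

theorem cent_u {x : Cm F} {c : F} (e : x * mm 0 c 1 = mm 0 c 1 * x) : x ∈ M0 F ∨ x * tt ∈ M0 F := by
  have e1 := congrArg Cm.a e
  have e2 := congrArg Cm.p e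
  have e3 := congrArg Cm.q e
  simp at e1 e2 e3
  have hd := x.det
  have hs : x.s = x.p := by linear_combination -e3
  rw [e2, hs] at hd
  rcases mul_self_eq_one_iff.1 (show x.p * x.p = 1 by linear_combination hd) with h | h
  · exact .inl ⟨e2, h, hs.trans h, e1⟩
  · exact .inr ⟨by simp [e2], by simp [h], by simp [hs, h], by simp [e1]⟩

theorem cent_ij (h2 : (2 : F) ≠ 0) (h3 : (3 : F) = 0) {x : Cm F} (e : x * ii = ii * x) (e' : x * jj h3 = jj h3 * x) :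
    x ∈ Z0 F ∨ x * tt ∈ Z0 F := by
  have e1 := congrArg Cm.a e
  have e2 := congrArg Cm.b e
  have e3 := congrArg Cm.p e
  have e4 := congrArg Cm.q e
  have e5 := congrArg Cm.p e'
  simp at e1 e2 e3 e4 e5
  have hq : x.q = 0 := mul_left_cancel₀ h2 (by linear_combination e5 - e3)
  have ha : x.a = 0 := mul_left_cancel₀ h2 (by linear_combination e1 + e2)
  have hd := x.det
  rw [hq, ← e4] at hd
  have hr : x.r = 0 := by rw [← e5, hq]
  rcases mul_self_eq_one_iff.1 (show x.p * x.p = 1 by linear_combination hd) with h | h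
  · exact .inl (mem_Z0_of ⟨h, hq, hr, e4 ▸ h⟩ ha (e1 ▸ ha))
  · exact .inr (mem_Z0_of ⟨by simp [h], by simp [hq], by simp [hr], by simp [← e4, h]⟩ (by simp [ha])
      (by simp [← e1, ha]))

theorem invol (h2 : (2 : F) ≠ 0) {x : Cm F} (e : x * tt = tt * x) (x2 : x * x = 1) : x = 1 ∨ x = tt := by
  obtain ⟨ha, hb⟩ := cent_t h2 e
  have e1 := congrArg Cm.c x2
  have e2 := congrArg Cm.p x2
  have e3 := congrArg Cm.q x2
  have e4 := congrArg Cm.r x2
  simp only [mul_c, mul_p, mul_q, mul_r, one_c, one_p, one_q, one_r, ha, hb] at e1 e2 e3 e4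
  have hd := x.det
  have hc : x.c = 0 := mul_left_cancel₀ h2 (by linear_combination e1)
  have h1 : x.p + x.s ≠ 0 := fun h => h2 (by linear_combination x.p * h - e2 - hd)
  have hq : x.q = 0 := mul_left_cancel₀ h1 (by linear_combination e3)
  have hr : x.r = 0 := mul_left_cancel₀ h1 (by linear_combination e4)
  rw [hq] at e2 hd
  rcases mul_self_eq_one_iff.1 (show x.p * x.p = 1 by linear_combination e2) with h | h
  · exact .inl (by ext <;> simp [ha, hb, hc, hq, hr, h]; linear_combination hd - x.s * h)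
  · exact .inr (by ext <;> simp [ha, hb, hc, hq, hr, h]; linear_combination -hd + x.s * h)

theorem no_eight (h3 : (3 : F) = 0) (nsq : ∀ a : F, a * a ≠ -1) (x : Cm F) : x * x * (x * x) ≠ tt := fun e => by
  have key : ∀ w : Cm F, w * w = tt → w.p + w.s = 0 := fun w e => by
    have e2 := congrArg Cm.p e
    have e3 := congrArg Cm.q e
    have e4 := congrArg Cm.r e
    simp only [mul_p, mul_q, mul_r, tt_p, tt_q, tt_r] at e2 e3 e4
    linear_combination w.s * e2 - w.r * e3 + (w.s - w.p - w.s) * w.det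
  have := key _ e
  simp only [mul_p, mul_s] at this
  exact nsq (x.p + x.s) (by linear_combination this + 2 * x.det + h3)

theorem two_elt (h2 : (2 : F) ≠ 0) (h3 : (3 : F) = 0) (nsq : ∀ a : F, a * a ≠ -1) (k : ℕ) :
    ∀ x : Cm F, x * tt = tt * x → x ^ 2 ^ k = 1 → x = 1 ∨ x = tt ∨ x * x = tt := by
  induction k with
  | zero => exact fun x _ h => .inl (by simpa using h)
  | succ k ih =>
    intro x e h
    rcases ih (x * x) (by rw [mul_assoc, e, ← mul_assoc, e, mul_assoc]) (by rw [← sq, ← pow_mul, ← pow_succ', h])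
      with h1 | h1 | h1
    · exact (invol h2 e h1).imp_right .inl
    · exact .inr (.inr h1)
    · exact absurd h1 (no_eight h3 nsq x)

theorem hy_id (h2 : (2 : F) ≠ 0) : Hy (MonoidHom.id (Cm F)) := ⟨h2, fun _ _ h => h, fun _ _ g _ => ⟨g, rfl⟩⟩

theorem aut_Z (h2 : (2 : F) ≠ 0) (f : Cm F ≃* Cm F) (c : F) : ∃ d, f (zz c) = zz d :=
  center_top h2 fun y => by
    obtain ⟨y, rfl⟩ := f.surjective y
    rw [← map_mul, ← map_mul, zz_comm]

theorem Q0_comm {x y : Cm F} (hx : x ∈ Q0 F) (hy : y ∈ Q0 F) :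
    x * y = y * x * zz (2 * (x.a * y.b - x.b * y.a)) := by
  obtain ⟨a, b, c, rfl⟩ := mem_Q0.1 hx
  obtain ⟨a', b', c', rfl⟩ := mem_Q0.1 hy
  ext <;> simp <;> ring

section
variable [Fintype F] {p n : ℕ} [Fact p.Prime] (hp : p ≠ 2) (hF : Fintype.card F = p ^ n)
include hp hF

theorem exists_conj_P0 {x : Cm F} {k : ℕ} (hx : x ^ p ^ k = 1) : ∃ y, y * x * y⁻¹ ∈ P0 F := by
  obtain ⟨g, -, hg⟩ := ((hy_id (two_ne hp hF)).sylow hp hF).exists_conj (pgroup_zpowers hx) le_top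
  exact ⟨g, by simpa using hg _ (mem_zpowers x)⟩

theorem aut_Q (f : Cm F ≃* Cm F) {x : Cm F} (hx : x ∈ Q0 F) : f x ∈ Q0 F := by
  haveI : ((Q0 F).map f.toMonoidHom).Normal := Normal.map inferInstance _ f.surjective
  have h1 : (Q0 F).map f.toMonoidHom ≤ P0 F := by
    have := P0_max hp hF ((pgroup_P0 hF).to_sup_of_normal_right
      (((pgroup_P0 hF).to_le Q0_le).map f.toMonoidHom)) le_sup_left
    exact this ▸ le_sup_right
  have h2 : f x ∈ (Q0 F).map f.toMonoidHom := mem_map_of_mem _ hx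
  obtain ⟨h3, h4, h5⟩ := h1 h2
  have h6 := (h1 (this.conj_mem _ h2 ii)).1
  simp at h6
  exact ⟨h4, h6, h3, h5⟩

theorem aut_omega {f : Cm F ≃* Cm F} (hz : ∀ c, f (zz c) = zz (-c)) {x y : Cm F} (hx : x ∈ Q0 F) (hy : y ∈ Q0 F) :
    (f x).a * (f y).b - (f x).b * (f y).a = -(x.a * y.b - x.b * y.a) := by
  have h1 := congrArg f (Q0_comm hx hy)
  rw [map_mul, map_mul, map_mul, hz, Q0_comm (aut_Q hp hF f hx) (aut_Q hp hF f hy)] at h1
  exact mul_left_cancel₀ (two_ne hp hF) (by linear_combination zz_inj (mul_left_cancel h1))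

theorem no_root (nsq : ∀ a : F, a * a ≠ -1) {f : Cm F ≃* Cm F} (hz : ∀ c, f (zz c) = zz (-c))
    (h2 : ∀ x, f (f x) = tt * x * tt⁻¹) : False := by
  have key : ∀ x ∈ Q0 F, x.a * (f x).b - x.b * (f x).a = 0 := fun x hx => by
    have := aut_omega hp hF hz hx (aut_Q hp hF f hx)
    rw [h2] at this
    simp at this
    exact mul_left_cancel₀ (two_ne hp hF) (by linear_combination this)
  have h3 := key _ (qq_mem 1 0 0)
  have h4 := key _ (qq_mem 0 1 0)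
  have h5 := key _ ((Q0 F).mul_mem (qq_mem 1 0 0) (qq_mem 0 1 0))
  have h6 := aut_omega hp hF hz (qq_mem 1 0 0) (qq_mem 0 1 0)
  obtain ⟨h7, h8, h9, h10⟩ := aut_Q hp hF f (qq_mem 1 0 0)
  rw [map_mul] at h5
  simp [h7, h8, h9, h10] at h3 h4 h5 h6
  rw [h3, h4] at h5 h6
  exact nsq (f (qq 1 0 0)).a (by linear_combination h6 - (f (qq 1 0 0)).a * h5)

theorem exists_fix {f : Cm F ≃* Cm F} (hz : ∀ c, f (zz c) = zz (-c)) (h2 : ∀ x, f (f x) = x) :
    ∃ x ∈ Q0 F, x ∉ Z0 F ∧ f x = x := by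
  by_contra hh
  push Not at hh
  have key : ∀ x ∈ Q0 F, x.a + (f x).a = 0 ∧ x.b + (f x).b = 0 := fun x hx => by
    have h1 := aut_Q hp hF f hx
    have h3 : x * f x * zz ((f x).a * x.b - (f x).b * x.a) ∈ Z0 F := by
      by_contra h3
      refine hh _ ((Q0 F).mul_mem ((Q0 F).mul_mem hx h1) (Z0_le_Q0 ⟨_, rfl⟩)) h3 ?_
      rw [map_mul, map_mul, h2, hz, Q0_comm h1 hx, mul_assoc, zz_mul]
      congr 2; ring
    obtain ⟨c, e⟩ := h3
    obtain ⟨h4, h5, h6, h7⟩ := hx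
    have e1 := congrArg Cm.a e
    have e2 := congrArg Cm.b e
    simp [h4, h5, h6, h7] at e1 e2
    exact ⟨e1, e2⟩
  obtain ⟨h3, h4⟩ := key _ (qq_mem 1 0 0)
  obtain ⟨h5, h6⟩ := key _ (qq_mem 0 1 0)
  have h7 := aut_omega hp hF hz (qq_mem 1 0 0) (qq_mem 0 1 0)
  simp only [qq_a, qq_b] at h3 h4 h5 h6 h7
  exact two_ne hp hF (by
    linear_combination h7 - (f (qq 0 1 0)).b * h3 + h6 + (f (qq 0 1 0)).a * h4)

theorem aut_M {f : Cm F ≃* Cm F} (hP : ∀ x ∈ P0 F, f x ∈ P0 F) {x : Cm F} (hx : x ∈ M0 F) : f x ∈ M0 F := by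
  have := eq_M0 (two_ne hp hF) (A := (M0 F).map f.toMonoidHom) (by
    rintro _ ⟨y, hy, rfl⟩; exact hP y (M0_le hy)) (by
    rintro _ ⟨y, hy, rfl⟩ _ ⟨z, hz, rfl⟩
    rw [← map_mul, ← map_mul, M0_comm hy hz]) (by rw [card_map_of_injective f.injective, card_M0])
  exact this ▸ mem_map_of_mem f.toMonoidHom hx

/-- automorphisms fixing the Sylow subgroup are semilinear -/
theorem semi {f : Cm F ≃* Cm F} (hP : ∀ x ∈ P0 F, f x ∈ P0 F) : ∃ (φ : F →+* F) (l u : F), l ≠ 0 ∧ u ≠ 0 ∧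
    (∀ c, f (zz c) = zz (l * u * φ c)) ∧ (∀ a c, ∃ c', f (mm a c 0) = mm (l * φ a) c' 0) ∧
    ∀ a c s, ∃ a' c', f (mm a c s) = mm a' c' (l / u * φ s) := by
  have h2 := two_ne hp hF
  choose γ hγ using aut_Z h2 f
  choose α δ hα using fun a => mem_V0 (aut_M hp hF hP (mm_mem a 0 0)) (aut_Q hp hF f (mm_mem_Q0 a 0))
  choose ε ζ σ hσ using fun s => mem_M0.1 (aut_M hp hF hP (mm_mem 0 0 s))
  have hall : ∀ a c s, f (mm a c s) = mm (α a + ε s) (δ a + γ c + ζ s) (σ s) := fun a c s => by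
    rw [show mm a c s = mm a 0 0 * zz c * mm 0 0 s by simp [mm_mul], map_mul, map_mul, hα, hγ, hσ]
    simp [mm_mul]
  have h0 : ε 0 = 0 ∧ ζ 0 = 0 ∧ σ 0 = 0 := mm_inj ((hσ 0).symm.trans (map_one f))
  have h0' : α 0 = 0 ∧ δ 0 = 0 ∧ (0 : F) = 0 := mm_inj ((hα 0).symm.trans (map_one f))
  have γa : ∀ c d, γ (c + d) = γ c + γ d := fun c d => zz_inj (by rw [← hγ, ← zz_mul, ← zz_mul, map_mul, hγ, hγ])
  have γi : ∀ c, γ c = 0 → c = 0 := fun c e => zz_inj (f.injective (by rw [hγ, e]; exact (map_one f).symm))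
  have γ0 : γ 0 = 0 := zz_inj ((hγ 0).symm.trans (map_one f))
  have γn : ∀ c, γ (-c) = -γ c := fun c => by linear_combination γ0 - γa c (-c) + congrArg γ (add_neg_cancel c)
  choose β hβ using fun b : F => show ∃ β, ∀ a c s, f (yy b) * mm a c s * (f (yy b))⁻¹ =
      mm (a - s * β) (c - 2 * a * β + s * β ^ 2) s by
    obtain ⟨a', b', c', e⟩ := mem_Q0.1 (aut_Q hp hF f (x := yy b) ⟨rfl, rfl, rfl, rfl⟩)
    exact ⟨b', fun a c s => by rw [e]; ext <;> simp <;> ring⟩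
  have key : ∀ b a s, α (a - s * b) = α a - σ s * β b ∧ δ (a - s * b) + γ (0 - 2 * a * b + s * b ^ 2) + ζ s =
      δ a + γ 0 + ζ s - 2 * (α a + ε s) * β b + σ s * β b ^ 2 := fun b a s => by
    have := congrArg f (yy_mm b a 0 s)
    rw [map_mul, map_mul, map_inv, hall, hall, hβ] at this
    obtain ⟨e1, e2, -⟩ := mm_inj this
    exact ⟨by linear_combination -e1, e2.symm⟩
  have k1 : ∀ a b, γ (a * b) = α a * β b := fun a b => by
    have := (key b a 0).2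
    rw [zero_mul, zero_mul, sub_zero, add_zero, zero_sub, γn, mul_assoc, two_mul, γa, h0.1, h0.2.2, γ0] at this
    exact mul_left_cancel₀ h2 (by linear_combination -this)
  have γ1 : γ 1 ≠ 0 := fun e => one_ne_zero (γi 1 e)
  have hlu : γ 1 = α 1 * β 1 := by rw [← k1, one_mul]
  have hl : α 1 ≠ 0 := fun e => γ1 (by rw [hlu, e, zero_mul])
  have hu : β 1 ≠ 0 := fun e => γ1 (by rw [hlu, e, mul_zero])
  let φ : F →+* F :=
    { toFun := fun c => γ c / γ 1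
      map_one' := div_self γ1
      map_zero' := by rw [γ0, zero_div]
      map_add' := fun c d => by rw [γa, add_div]
      map_mul' := fun c d => by
        have e1 := k1 c 1
        have e2 := k1 1 d
        rw [mul_one] at e1
        rw [one_mul] at e2
        rw [k1, e1, e2, hlu]; field_simp }
  have e1 : ∀ c, γ c = α 1 * β 1 * φ c := fun c => by
    change _ = _ * (γ c / γ 1); rw [← hlu]; field_simp
  have e2 : ∀ a, α a = α 1 * φ a := fun a =>
    mul_right_cancel₀ hu (by rw [← k1, mul_one, e1]; ring)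
  refine ⟨φ, α 1, β 1, hl, hu, fun c => by rw [hγ, e1], fun a c => ⟨_, by rw [hall, h0.1, h0.2.2, add_zero, e2]⟩,
    fun a c s => ⟨α a + ε s, δ a + γ c + ζ s, ?_⟩⟩
  rw [hall]; congr 1
  have := (key 1 0 s).1
  rw [h0'.1, e2, mul_one, zero_sub, zero_sub, map_neg] at this
  field_simp
  linear_combination this

end
end Cm
end Cfsg.Agent.H76
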