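import Cfsg.Agent.H76.HyM
import Cfsg.Agent.H4.Basic
import Cfsg.Agent.H23.Basic

/-! Groups with an element whose centralizer is that of a transvection of `PSp₄(q)`: set-up. -/

set_option autoImplicit false
set_option linter.unusedSectionVars false
open Matrix MatrixGroups Subgroup

namespace Cfsg.Agent.H76
namespace Cm
variable {F : Type*} [Field F]

theorem cent_out (h2 : (2 : F) ≠ 0) {u : Cm F} (hu : u ∈ P0 F) (hb : u.b ≠ 0) {a c s : F}
    (h : mm a c s * u = u * mm a c s) : a = 0 ∧ s = 0 := by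
  obtain ⟨h1, h3, h4⟩ := hu
  have a1 := congrArg Cm.a h
  have c1 := congrArg Cm.c h
  simp [h1, h3, h4] at a1 c1
  have hs : s = 0 := by apply mul_right_cancel₀ hb; linear_combination a1
  refine ⟨?_, hs⟩
  apply mul_left_cancel₀ (mul_ne_zero h2 hb); linear_combination c1

theorem eq_M0 [Fintype F] (h2 : (2 : F) ≠ 0) {A : Subgroup (Cm F)} (hA : A ≤ P0 F)
    (hc : ∀ x ∈ A, ∀ y ∈ A, x * y = y * x) (hcard : Nat.card A = Fintype.card F ^ 3) : A = M0 F := by
  have hle : A ≤ M0 F := by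
    intro u hu
    by_contra hn
    have hb : u.b ≠ 0 := fun h => hn ⟨(hA hu).1, (hA hu).2.1, (hA hu).2.2, h⟩
    have inj : Function.Injective fun x : A => (x.1.b, x.1.c) := by
      intro x y e
      simp only [Prod.mk.injEq] at e
      have hx := hA x.2
      have hy := hA y.2
      have hm : x.1 * y.1⁻¹ ∈ M0 F := by
        have := (P0 F).mul_mem hx ((P0 F).inv_mem hy)
        refine ⟨this.1, this.2.1, this.2.2, ?_⟩
        simp [hx.1, hx.2.2, hy.1, hy.2.1, e.1]
      obtain ⟨a, c, s, h⟩ := mem_M0.1 hm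
      obtain ⟨rfl, rfl⟩ := cent_out h2 (hA hu) hb (h ▸ hc _ (A.mul_mem x.2 (A.inv_mem y.2)) u hu)
      have h' : x.1 = mm 0 c 0 * y.1 := by rw [← h]; group
      have : c = 0 := by
        have := congrArg Cm.c h'
        simp [e.2] at this; exact this
      apply Subtype.ext; rw [h', this, mm_zero, one_mul]
    have := Nat.card_le_card_of_injective _ inj
    rw [hcard, Nat.card_prod, Nat.card_eq_fintype_card] at this
    have h1 : 1 < Fintype.card F := Fintype.one_lt_card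
    have : Fintype.card F ^ 3 ≤ Fintype.card F ^ 2 := by rw [sq]; exact this
    exact absurd ((Nat.pow_le_pow_iff_right h1).1 this) (by norm_num)
  exact eq_of_le_of_card_ge hle (by rw [hcard, card_M0])

variable [Fintype F] {p n : ℕ} [Fact p.Prime]

theorem pgroup_P0 (hF : Fintype.card F = p ^ n) : IsPGroup p (P0 F) :=
  IsPGroup.of_card (n := n * 4) (by rw [card_P0, hF, pow_mul])

theorem two_ne (hp : p ≠ 2) (hF : Fintype.card F = p ^ n) : (2 : F) ≠ 0 := by
  intro h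
  have h0 : ((p ^ n : ℕ) : F) = 0 := by rw [← hF]; exact FiniteField.cast_card_eq_zero F
  obtain ⟨k, hk⟩ := ((Fact.out : p.Prime).odd_of_ne_two hp).pow (n := n)
  rw [hk] at h0; push_cast at h0; rw [h] at h0; simp at h0

theorem cast_p (hF : Fintype.card F = p ^ n) : (p : F) = 0 := by
  have h0 : ((p ^ n : ℕ) : F) = 0 := by rw [← hF]; exact FiniteField.cast_card_eq_zero F
  push_cast at h0; exact eq_zero_of_pow_eq_zero h0

theorem not_dvd_index (hp : p ≠ 2) (hF : Fintype.card F = p ^ n) : ¬ p ∣ ((P0 F).map (toP F)).index := by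
  have h2 := two_ne hp hF
  have h1 := ((P0 F).map (toP F)).index_mul_card
  rw [card_map_of_injective (toP_inj h2), card_P0] at h1
  have h3 := (center (symplecticGroup (Fin 2) F)).card_eq_card_quotient_mul_card_subgroup
  rw [H9.card_symplecticGroup] at h3
  change _ = Nat.card (PSp 2 F) * _ at h3
  rw [← h1] at h3
  have hq : 0 < Fintype.card F ^ 4 := pow_pos Fintype.card_pos _
  have h4 : ((P0 F).map (toP F)).index ∣ (Fintype.card F ^ 2 - 1) * (Fintype.card F ^ 4 - 1) := by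
    refine ⟨Nat.card (center (symplecticGroup (Fin 2) F)), Nat.eq_of_mul_eq_mul_left hq ?_⟩
    simp only [Finset.prod_range_succ, Finset.range_zero, Finset.prod_empty, one_mul] at h3
    rw [show 2 ^ 2 = 4 from rfl, show 2 * (0 + 1) = 2 from rfl, show 2 * (1 + 1) = 4 from rfl] at h3
    rw [h3]; ring
  intro hd
  have hn : n ≠ 0 := by
    rintro rfl; have := Fintype.one_lt_card (α := F); rw [hF] at this; simp at this
  have key : ∀ k, k ≠ 0 → ¬ p ∣ Fintype.card F ^ k - 1 := fun k hk h => by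
    have h5 : p ∣ Fintype.card F ^ k := by rw [hF, ← pow_mul]; exact dvd_pow_self _ (mul_ne_zero hn hk)
    have h6 : 1 ≤ Fintype.card F ^ k := Nat.one_le_pow _ _ Fintype.card_pos
    have := (Nat.dvd_sub_iff_right h6 h5).1 h
    exact (Fact.out : p.Prime).one_lt.ne' (Nat.dvd_one.1 this)
  rcases (Nat.Prime.dvd_mul Fact.out).1 (hd.trans h4) with h | h
  · exact key 2 (by norm_num) h
  · exact key 4 (by norm_num) h

theorem P0_max (hp : p ≠ 2) (hF : Fintype.card F = p ^ n) {R : Subgroup (Cm F)} (hR : IsPGroup p R)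
    (h : P0 F ≤ R) : R = P0 F := by
  have := (((pgroup_P0 hF).map (toP F)).toSylow (not_dvd_index hp hF)).is_maximal' (hR.map (toP F))
    (map_mono h)
  exact map_injective (toP_inj (two_ne hp hF)) this

theorem exists_equiv (hp : p ≠ 2) (hF : Fintype.card F = p ^ n) {x : PSp 2 F} (hx : x ≠ 1)
    (Px : Sylow p (PSp 2 F)) (hxP : x ∈ (Px : Subgroup (PSp 2 F)))
    (hxc : ∀ y ∈ (Px : Subgroup (PSp 2 F)), y * x = x * y) :
    Nonempty (centralizer ({x} : Set (PSp 2 F)) ≃* Cm F) := by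
  have h2 := two_ne hp hF
  obtain ⟨g, hg⟩ := MulAction.exists_smul_eq (PSp 2 F) Px
    (((pgroup_P0 hF).map (toP F)).toSylow (not_dvd_index hp hF))
  have hg' : ∀ y, y ∈ (P0 F).map (toP F) ↔ g⁻¹ * y * g ∈ (Px : Subgroup (PSp 2 F)) := fun y => by
    have := congrArg (fun S : Sylow p (PSp 2 F) => y ∈ (S : Subgroup (PSp 2 F))) hg
    simp only [Sylow.coe_subgroup_smul, mem_pointwise_smul_iff_inv_smul_mem, eq_iff_iff] at this
    simpa using this.symm
  obtain ⟨u, hu, e⟩ := (hg' (g * x * g⁻¹)).2 (by simpa [mul_assoc] using hxP)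
  obtain ⟨c, rfl⟩ := center_P0 h2 hu fun y hy => toP_inj h2 (by
    have := hxc _ ((hg' _).1 (mem_map_of_mem _ hy))
    rw [map_mul, map_mul, e]
    calc _ = g * (g⁻¹ * toP F y * g * x) * g⁻¹ := by group
      _ = _ := by rw [this]; group)
  have hc : c ≠ 0 := by
    rintro rfl
    rw [show zz (0 : F) = 1 from rfl, map_one] at e
    apply hx; simpa using e.symm
  let φ : Cm F →* PSp 2 F := (MulAut.conj g⁻¹).toMonoidHom.comp (toP F)
  have hφ : Function.Injective φ := (MulAut.conj g⁻¹).injective.comp (toP_inj h2)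
  have hr : φ.range = centralizer {x} := by
    ext y
    rw [mem_centralizer_singleton_iff]
    constructor
    · rintro ⟨w, rfl⟩
      have := congrArg (toP F) (zz_comm c w)
      rw [map_mul, map_mul, e] at this
      change g⁻¹ * toP F w * g⁻¹⁻¹ * x = x * (g⁻¹ * toP F w * g⁻¹⁻¹)
      calc _ = g⁻¹ * (toP F w * (g * x * g⁻¹)) * g := by group
        _ = _ := by rw [this]; group
    · intro hy
      obtain ⟨w, hw⟩ := cent_toP h2 hc (g := g * y * g⁻¹) (by
        rw [e]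
        calc _ = g * (y * x) * g⁻¹ := by group
          _ = _ := by rw [hy]; group)
      refine ⟨w, ?_⟩
      change g⁻¹ * toP F w * g⁻¹⁻¹ = y
      rw [hw]; group
  exact ⟨((MonoidHom.ofInjective hφ).trans (MulEquiv.subgroupCongr hr)).symm⟩

end Cm
open Cm

/-- `ψ` identifies the model with the centralizer of each non-trivial element of its centre -/
structure Hy {F G : Type*} [Field F] [Group G] (ψ : Cm F →* G) : Prop where
  two : (2 : F) ≠ 0
  inj : Function.Injective ψ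
  cent : ∀ c ≠ 0, ∀ g, g * ψ (zz c) = ψ (zz c) * g → g ∈ ψ.range

variable {F G : Type*} [Field F] [Group G] {ψ : Cm F →* G}

/-- conjugate embedding -/
def cj (g : G) (ψ : Cm F →* G) : Cm F →* G := (MulAut.conj g).toMonoidHom.comp ψ
theorem cj_apply (g : G) (x : Cm F) : cj g ψ x = g * ψ x * g⁻¹ := rfl

theorem Hy.cj (h : Hy ψ) (g : G) : Hy (cj g ψ) := by
  refine ⟨h.two, (MulAut.conj g).injective.comp h.inj, fun c hc k hk => ?_⟩
  obtain ⟨w, hw⟩ := h.cent c hc (g⁻¹ * k * g) (by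
    rw [cj_apply] at hk
    calc _ = g⁻¹ * (k * (g * ψ (zz c) * g⁻¹)) * g := by group
      _ = _ := by rw [hk]; group)
  exact ⟨w, by rw [cj_apply, hw]; group⟩

theorem exists_hy (h2 : (2 : F) ≠ 0) {α : G} (e : centralizer ({α} : Set G) ≃* Cm F)
    (hb : ∀ z ∈ centralizer ({α} : Set G), z ≠ 1 → (∀ c ∈ centralizer ({α} : Set G), c * z = z * c) →
      centralizer ({z} : Set G) = centralizer ({α} : Set G)) :
    ∃ ψ : Cm F →* G, Hy ψ ∧ ψ.range = centralizer ({α} : Set G) := by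
  let ψ : Cm F →* G := (centralizer ({α} : Set G)).subtype.comp e.symm.toMonoidHom
  have hi : Function.Injective ψ := Subtype.val_injective.comp e.symm.injective
  have hr : ψ.range = centralizer ({α} : Set G) := by
    ext y
    exact ⟨fun ⟨w, hw⟩ => hw ▸ (e.symm w).2, fun hy => ⟨e ⟨y, hy⟩, by simp [ψ]⟩⟩
  refine ⟨ψ, ⟨h2, hi, fun c hc g hg => ?_⟩, hr⟩
  rw [hr, ← hb (ψ (zz c)) (hr ▸ ⟨_, rfl⟩) (fun h => hc ?_) fun k hk => ?_]
  · exact mem_centralizer_singleton_iff.2 hg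
  · exact (mm_inj (hi (h.trans (map_one ψ).symm) : mm 0 c 0 = mm 0 0 0)).2.1
  · rw [← hr] at hk
    obtain ⟨w, rfl⟩ := hk
    rw [← map_mul, ← map_mul, zz_comm]

/-- a `p`-group normalizing a non-trivial finite `p`-group centralizes a non-trivial element -/
theorem exists_fixed {p : ℕ} [Fact p.Prime] [Finite G] {R Z : Subgroup G} (hR : IsPGroup p R) (hZ : IsPGroup p Z)
    (hZ1 : Z ≠ ⊥) (hn : R ≤ normalizer (Z : Set G)) : ∃ z ∈ Z, z ≠ 1 ∧ ∀ r ∈ R, r * z = z * r := by
  letI : MulAction R Z := MulAction.compHom Z ((normalizerMonoidHom Z).comp (inclusion hn))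
  obtain ⟨k, hk⟩ := IsPGroup.iff_card.1 hZ
  have hk0 : k ≠ 0 := by
    rintro rfl; exact hZ1 (Subgroup.card_eq_one.1 (by simpa using hk))
  have h1 : (1 : Z) ∈ MulAction.fixedPoints R Z := fun r => by
    change (normalizerMonoidHom Z (inclusion hn r)) 1 = 1
    exact map_one _
  obtain ⟨z, hz, hz1⟩ := hR.exists_fixed_point_of_prime_dvd_card_of_fixed_point Z
    (by rw [hk]; exact dvd_pow_self _ hk0) h1
  refine ⟨z, z.2, fun h => hz1 (Subtype.ext h).symm, fun r hr => ?_⟩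
  have := congrArg Subtype.val (hz ⟨r, hr⟩)
  change r * z.1 * r⁻¹ = z.1 at this
  exact mul_inv_eq_iff_eq_mul.1 this

/-- the centre of the model -/
def Z0 (F : Type*) [Field F] : Subgroup (Cm F) where
  carrier := {x | ∃ c, x = zz c}
  mul_mem' := by rintro _ _ ⟨c, rfl⟩ ⟨d, rfl⟩; exact ⟨c + d, by rw [mm_mul]; simp⟩
  one_mem' := ⟨0, rfl⟩
  inv_mem' := by rintro _ ⟨c, rfl⟩; exact ⟨-c, by rw [mm_inv]; simp⟩
theorem mem_Z0 {x : Cm F} : x ∈ Z0 F ↔ ∃ c, x = zz c := Iff.rfl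
theorem Z0_le : Z0 F ≤ M0 F := by rintro _ ⟨c, rfl⟩; exact mm_mem _ _ _

variable [Fintype F] [Finite G] {p n : ℕ} [Fact p.Prime]

theorem Hy.exists_cent (h : Hy ψ) (hF : Fintype.card F = p ^ n) {R : Subgroup G} (hR : IsPGroup p R)
    (hn : R ≤ normalizer ((Z0 F).map ψ : Set G)) : R ≤ ψ.range := by
  obtain ⟨_, ⟨_, ⟨c, rfl⟩, rfl⟩, h1, hc⟩ := exists_fixed hR
    (((pgroup_P0 hF).to_le (Z0_le.trans M0_le)).map ψ) (fun hb => by
      have : ψ (zz 1) ∈ (Z0 F).map ψ := mem_map_of_mem _ ⟨1, rfl⟩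
      rw [hb, mem_bot, ← map_one ψ] at this
      exact one_ne_zero (mm_inj (h.inj this : mm (0 : F) 1 0 = mm 0 0 0)).2.1) hn
  exact fun r hr => h.cent c (by rintro rfl; exact h1 (map_one ψ)) r (hc r hr)

theorem Hy.norm_P0 (h : Hy ψ) : normalizer ((P0 F).map ψ : Set G) ≤ normalizer ((Z0 F).map ψ : Set G) := by
  intro g hg
  apply H23.mem_normalizer_of_conj
  rintro _ ⟨_, ⟨c, rfl⟩, rfl⟩
  obtain ⟨u, hu, e⟩ := H23.conj_mem_of_mem_normalizer hg
    (mem_map_of_mem ψ (M0_le (Z0_le ⟨c, rfl⟩)))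
  refine ⟨u, center_P0 h.two hu fun y hy => h.inj ?_, e⟩
  obtain ⟨w, hw, e'⟩ := H23.conj_mem_of_mem_normalizer' hg (mem_map_of_mem ψ hy)
  have := congrArg ψ (zz_comm c w)
  rw [map_mul, map_mul, e'] at this
  rw [map_mul, map_mul, e]
  calc _ = g * (g⁻¹ * ψ y * g * ψ (zz c)) * g⁻¹ := by group
    _ = _ := by rw [this]; group

theorem Hy.sylow (h : Hy ψ) (hp : p ≠ 2) (hF : Fintype.card F = p ^ n) :
    H4.IsSylowIn p ((P0 F).map ψ) ⊤ := by
  refine H4.IsSylowIn.of_maximal le_top ((pgroup_P0 hF).map ψ) fun Q hQ _ hle => ?_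
  by_contra hne
  have hlt := H23.lt_normalizer_inf hQ (lt_of_le_of_ne hle (Ne.symm hne))
  have hR : IsPGroup p ↥(normalizer ((P0 F).map ψ : Set G) ⊓ Q) := hQ.to_le inf_le_right
  have h1 := h.exists_cent hF hR (inf_le_left.trans h.norm_P0)
  have h2 := P0_max hp hF (hR.comap_of_injective ψ h.inj) (map_le_iff_le_comap.1 hlt.le)
  have h3 := congrArg (Subgroup.map ψ) h2
  rw [map_comap_eq, inf_eq_right.2 h1] at h3
  exact hlt.ne h3.symm

/-- normalise the coordinates at a Sylow subgroup -/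
theorem Hy.exists_cj (h : Hy ψ) (hp : p ≠ 2) (hF : Fintype.card F = p ^ n) (P : Sylow p G) :
    ∃ g, (P0 F).map (Cfsg.Agent.H76.cj g ψ) = P := by
  obtain ⟨g, -, hg⟩ := (H4.isSylowIn_top P).exists_conj ((pgroup_P0 hF).map ψ) le_top
  refine ⟨g, (((h.cj g).sylow hp hF).eq_of_le P.isPGroup' le_top ?_).symm⟩
  rintro _ ⟨x, hx, rfl⟩
  exact hg _ (mem_map_of_mem _ hx)

theorem Hy.eq_M (h : Hy ψ) {M : Subgroup G} (hM : M ≤ (P0 F).map ψ) (hc : ∀ x ∈ M, ∀ y ∈ M, x * y = y * x)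
    (hcard : Nat.card M = Fintype.card F ^ 3) : M = (M0 F).map ψ := by
  have hr : M ≤ ψ.range := hM.trans (map_le_range _ _)
  have e : (M.comap ψ).map ψ = M := by rw [map_comap_eq, inf_eq_right.2 hr]
  rw [← e]; congr 1
  refine eq_M0 h.two ?_ (fun x hx y hy => h.inj ?_) ?_
  · rw [← comap_map_eq_self_of_injective h.inj (P0 F)]; exact comap_mono hM
  · rw [map_mul, map_mul]; exact hc _ hx _ hy
  · rw [← hcard, ← card_map_of_injective h.inj, e]

end Cfsg.Agent.H76
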