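import Cfsg.Agent.H76.HyX1

/-! A group acting faithfully on `F³` and containing the Borel subgroup of `PGL₂(F)` on the symmetric square:
the centralizer of the involution. -/

set_option autoImplicit false
set_option linter.unusedSectionVars false
open Subgroup

namespace Cfsg.Agent.H76

theorem arith_k {k m j e : ℕ} (hm : Odd m) (hk : k = j * m + e) (he : e ≤ 1) (hk0 : k ≠ 0)
    (hd : k + 1 ∣ 2 * m) : k = 1 := by
  have hm0 : 0 < m := hm.pos
  rcases Nat.eq_zero_or_pos j with rfl | hj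
  · omega
  obtain ⟨c, hc⟩ := hd
  have h1 : m ≤ j * m := Nat.le_mul_of_pos_left _ hj
  have hc1 : c = 1 := by
    rcases c with _ | _ | c
    · omega
    · rfl
    · nlinarith
  subst hc1
  rcases j with _ | _ | j
  · omega
  · obtain ⟨r, hr⟩ := hm; omega
  · nlinarith

namespace Cfg
variable {p : ℕ} {F X : Type*} [Field F] [Group X] [DistribMulAction X (F × F × F)] (C : Cfg p F X)
include C

/-- the torus as a homomorphism -/
def hH : Fˣ →* X := MonoidHom.mk' C.h fun a b => (C.h_mul a b).symm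
/-- the torus -/
def T : Subgroup X := C.hH.range
theorem mem_T {x : X} : x ∈ C.T ↔ ∃ l, C.h l = x := Iff.rfl
theorem hH_inj : Function.Injective C.hH := fun _ _ e => C.h_inj e
theorem T_le : C.T ≤ C.H := by rintro _ ⟨l, rfl⟩; exact C.h_mem_H l

theorem mem_T_of {x : X} (hk : x ∈ C.K) {c : F} (hc : c ≠ 0) (e : x • zv c = zv c) : x ∈ C.T := by
  obtain ⟨b, l, rfl⟩ := C.stab c hc x e
  rw [C.y_K ((C.K.mul_mem_cancel_right (C.h_mem_K l)).1 hk), y_zero, one_mul]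
  exact ⟨l, rfl⟩

theorem conj_T {η τ : X} (hη : η ∈ C.H) (hτ : τ ∈ C.T) : η * τ * η⁻¹ ∈ C.T := by
  obtain ⟨d, e⟩ := C.NZ.inv_mem hη.2
  obtain ⟨l, rfl⟩ := hτ
  refine C.mem_T_of (C.K.mul_mem (C.K.mul_mem hη.1 (C.h_mem_K l)) (C.K.inv_mem hη.1)) one_ne_zero ?_
  rw [mul_smul, mul_smul, e]
  change η • C.h l • _ = _
  rw [h_z, ← e, smul_inv_smul]

theorem s_inj {x : X} (hx : x ∉ C.NZ) : Function.Injective fun c : F => (x • zv c).2.2 := fun c d e => by
  by_contra h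
  apply C.s_ne hx (sub_ne_zero.2 h)
  rw [zv_sub, smul_sub]
  exact sub_eq_zero.2 e

theorem conj_y {η : X} (hη : η ∈ C.H) (b : F) : ∃ b', η * C.y b * η⁻¹ = C.y b' := by
  obtain ⟨d, e⟩ := C.NZ.inv_mem hη.2
  obtain ⟨b', l, h⟩ := C.stab 1 one_ne_zero (η * C.y b * η⁻¹) (by
    rw [mul_smul, mul_smul, e, y_z, ← e, smul_inv_smul])
  have hk := C.mem_K.1 hη.1
  have h1 : η * C.y b * η⁻¹ * C.t * (η * C.y b * η⁻¹) = C.t := by
    calc _ = η * C.y b * η⁻¹ * (C.t * η) * C.y b * η⁻¹ := by group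
      _ = η * (C.y b * C.t * C.y b) * η⁻¹ := by rw [← hk]; group
      _ = C.t := by rw [y_t, mul_assoc C.t, y_mul, neg_add_cancel, y_zero, mul_one, hk]; group
  rw [h] at h1
  have h2 := congrArg (fun x : X => (x • ((1, 0, 0) : F × F × F)).1) h1
  simp only [mul_smul, C.h_smul, C.y_smul, C.t_smul] at h2
  have h5 : (l : F) * l = 1 := by linear_combination -h2
  rcases mul_self_eq_one_iff.1 h5 with h6 | h6
  · exact ⟨b', by rw [h, show l = 1 from Units.ext h6, h_one, mul_one]⟩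
  · have h7 : C.h l = C.t := by rw [t]; congr 1; exact Units.ext (by simp [h6])
    have h8 : η * C.y (b + b) * η⁻¹ = 1 := by
      calc _ = η * C.y b * η⁻¹ * (η * C.y b * η⁻¹) := by rw [← y_mul]; group
        _ = C.y b' * C.t * C.y b' * C.t := by rw [h, h7]; group
        _ = 1 := by rw [y_t, mul_assoc C.t, y_mul, neg_add_cancel, y_zero, mul_one, t_sq]
    rw [conj_eq_one_iff, ← C.y_zero] at h8
    have hb : b = 0 := mul_left_cancel₀ C.two (by linear_combination C.y_inj h8)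
    exact ⟨0, by rw [hb, y_zero]; group⟩

variable [Fintype F] [Finite X] {m n : ℕ}

theorem s_surj {x : X} (hx : x ∉ C.NZ) (s : F) : ∃ c, (x • zv c).2.2 = s :=
  Finite.injective_iff_surjective.1 (C.s_inj hx) s

theorem card_T : Nat.card C.T = Fintype.card F - 1 := by
  rw [T, ← Nat.card_congr (MonoidHom.ofInjective C.hH_inj).toEquiv, Nat.card_units, Nat.card_eq_fintype_card]

theorem card_X : Nat.card X = Nat.card C.H * Fintype.card F +
    Fintype.card F * (Nat.card {x | x ∈ (C.K : Set X) ∧ x ∉ C.NZ} * Fintype.card F) := by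
  rw [← C.card_out, ← C.card_NZ, ← Nat.card_congr (Equiv.Set.univ X), card_split Set.univ (· ∈ C.NZ)]
  congr 1
  exact Nat.card_congr (Equiv.subtypeEquivRight fun x => by simp)

theorem card_K' : Nat.card C.K = Nat.card C.H + Nat.card {x | x ∈ (C.K : Set X) ∧ x ∉ C.NZ} :=
  card_split (C.K : Set X) (· ∈ C.NZ)

theorem exists_w : ∃ w ∈ C.K, w ∉ C.NZ := by
  obtain ⟨x, hx⟩ := C.nnorm
  obtain ⟨_, _, k, h1, h2, -⟩ := C.exists_KK (x := x) fun ⟨d, e⟩ => hx d e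
  exact ⟨k, h1, h2⟩

theorem free {k η : X} (hk : k ∈ C.K) (hn : k ∉ C.NZ) (hη : η ∈ C.NZ) {l : Fˣ} (hl : (l : F) ^ 2 ≠ 1)
    (e : C.h l * k * η = k) (d : F) : (k • zv d).2.1 = 0 := by
  obtain ⟨c, hc⟩ := C.s_surj hn ((k • zv d).2.2 / (1 - (l : F) ^ 2))
  obtain ⟨c', e'⟩ := C.of_NZ (C.NZ.inv_mem hη) c
  have h1 : C.h l • k • zv c = k • zv c' := by
    rw [← e', ← mul_smul, ← mul_smul, ← eq_mul_inv_iff_mul_eq.2 e]
  have h2 : k • zv (c - c') = (0, 0, (k • zv d).2.2) := by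
    have ha := C.K_a hk c
    rw [zv_sub, smul_sub, ← h1]
    obtain ⟨⟨a, g, s⟩, hv⟩ : ∃ v, k • zv c = v := ⟨_, rfl⟩
    rw [hv] at ha hc ⊢
    rw [C.h_smul]
    have := sub_ne_zero.2 hl.symm
    simp only at ha hc
    ext <;> simp [ha, hc]
    field_simp
  have h3 : c - c' = d := C.s_inj hn (by simp only; rw [h2])
  rw [← h3, h2]

theorem card_K [Fact p.Prime] (hF : Fintype.card F = p ^ n) (hq : Fintype.card F = 2 * m + 1) (hm : Odd m) :
    Nat.card C.K = 2 * Nat.card C.H := by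
  have hH : 0 < Nat.card C.H := Nat.card_pos
  have hcl : ∀ {x η : X}, x ∈ C.K → x ∉ C.NZ → η ∈ C.H → ∀ l, C.h l * x * η ∈ C.K ∧ C.h l * x * η ∉ C.NZ :=
    fun hx hn hη l => ⟨C.K.mul_mem (C.K.mul_mem (C.h_mem_K l) hx) hη.1, fun h =>
      hn ((C.NZ.mul_mem_cancel_left (C.h_mem _)).1 ((C.NZ.mul_mem_cancel_right hη.2).1 h))⟩
  have hg : ∀ (x η : X) (l : Fˣ), η ∈ C.H → ∀ c, ∃ c', ((C.h l * x * η) • zv c).2.1 = (x • zv c').2.1 :=
    fun x η l hη c => by
      obtain ⟨c', e⟩ := C.of_NZ hη.2 c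
      refine ⟨c', ?_⟩
      rw [mul_smul, mul_smul, e]
      obtain ⟨⟨a, g, s⟩, hv⟩ : ∃ v, x • zv c' = v := ⟨_, rfl⟩
      rw [hv, C.h_smul]
  set S : Set X := {x | x ∈ (C.K : Set X) ∧ x ∉ C.NZ} with hS
  have h1 := card_split S fun x => ∀ d : F, (x • zv d).2.1 = 0
  -- the points different from `U`
  have h2 := card_dvd_double ((powMonoidHom 2 : Fˣ →* Fˣ).range.map C.hH) C.H
    {x | x ∈ S ∧ ¬ ∀ d : F, (x • zv d).2.1 = 0} (by
      rintro _ ⟨l, -, rfl⟩ η hη x ⟨hx, hd⟩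
      refine ⟨hcl hx.1 hx.2 hη l, fun h => hd fun d => ?_⟩
      obtain ⟨c', e⟩ := hg (C.h l * x * η) η⁻¹ l⁻¹ (C.H.inv_mem hη) d
      rw [← h_inv, show (C.h l)⁻¹ * (C.h l * x * η) * η⁻¹ = x by group] at e
      rw [e]; exact h c') (by
      rintro _ ⟨_, ⟨l, rfl⟩, rfl⟩ η hη x ⟨hx, hd⟩ e
      by_contra hne
      refine hd (C.free hx.1 hx.2 hη.2 (fun h => hne ?_) e)
      simp only [powMonoidHom_apply, Units.val_pow_eq_pow_val] at h
      rcases mul_self_eq_one_iff.1 ((sq _).symm.trans h) with h | h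
      · rw [show powMonoidHom 2 l = 1 from Units.ext h, map_one]
      · exact absurd ((sq _).symm.trans h) (C.nsq l))
  rw [card_map_of_injective C.hH_inj, IsCyclic.card_powMonoidHom_range, Nat.card_units,
    Nat.card_eq_fintype_card, hq, Nat.add_sub_cancel, Nat.gcd_eq_right (dvd_mul_right 2 m),
    Nat.mul_div_cancel_left _ two_pos] at h2
  have h3 := card_dvd_double ⊥ C.H {x | x ∈ S ∧ ∀ d : F, (x • zv d).2.1 = 0} (by
      rintro _ rfl η hη x ⟨hx, hd⟩
      rw [← C.h_one]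
      refine ⟨hcl hx.1 hx.2 hη 1, fun d => ?_⟩
      obtain ⟨c', e⟩ := hg x η 1 hη d
      rw [e]; exact hd c') (fun a ha _ _ _ _ _ => ha)
  rw [card_bot, one_mul] at h3
  have h4 : Nat.card {x | x ∈ S ∧ ∀ d : F, (x • zv d).2.1 = 0} ≤ Nat.card C.H := by
    rcases isEmpty_or_nonempty {x | x ∈ S ∧ ∀ d : F, (x • zv d).2.1 = 0} with h | ⟨⟨k, hk, hd⟩⟩
    · simp
    refine Nat.card_le_card_of_injective (fun x => ⟨k⁻¹ * x, C.K.mul_mem (C.K.inv_mem hk.1) x.2.1.1, ?_⟩)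
      fun x x' e => Subtype.ext (mul_left_cancel (congrArg Subtype.val e))
    obtain ⟨c, e⟩ := C.s_surj hk.2 ((x : X) • zv (1 : F)).2.2
    refine ⟨c, ?_⟩
    rw [mul_smul, inv_smul_eq_iff]
    exact Prod.ext ((C.K_a x.2.1.1 1).trans (C.K_a hk.1 c).symm) (Prod.ext ((x.2.2 1).trans (hd c).symm) e.symm)
  obtain ⟨j, hj⟩ := h2
  obtain ⟨e, he⟩ := h3
  have he1 : e ≤ 1 := by rw [he] at h4; exact Nat.le_of_mul_le_mul_left (by simpa using h4) hH
  have hS' : Nat.card S = Nat.card C.H * (j * m + e) := by rw [h1, hj, he]; ring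
  have hK := C.card_K'
  have hX := C.card_X
  rw [← hS, hS'] at hK hX
  have hk0 : j * m + e ≠ 0 := fun h => by
    obtain ⟨w, hw⟩ := C.exists_w
    haveI : Nonempty S := ⟨⟨w, hw⟩⟩
    rw [h, mul_zero] at hS'
    exact (Nat.card_pos (α := S)).ne' hS'
  have hd : j * m + e + 1 ∣ Fintype.card F * (1 + (j * m + e) * Fintype.card F) := by
    have := card_subgroup_dvd_card C.K
    rw [hK, hX] at this
    refine Nat.dvd_of_mul_dvd_mul_left hH ?_
    convert this using 1 <;> ring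
  have hcop : (j * m + e + 1).Coprime (Fintype.card F) := by
    rw [hF]
    refine Nat.Coprime.pow_right _ ((Nat.Prime.coprime_iff_not_dvd Fact.out).2 fun h => C.not_dvd_K ?_).symm
    rw [hK]; exact h.trans ⟨Nat.card C.H, by ring⟩
  have hd2 := hcop.dvd_of_dvd_mul_left hd
  have hd3 : j * m + e + 1 ∣ 2 * m := by
    have : (j * m + e + 1) * Fintype.card F = 1 + (j * m + e) * Fintype.card F + 2 * m := by
      rw [hq]; ring
    exact (Nat.dvd_add_right hd2).1 (this ▸ dvd_mul_right _ _)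
  rw [hK, arith_k hm rfl he1 hk0 hd3]; ring

/-- the data after the counting argument -/
structure W (m : ℕ) (w : X) : Prop where
  hq : Fintype.card F = 2 * m + 1
  hm : Odd m
  wK : w ∈ C.K
  wn : w ∉ C.NZ
  two : ∀ k ∈ C.K, k ∉ C.NZ → w⁻¹ * k ∈ C.NZ
  card : Nat.card X = Nat.card C.H * (Fintype.card F * (Fintype.card F + 1))

theorem exists_W [Fact p.Prime] (hF : Fintype.card F = p ^ n) (hq : Fintype.card F = 2 * m + 1) (hm : Odd m) :
    ∃ w, C.W m w := by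
  obtain ⟨w, h1, h2⟩ := C.exists_w
  have hK := C.card_K hF hq hm
  have hi : (C.H.subgroupOf C.K).index = 2 := by
    have := (C.H.subgroupOf C.K).index_mul_card
    rw [Nat.card_congr (subgroupOfEquivOfLe inf_le_left).toEquiv, hK] at this
    exact Nat.eq_of_mul_eq_mul_right Nat.card_pos this
  refine ⟨w, hq, hm, h1, h2, fun k hk hn => ?_, ?_⟩
  · have := (mul_mem_iff_of_index_two hi (a := ⟨w, h1⟩⁻¹) (b := ⟨k, hk⟩)).2 (by
      simp only [mem_subgroupOf, mem_inf, inv_mem_iff, h2, hn, and_false])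
    exact this.2
  · have h3 := C.card_K'
    rw [C.card_X, show Nat.card {x | x ∈ (C.K : Set X) ∧ x ∉ C.NZ} = Nat.card C.H by omega]; ring

namespace W
variable {C} {w : X} (D : C.W m w)
include D

theorem sq_mem : w * w ∈ C.H := by
  refine ⟨C.K.mul_mem D.wK D.wK, ?_⟩
  have := C.NZ.inv_mem (D.two w⁻¹ (C.K.inv_mem D.wK) (by rw [inv_mem_iff]; exact D.wn))
  simpa using this

theorem conj_H' {η : X} (h : η ∈ C.H) : w⁻¹ * η * w ∈ C.H := by
  refine ⟨C.K.mul_mem (C.K.mul_mem (C.K.inv_mem D.wK) h.1) D.wK, ?_⟩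
  rw [mul_assoc]
  exact D.two _ (C.K.mul_mem h.1 D.wK) fun h' => D.wn ((C.NZ.mul_mem_cancel_left h.2).1 h')

theorem conj_H {η : X} (h : η ∈ C.H) : w * η * w⁻¹ ∈ C.H := by
  have := D.conj_H' (C.H.mul_mem (C.H.mul_mem D.sq_mem h) (C.H.inv_mem D.sq_mem))
  convert this using 1; group

theorem inter {l l' : Fˣ} (e : C.h l = w * C.h l' * w⁻¹) : (l : F) ^ 2 = 1 := by
  have h1 : C.h l • w • zv (1 : F) = w • zv 1 := by rw [e, mul_smul, mul_smul, inv_smul_smul, C.h_z]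
  have h2 := C.s_ne D.wn one_ne_zero
  obtain ⟨⟨a, g, s⟩, hv⟩ : ∃ v, w • zv (1 : F) = v := ⟨_, rfl⟩
  rw [hv] at h1 h2
  rw [C.h_smul, Prod.mk.injEq, Prod.mk.injEq] at h1
  exact mul_right_cancel₀ h2 (by linear_combination h1.2.2)

theorem conj_T' {η : X} (hη : η ∈ C.H) (l : Fˣ) : ∃ l', η * (w * C.h l * w⁻¹) * η⁻¹ = w * C.h l' * w⁻¹ := by
  obtain ⟨l', e⟩ := C.conj_T (D.conj_H' hη) ⟨l, rfl⟩
  refine ⟨l', ?_⟩
  change C.h l' = w⁻¹ * η * w * C.h l * _ at e
  rw [e]; group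

theorem w_t : w * C.t * w⁻¹ = C.t := by rw [C.mem_K.1 D.wK]; group

theorem pm_sq (k : Fˣ) : ∃ r : Fˣ, k = r * r ∨ k = -1 * (r * r) := by
  have hi : (powMonoidHom 2 : Fˣ →* Fˣ).range.index = 2 := by
    rw [IsCyclic.index_powMonoidHom_range, Nat.card_units, Nat.card_eq_fintype_card, D.hq, Nat.add_sub_cancel,
      Nat.gcd_eq_right (dvd_mul_right 2 m)]
  by_cases h : k ∈ (powMonoidHom 2 : Fˣ →* Fˣ).range
  · obtain ⟨r, rfl⟩ := h; exact ⟨r, .inl (sq r)⟩
  · have h1 : -1 ∉ (powMonoidHom 2 : Fˣ →* Fˣ).range := fun ⟨r, e⟩ =>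
      C.nsq r (by rw [← sq, ← Units.val_pow_eq_pow_val, ← powMonoidHom_apply, e]; simp)
    obtain ⟨r, e⟩ := (mul_mem_iff_of_index_two hi (a := -1) (b := k)).2 (by simp only [h, h1])
    exact ⟨r, .inr (by rw [← sq, ← powMonoidHom_apply, e]; simp)⟩

theorem comm_T (l k : Fˣ) : C.h l * (w * C.h k * w⁻¹) = w * C.h k * w⁻¹ * C.h l := by
  have key : ∀ k : Fˣ, ∃ e : Fˣ, (e : F) ^ 2 = 1 ∧
      w * C.h k * w⁻¹ * C.h l * (w * C.h k * w⁻¹)⁻¹ = C.h (e * l) := fun k => by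
    obtain ⟨l1, e1⟩ := C.conj_T (D.conj_H (C.h_mem_H k)) ⟨l, rfl⟩
    obtain ⟨l2, e2⟩ := D.conj_T' (C.h_mem_H l) k⁻¹
    change C.h l1 = w * C.h k * w⁻¹ * C.h l * _ at e1
    refine ⟨l1 * l⁻¹, D.inter (l' := k * l2) ?_, by rw [← e1]; congr 1; group⟩
    rw [← C.h_mul, ← C.h_mul, ← C.h_inv, e1]
    calc _ = w * C.h k * w⁻¹ * (C.h l * (w * C.h k⁻¹ * w⁻¹) * (C.h l)⁻¹) := by rw [← C.h_inv]; group
      _ = _ := by rw [e2]; group
  have hsq : ∀ k : Fˣ, C.h l * (w * C.h (k * k) * w⁻¹) = w * C.h (k * k) * w⁻¹ * C.h l := fun k => by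
    obtain ⟨e, he, h⟩ := key k
    have he' : ∀ x ∈ C.K, x * C.h e = C.h e * x := fun x hx => by
      rcases mul_self_eq_one_iff.1 ((sq _).symm.trans he) with h6 | h6
      · rw [show e = 1 from Units.ext h6, C.h_one, mul_one, one_mul]
      · rw [show C.h e = C.t by rw [t]; congr 1; exact Units.ext (by simp [h6])]; exact C.mem_K.1 hx
    have hee : C.h e * C.h e = 1 := by
      rw [C.h_mul, show e * e = 1 from Units.ext ((sq _).symm.trans he), C.h_one]
    have hu := he' _ (D.conj_H (C.h_mem_H k)).1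
    rw [← C.h_mul, mul_inv_eq_iff_eq_mul] at h
    rw [← C.h_mul, show w * (C.h k * C.h k) * w⁻¹ = w * C.h k * w⁻¹ * (w * C.h k * w⁻¹) by group]
    generalize w * C.h k * w⁻¹ = u at h hu
    symm
    calc u * u * C.h l = u * C.h e * C.h l * u := by rw [mul_assoc, h]; group
      _ = C.h e * (u * C.h l) * u := by rw [hu]; group
      _ = C.h e * C.h e * (C.h l * (u * u)) := by rw [h]; group
      _ = _ := by rw [hee, one_mul]
  obtain ⟨r, hr⟩ := D.pm_sq k
  rcases hr with rfl | rfl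
  · exact hsq r
  · have h1 : w * C.h (-1 * (r * r)) * w⁻¹ = C.t * (w * C.h (r * r) * w⁻¹) := by
      rw [← C.h_mul]; nth_rewrite 1 [← D.w_t]; rw [t]; group
    rw [h1, ← mul_assoc, C.h_t, mul_assoc, hsq, ← mul_assoc]

/-- the second torus as a homomorphism -/
def hW (C : Cfg p F X) (w : X) : Fˣ →* X := (MulAut.conj w).toMonoidHom.comp C.hH
omit D in
theorem hW_apply (l : Fˣ) : hW C w l = w * C.h l * w⁻¹ := rfl

theorem card_H : Nat.card C.H = 2 * m * m ∧ C.T ⊔ (hW C w).range = C.H := by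
  have hm0 := D.hm.pos
  have hT : Nat.card C.T = 2 * m := by rw [C.card_T, D.hq, Nat.add_sub_cancel]
  have hi : Function.Injective (hW C w) := (MulAut.conj w).injective.comp C.hH_inj
  have hT' : Nat.card (hW C w).range = 2 * m := by
    rw [← Nat.card_congr (MonoidHom.ofInjective hi).toEquiv, Nat.card_units, Nat.card_eq_fintype_card, D.hq,
      Nat.add_sub_cancel]
  have hle' : (hW C w).range ≤ C.H := by rintro _ ⟨l, rfl⟩; exact D.conj_H (C.h_mem_H l)
  have hI : (hW C w).range ⊓ C.T = zpowers C.t := by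
    apply le_antisymm
    · rintro _ ⟨⟨l', e⟩, l, rfl⟩
      rcases mul_self_eq_one_iff.1 ((sq _).symm.trans (D.inter e.symm)) with h6 | h6
      · rw [show l = 1 from Units.ext h6, map_one]; exact one_mem _
      · rw [show l = -1 from Units.ext (by simp [h6])]; exact mem_zpowers _
    · rw [zpowers_le]; exact ⟨⟨-1, D.w_t⟩, -1, rfl⟩
  have h1 := H23.card_sup_mul_card_inf (H := (hW C w).range) (N := C.T) fun x hx =>
    H23.mem_normalizer_of_conj fun a ha => C.conj_T (hle' hx) ha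
  rw [hI, Nat.card_zpowers, orderOf_eq_prime (p := 2) (by rw [sq, C.t_sq]) C.t_ne, hT, hT', sup_comm] at h1
  have h2 : Nat.card ↥(C.T ⊔ (hW C w).range) = 2 * m * m := by nlinarith
  have hle : C.T ⊔ (hW C w).range ≤ C.H := sup_le C.T_le hle'
  obtain ⟨j, hj⟩ := card_dvd_of_le hle
  -- the orbit of a central vector
  have h3 := MulAction.index_stabilizer C.H (zv (1 : F))
  have h4 : MulAction.stabilizer C.H (zv (1 : F)) = C.T.subgroupOf C.H := by
    ext x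
    exact ⟨fun h => C.mem_T_of x.2.1 one_ne_zero h, fun ⟨l, e⟩ => by
      change (x : X) • zv (1 : F) = _
      change C.h l = x at e
      rw [← e, C.h_z]⟩
  have h5 := (C.T.subgroupOf C.H).index_mul_card
  rw [Nat.card_congr (subgroupOfEquivOfLe C.T_le).toEquiv, hT, ← h4, h3, hj, h2] at h5
  have h6 : (MulAction.orbit C.H (zv (1 : F))).ncard = m * j :=
    Nat.eq_of_mul_eq_mul_right (show 0 < 2 * m by omega) (by rw [h5]; ring)
  have h7 : MulAction.orbit C.H (zv (1 : F)) ⊆ zv '' {c : F | c ≠ 0} := by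
    rintro _ ⟨x, rfl⟩
    obtain ⟨d, e⟩ := x.2.2
    exact ⟨d, z_ne one_ne_zero e, e.symm⟩
  have h8 : (zv '' {c : F | c ≠ 0}).ncard = 2 * m := by
    rw [Set.ncard_image_of_injective _ fun c d e => congrArg (·.2.1) e,
      show {c : F | c ≠ 0} = Set.univ \ {0} by ext; simp, Set.ncard_diff_singleton_of_mem (Set.mem_univ _),
      Set.ncard_univ, Nat.card_eq_fintype_card, D.hq, Nat.add_sub_cancel]
  have h9 : (MulAction.orbit C.H (zv (1 : F))).ncard < 2 * m := by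
    rw [← h8]
    refine Set.ncard_lt_ncard (h7.ssubset_of_ne fun e => ?_)
    obtain ⟨c, hc, d, hd, hn⟩ := C.nconj
    obtain ⟨x, hx⟩ : zv c ∈ MulAction.orbit C.H (zv (1 : F)) := e ▸ ⟨c, hc, rfl⟩
    obtain ⟨x', hx'⟩ : zv d ∈ MulAction.orbit C.H (zv (1 : F)) := e ▸ ⟨d, hd, rfl⟩
    apply hn ((x' : X) * (x : X)⁻¹)
    change (x : X) • zv (1 : F) = _ at hx
    change (x' : X) • zv (1 : F) = _ at hx'
    rw [mul_smul, ← hx, inv_smul_smul, hx']
  have hj0 : j ≠ 0 := by rintro rfl; exact (Nat.card_pos (α := C.H)).ne' (by simpa using hj)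
  have hj1 : j = 1 := by
    rw [h6] at h9
    have : j < 2 := by nlinarith
    omega
  rw [hj1, mul_one] at hj
  exact ⟨hj.trans h2, eq_of_le_of_card_ge hle hj.le⟩

theorem exists_H {η : X} (h : η ∈ C.H) : ∃ l k, η = w * C.h k * w⁻¹ * C.h l := by
  rw [← D.card_H.2, sup_comm, H23.mem_sup_of_le_normalizer_right] at h
  · obtain ⟨_, ⟨k, rfl⟩, _, ⟨l, rfl⟩, e⟩ := h
    exact ⟨l, k, e.symm⟩
  · rintro _ ⟨k, rfl⟩
    exact H23.mem_normalizer_of_conj fun a ha => C.conj_T (D.conj_H (C.h_mem_H k)) ha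

theorem comm_h {η : X} (h : η ∈ C.H) (l : Fˣ) : C.h l * η = η * C.h l := by
  obtain ⟨l', k, rfl⟩ := D.exists_H h
  rw [← mul_assoc, D.comm_T, mul_assoc, mul_assoc _ (C.h l'), C.h_mul, C.h_mul, mul_comm l]

theorem comm_H {η η' : X} (h : η ∈ C.H) (h' : η' ∈ C.H) : η * η' = η' * η := by
  obtain ⟨l, k, rfl⟩ := D.exists_H h
  have h1 := D.comm_h (D.conj_H' h') k
  calc _ = w * (C.h k * (w⁻¹ * η' * w)) * w⁻¹ * C.h l := by rw [mul_assoc, D.comm_h h']; group
    _ = _ := by rw [h1]; group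

end W
end Cfg
end Cfsg.Agent.H76
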