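import Cfsg.Agent.H76.HyE
import Cfsg.Agent.H76.HyX2

/-! The action of `N(M)` on `M`. -/

set_option autoImplicit false
set_option linter.unusedSectionVars false
open Subgroup

namespace Cfsg.Agent.H76
open Cm
variable {F G : Type*} [Field F] [Group G] {ψ : Cm F →* G}

/-- coordinates on `M` -/
def mmHom (F : Type*) [Field F] : Multiplicative (F × F × F) →* Cm F :=
  MonoidHom.mk' (fun v => mm v.toAdd.1 v.toAdd.2.1 v.toAdd.2.2) fun v w => (mm_mul _ _ _ _ _ _).symm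

theorem B0_le_norm [Finite F] : B0 F ≤ normalizer (M0 F : Set (Cm F)) := fun x hx =>
  H23.mem_normalizer_of_conj fun a ha => by
    obtain ⟨a', c', s', rfl⟩ := mem_M0.1 ha
    obtain ⟨a, c, s, b, l, rfl⟩ := exists_of_B0 hx
    rw [show mm a c s * yy b * hh l * mm a' c' s' * (mm a c s * yy b * hh l)⁻¹ =
      mm a c s * (yy b * (hh l * mm a' c' s' * (hh l)⁻¹) * (yy b)⁻¹) * (mm a c s)⁻¹ by group, hh_mm, yy_mm]
    exact (M0 F).mul_mem ((M0 F).mul_mem (mm_mem _ _ _) (mm_mem _ _ _)) ((M0 F).inv_mem (mm_mem _ _ _))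

theorem B0_le_normP [Finite F] : B0 F ≤ normalizer (P0 F : Set (Cm F)) := fun x hx =>
  H23.mem_normalizer_of_conj fun a ha => by
    have h1 : x.r = 0 := hx
    have := x.det
    rw [h1] at this
    obtain ⟨h2, h3, h4⟩ := ha
    refine ⟨by simp [h1, h2], ?_, ?_⟩
    · simp [h1, h2, h3]; linear_combination this
    · simp [h1, h2, h4]; linear_combination this

theorem pgroup_zpowers {p k : ℕ} {x : G} (h : x ^ p ^ k = 1) : IsPGroup p (zpowers x) := by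
  rintro ⟨_, j, rfl⟩
  refine ⟨k, Subtype.ext ?_⟩
  change (x ^ j) ^ p ^ k = 1
  rw [← zpow_natCast, ← zpow_mul, mul_comm, zpow_mul, zpow_natCast, h, one_zpow]

theorem mem_P0_of_pow [Fintype F] {p n : ℕ} [Fact p.Prime] (hp : p ≠ 2) (hF : Fintype.card F = p ^ n) {x : Cm F}
    (hx : x ∈ B0 F) {k : ℕ} (h : x ^ p ^ k = 1) : x ∈ P0 F := by
  have h1 := pgroup_zpowers h
  have := P0_max hp hF ((pgroup_P0 hF).to_sup_of_normal_left' h1 (zpowers_le.2 (B0_le_normP hx))) le_sup_left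
  exact this ▸ mem_sup_right (mem_zpowers x)

namespace Hy
variable (h : Hy ψ)
include h

/-- the subgroup `M` -/
abbrev MM (ψ : Cm F →* G) : Subgroup G := (M0 F).map ψ
/-- its normalizer -/
abbrev NN (ψ : Cm F →* G) : Subgroup G := normalizer (MM ψ : Set G)

/-- coordinates on `M` -/
noncomputable def eMM : Multiplicative (F × F × F) ≃* MM ψ :=
  (MonoidHom.ofInjective (f := ψ.comp (mmHom F)) (h.inj.comp fun v w e => by
    obtain ⟨h1, h2, h3⟩ := mm_inj e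
    exact Multiplicative.toAdd.injective (Prod.ext h1 (Prod.ext h2 h3)))).trans (MulEquiv.subgroupCongr (by
      ext x
      constructor
      · rintro ⟨v, rfl⟩; exact ⟨_, mm_mem _ _ _, rfl⟩
      · rintro ⟨y, hy, rfl⟩
        obtain ⟨a, c, s, rfl⟩ := mem_M0.1 hy
        exact ⟨Multiplicative.ofAdd (a, c, s), rfl⟩))
theorem eMM_val (v : Multiplicative (F × F × F)) :
    (h.eMM v : G) = ψ (mm v.toAdd.1 v.toAdd.2.1 v.toAdd.2.2) := rfl

/-- the action -/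
noncomputable def rho : NN ψ →* MulAut (Multiplicative (F × F × F)) :=
  (MulAut.congr h.eMM.symm).toMonoidHom.comp (normalizerMonoidHom (MM ψ))

/-- the automizer -/
abbrev XX : Type _ := h.rho.range

noncomputable instance : DistribMulAction h.XX (F × F × F) where
  smul x v := (x.1 (Multiplicative.ofAdd v)).toAdd
  one_smul _ := rfl
  mul_smul _ _ _ := rfl
  smul_zero x := congrArg Multiplicative.toAdd (map_one x.1)
  smul_add x v w := congrArg Multiplicative.toAdd (map_mul x.1 (Multiplicative.ofAdd v) (Multiplicative.ofAdd w))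

/-- image in the automizer -/
noncomputable def bar : NN ψ →* h.XX := h.rho.rangeRestrict
theorem bar_surj : Function.Surjective h.bar := h.rho.rangeRestrict_surjective

theorem bar_spec (g : NN ψ) (v : F × F × F) :
    ψ (mm (h.bar g • v).1 (h.bar g • v).2.1 (h.bar g • v).2.2) = g * ψ (mm v.1 v.2.1 v.2.2) * (g : G)⁻¹ := by
  have : (h.eMM (h.rho g (Multiplicative.ofAdd v)) : G) = g * h.eMM (Multiplicative.ofAdd v) * (g : G)⁻¹ := by
    simp [rho]
  exact this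

theorem bar_iff {g : NN ψ} {a c s a' c' s' : F} :
    h.bar g • (a, c, s) = (a', c', s') ↔ g * ψ (mm a c s) * (g : G)⁻¹ = ψ (mm a' c' s') := by
  rw [← h.bar_spec g (a, c, s)]
  constructor
  · intro e; rw [e]
  · intro e
    obtain ⟨h1, h2, h3⟩ := mm_inj (h.inj e)
    exact Prod.ext h1 (Prod.ext h2 h3)

theorem cent_MM {g : G} (e : ∀ a c s, g * ψ (mm a c s) = ψ (mm a c s) * g) : g ∈ MM ψ := by
  obtain ⟨x, rfl⟩ := h.cent 1 one_ne_zero g (e 0 1 0)
  exact mem_map_of_mem _ (cent_M0 h.two fun a c s => h.inj (by rw [map_mul, map_mul, e]))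

theorem bar_ker : h.bar.ker = (MM ψ).subgroupOf (NN ψ) := by
  ext g
  constructor
  · intro e
    refine h.cent_MM fun a c s => mul_inv_eq_iff_eq_mul.1 (h.bar_iff.1 ?_)
    rw [MonoidHom.mem_ker.1 e, one_smul]
  · rintro ⟨y, hy, e⟩
    obtain ⟨a, c, s, rfl⟩ := mem_M0.1 hy
    refine Subtype.ext (MulEquiv.ext fun v => Multiplicative.toAdd.injective ?_)
    change h.bar g • (v.toAdd.1, v.toAdd.2.1, v.toAdd.2.2) = (v.toAdd.1, v.toAdd.2.1, v.toAdd.2.2)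
    refine h.bar_iff.2 ?_
    change _ = (g : G) at e
    rw [← e, ← map_inv, ← map_mul, ← map_mul, mm_inv, mm_mul, mm_mul]; simp

theorem mem_B0 {x : Cm F} (hx : ψ x ∈ NN ψ) : x ∈ B0 F := by
  obtain ⟨y, hy, e⟩ := H23.conj_mem_of_mem_normalizer hx (mem_map_of_mem ψ (mm_mem (1 : F) 0 0))
  rw [← map_inv, ← map_mul, ← map_mul] at e
  exact norm_M0 (h.inj e ▸ hy)

variable [Fintype F] [Finite G] {p n : ℕ} [Fact p.Prime]

omit h in
theorem mem_NN {x : Cm F} (hx : x ∈ B0 F) : ψ x ∈ NN ψ :=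
  le_normalizer_map ψ (mem_map_of_mem ψ (B0_le_norm hx))

theorem pcentral (hp : p ≠ 2) (hF : Fintype.card F = p ^ n) {P : Sylow p G} {u : G} (hu : u ∈ (P : Subgroup G))
    (h1 : u ≠ 1) (hc : ∀ y ∈ (P : Subgroup G), y * u = u * y) : ∃ g c, c ≠ 0 ∧ u = g * ψ (zz c) * g⁻¹ := by
  obtain ⟨g, e⟩ := h.exists_cj hp hF P
  rw [← e] at hu hc
  obtain ⟨x, hx, rfl⟩ := hu
  obtain ⟨c, rfl⟩ := center_P0 h.two hx fun y hy => (h.cj g).inj (by
    rw [map_mul, map_mul]; exact hc _ (mem_map_of_mem _ hy))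
  exact ⟨g, c, by rintro rfl; exact h1 (map_one _), rfl⟩

theorem norm_P (hp : p ≠ 2) (hF : Fintype.card F = p ^ n) {g : G} (hg : g ∈ NN ψ) {d : F}
    (e : g * ψ (zz 1) * g⁻¹ = ψ (zz d)) : g ∈ normalizer ((P0 F).map ψ : Set G) := by
  have hd : d ≠ 0 := by
    rintro rfl
    rw [show zz (0 : F) = 1 from rfl, map_one, conj_eq_one_iff, ← map_one ψ] at e
    exact one_ne_zero (mm_inj (h.inj e : mm (0 : F) 1 0 = mm 0 0 0)).2.1
  apply H23.mem_normalizer_of_conj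
  rintro _ ⟨x, hx, rfl⟩
  obtain ⟨y, hy⟩ := h.cent d hd (g * ψ x * g⁻¹) (by
    rw [← e]
    calc _ = g * ψ (x * zz 1) * g⁻¹ := by rw [map_mul]; group
      _ = _ := by rw [zz_comm, map_mul]; group)
  obtain ⟨k, hk⟩ := pgroup_P0 hF ⟨x, hx⟩
  have hk' : x ^ p ^ k = 1 := congrArg Subtype.val hk
  refine ⟨y, mem_P0_of_pow hp hF (h.mem_B0 ?_) (k := k) (h.inj ?_), hy⟩
  · rw [hy]; exact (NN ψ).mul_mem ((NN ψ).mul_mem hg (mem_NN (P0_le hx))) ((NN ψ).inv_mem hg)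
  · rw [map_pow, hy, conj_pow, ← map_pow, hk', map_one]; group

/-- the configuration on the automizer of `M` -/
noncomputable def cfg (hp : p ≠ 2) (hF : Fintype.card F = p ^ n) (nsq : ∀ a : F, a * a ≠ -1)
    (nc : ∃ c : F, c ≠ 0 ∧ ∃ d : F, d ≠ 0 ∧ ∀ g : G, g * ψ (zz c) * g⁻¹ ≠ ψ (zz d))
    (nn : ∃ g ∈ NN ψ, ∀ d : F, g * ψ (zz 1) * g⁻¹ ≠ ψ (zz d)) : Cfg p F h.XX where
  y b := h.bar ⟨ψ (yy b), mem_NN (P0_le (yy_mem b))⟩
  h l := h.bar ⟨ψ (hh l), mem_NN (hh_mem l)⟩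
  two := h.two
  nsq := nsq
  y_smul b a c s := h.bar_iff.2 (by rw [← yy_mm, map_mul, map_mul, map_inv])
  h_smul l a c s := h.bar_iff.2 (by rw [← hh_mm, map_mul, map_mul, map_inv])
  faith x hx := Subtype.ext (MulEquiv.ext fun v => Multiplicative.toAdd.injective (hx v.toAdd))
  stab c hc x hx := by
    obtain ⟨g, rfl⟩ := h.bar_surj x
    obtain ⟨u, hu⟩ := h.cent c hc g (mul_inv_eq_iff_eq_mul.1 (h.bar_iff.1 hx))
    obtain ⟨a, c', s, b, l, rfl⟩ := exists_of_B0 (h.mem_B0 (hu ▸ g.2))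
    refine ⟨b, l, ?_⟩
    have h1 : h.bar ⟨ψ (mm a c' s), mem_NN (P0_le (M0_le (mm_mem _ _ _)))⟩ = 1 := by
      rw [← MonoidHom.mem_ker, bar_ker]; exact mem_map_of_mem _ (mm_mem _ _ _)
    rw [← one_mul (h.bar _ * h.bar _), ← h1, ← map_mul, ← map_mul]
    congr 1; apply Subtype.ext
    rw [← hu, map_mul, map_mul, mul_assoc]; rfl
  nconj := by
    obtain ⟨c, hc, d, hd, e⟩ := nc
    refine ⟨c, hc, d, hd, fun x hx => ?_⟩
    obtain ⟨g, rfl⟩ := h.bar_surj x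
    exact e g (h.bar_iff.1 hx)
  nnorm := by
    obtain ⟨g, hg, e⟩ := nn
    exact ⟨h.bar ⟨g, hg⟩, fun d hd => e d (h.bar_iff.1 hd)⟩
  syl x hx := by
    obtain ⟨g, rfl⟩ := h.bar_surj x
    rw [← map_pow, ← MonoidHom.mem_ker, bar_ker] at hx
    obtain ⟨k, hk⟩ := ((pgroup_P0 hF).to_le M0_le).map ψ ⟨_, hx⟩
    have hk' : (g : G) ^ p ^ (k + 1) = 1 := by
      rw [pow_succ', pow_mul]; exact congrArg Subtype.val hk
    have h1 := pgroup_zpowers hk'
    obtain ⟨k, hk, e⟩ := ((h.sylow hp hF).mono (L := NN ψ) (by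
      rintro _ ⟨x, hx, rfl⟩; exact mem_NN (P0_le hx)) le_top).exists_conj h1 (zpowers_le.2 g.2)
    obtain ⟨u, hu, e'⟩ := e _ (mem_zpowers _)
    obtain ⟨a, c', s, b, rfl⟩ := exists_of_P0 hu
    refine ⟨(h.bar ⟨k, hk⟩)⁻¹, b, ?_⟩
    have h1 : h.bar ⟨ψ (mm a c' s), mem_NN (P0_le (M0_le (mm_mem _ _ _)))⟩ = 1 := by
      rw [← MonoidHom.mem_ker, bar_ker]; exact mem_map_of_mem _ (mm_mem _ _ _)
    rw [← one_mul (h.bar ⟨ψ (yy b), _⟩), ← h1, inv_inv, ← map_inv, ← map_mul, ← map_mul, ← map_mul]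
    congr 1; apply Subtype.ext
    change (g : G) = k⁻¹ * (ψ _ * ψ _) * k
    rw [← map_mul, e']; group

end Hy
end Cfsg.Agent.H76
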