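import Cfsg.Agent.H91.Sp4B
import Cfsg.Agent.H9.SpCount

/-! Coordinates on the centralizer `q^(1+2) : SL₂(q)` of a transvection of `PSp₄(q)`, `q` odd. -/

set_option autoImplicit false
open Matrix MatrixGroups

namespace Cfsg.Agent.H76

/-- the group `q^(1+2) : SL₂(q)` -/
@[ext] structure Cm (F : Type*) [Field F] where
  a : F
  b : F
  c : F
  p : F
  q : F
  r : F
  s : F
  det : p * s - q * r = 1

namespace Cm
variable {F : Type*} [Field F]

instance : Mul (Cm F) := ⟨fun x y => ⟨x.a + x.p * y.a + x.q * y.b, x.b + x.r * y.a + x.s * y.b,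
  x.c + y.c + x.a * (x.r * y.a + x.s * y.b) - x.b * (x.p * y.a + x.q * y.b),
  x.p * y.p + x.q * y.r, x.p * y.q + x.q * y.s, x.r * y.p + x.s * y.r, x.r * y.q + x.s * y.s,
  by linear_combination (y.p * y.s - y.q * y.r) * x.det + y.det⟩⟩
instance : One (Cm F) := ⟨⟨0, 0, 0, 1, 0, 0, 1, by ring⟩⟩
instance : Inv (Cm F) := ⟨fun x => ⟨x.q * x.b - x.s * x.a, x.r * x.a - x.p * x.b, -x.c, x.s, -x.q, -x.r, x.p,
  by linear_combination x.det⟩⟩

@[simp] theorem mul_a (x y : Cm F) : (x * y).a = x.a + x.p * y.a + x.q * y.b := rfl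
@[simp] theorem mul_b (x y : Cm F) : (x * y).b = x.b + x.r * y.a + x.s * y.b := rfl
@[simp] theorem mul_c (x y : Cm F) :
  (x * y).c = x.c + y.c + x.a * (x.r * y.a + x.s * y.b) - x.b * (x.p * y.a + x.q * y.b) := rfl
@[simp] theorem mul_p (x y : Cm F) : (x * y).p = x.p * y.p + x.q * y.r := rfl
@[simp] theorem mul_q (x y : Cm F) : (x * y).q = x.p * y.q + x.q * y.s := rfl
@[simp] theorem mul_r (x y : Cm F) : (x * y).r = x.r * y.p + x.s * y.r := rfl
@[simp] theorem mul_s (x y : Cm F) : (x * y).s = x.r * y.q + x.s * y.s := rfl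
@[simp] theorem one_a : (1 : Cm F).a = 0 := rfl
@[simp] theorem one_b : (1 : Cm F).b = 0 := rfl
@[simp] theorem one_c : (1 : Cm F).c = 0 := rfl
@[simp] theorem one_p : (1 : Cm F).p = 1 := rfl
@[simp] theorem one_q : (1 : Cm F).q = 0 := rfl
@[simp] theorem one_r : (1 : Cm F).r = 0 := rfl
@[simp] theorem one_s : (1 : Cm F).s = 1 := rfl
@[simp] theorem inv_a (x : Cm F) : x⁻¹.a = x.q * x.b - x.s * x.a := rfl
@[simp] theorem inv_b (x : Cm F) : x⁻¹.b = x.r * x.a - x.p * x.b := rfl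
@[simp] theorem inv_c (x : Cm F) : x⁻¹.c = -x.c := rfl
@[simp] theorem inv_p (x : Cm F) : x⁻¹.p = x.s := rfl
@[simp] theorem inv_q (x : Cm F) : x⁻¹.q = -x.q := rfl
@[simp] theorem inv_r (x : Cm F) : x⁻¹.r = -x.r := rfl
@[simp] theorem inv_s (x : Cm F) : x⁻¹.s = x.p := rfl

instance : Group (Cm F) := Group.ofLeftAxioms
  (fun x y z => by
    ext <;> simp only [mul_a, mul_b, mul_c, mul_p, mul_q, mul_r, mul_s]
    · ring
    · ring
    · linear_combination (y.a * (y.r * z.a + y.s * z.b) - y.b * (y.p * z.a + y.q * z.b)) * x.det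
    all_goals ring)
  (fun x => by ext <;> simp)
  (fun x => by
    have := x.det
    ext <;> simp only [mul_a, mul_b, mul_c, mul_p, mul_q, mul_r, mul_s, inv_a, inv_b, inv_c, inv_p,
      inv_q, inv_r, inv_s, one_a, one_b, one_c, one_p, one_q, one_r, one_s]
    · ring
    · ring
    · ring
    · linear_combination this
    · ring
    · ring
    · linear_combination this)

/-- elements of the abelian subgroup `M` -/
@[simps] def mm (a c s : F) : Cm F := ⟨a, 0, c, 1, s, 0, 1, by ring⟩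
/-- central elements -/
abbrev zz (c : F) : Cm F := mm 0 c 0
/-- the complement of `M` in the Sylow subgroup -/
@[simps] def yy (b : F) : Cm F := ⟨0, b, 0, 1, 0, 0, 1, by ring⟩
/-- the torus -/
@[simps] def hh (l : Fˣ) : Cm F := ⟨0, 0, 0, l, 0, 0, (l⁻¹ : Fˣ), by simp⟩

theorem mm_mul (a c s a' c' s' : F) : mm a c s * mm a' c' s' = mm (a + a') (c + c') (s + s') := by
  ext <;> simp [add_comm]
theorem mm_zero : mm (0 : F) 0 0 = 1 := rfl
theorem mm_inv (a c s : F) : (mm a c s)⁻¹ = mm (-a) (-c) (-s) := by ext <;> simp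
theorem mm_inj {a c s a' c' s' : F} (h : mm a c s = mm a' c' s') : a = a' ∧ c = c' ∧ s = s' :=
  ⟨congrArg Cm.a h, congrArg Cm.c h, congrArg Cm.q h⟩
theorem mm_pow (a c s : F) (n : ℕ) : mm a c s ^ n = mm (n * a) (n * c) (n * s) := by
  induction n with
  | zero => simp [mm_zero]
  | succ n ih => rw [pow_succ, ih, mm_mul]; push_cast; congr 1 <;> ring
theorem yy_mul (b b' : F) : yy b * yy b' = yy (b + b') := by ext <;> simp
theorem yy_zero : yy (0 : F) = 1 := rfl
theorem yy_inv (b : F) : (yy b)⁻¹ = yy (-b) := by ext <;> simp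
theorem hh_mul (l k : Fˣ) : hh l * hh k = hh (l * k) := by ext <;> simp [mul_comm]
theorem hh_one : hh (1 : Fˣ) = 1 := by ext <;> simp
theorem hh_inv (l : Fˣ) : (hh l)⁻¹ = hh l⁻¹ := by ext <;> simp
theorem yy_mm (b a c s : F) :
    yy b * mm a c s * (yy b)⁻¹ = mm (a - s * b) (c - 2 * a * b + s * b ^ 2) s := by
  ext <;> simp <;> ring
theorem hh_mm (l : Fˣ) (a c s : F) : hh l * mm a c s * (hh l)⁻¹ = mm (l * a) c (l ^ 2 * s) := by
  ext <;> simp <;> ring
theorem hh_yy (l : Fˣ) (b : F) : hh l * yy b * (hh l)⁻¹ = yy ((l⁻¹ : Fˣ) * b) := by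
  ext <;> simp
theorem zz_comm (c : F) (x : Cm F) : x * zz c = zz c * x := by
  ext <;> simp [add_comm]

/-- `SL₂` inside -/
def sl : SL(2, F) →* Cm F := MonoidHom.mk' (fun g => ⟨0, 0, 0, g.1 0 0, g.1 0 1, g.1 1 0, g.1 1 1, by
    have := g.det_coe; rwa [det_fin_two] at this⟩) (fun g h => by
  ext <;> simp [Matrix.mul_apply, Fin.sum_univ_two])
@[simp] theorem sl_a (g : SL(2, F)) : (sl g).a = 0 := rfl
@[simp] theorem sl_b (g : SL(2, F)) : (sl g).b = 0 := rfl
@[simp] theorem sl_c (g : SL(2, F)) : (sl g).c = 0 := rfl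
@[simp] theorem sl_p (g : SL(2, F)) : (sl g).p = g.1 0 0 := rfl
@[simp] theorem sl_q (g : SL(2, F)) : (sl g).q = g.1 0 1 := rfl
@[simp] theorem sl_r (g : SL(2, F)) : (sl g).r = g.1 1 0 := rfl
@[simp] theorem sl_s (g : SL(2, F)) : (sl g).s = g.1 1 1 := rfl
theorem sl_inj : Function.Injective (sl : SL(2, F) → Cm F) := fun g h e => by
  ext i j
  fin_cases i <;> fin_cases j
  exacts [congrArg Cm.p e, congrArg Cm.q e, congrArg Cm.r e, congrArg Cm.s e]
/-- the projection onto `SL₂` -/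
def pj : Cm F →* SL(2, F) := MonoidHom.mk' (fun x => ⟨!![x.p, x.q; x.r, x.s], by
    rw [det_fin_two_of]; exact x.det⟩) (fun x y => by
  apply Subtype.ext
  change !![(x * y).p, (x * y).q; (x * y).r, (x * y).s] = !![x.p, x.q; x.r, x.s] * !![y.p, y.q; y.r, y.s]
  ext i j; fin_cases i <;> fin_cases j <;> simp [Matrix.mul_apply, Fin.sum_univ_two])
theorem pj_val (x : Cm F) : (pj x).1 = !![x.p, x.q; x.r, x.s] := rfl
theorem pj_sl (g : SL(2, F)) : pj (sl g) = g := by
  ext i j; fin_cases i <;> fin_cases j <;> rfl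

instance [Finite F] : Finite (Cm F) :=
  Finite.of_injective (fun x : Cm F => (x.a, x.b, x.c, x.p, x.q, x.r, x.s)) fun x y h => by
    simp only [Prod.mk.injEq] at h
    obtain ⟨h1, h2, h3, h4, h5, h6, h7⟩ := h
    ext <;> assumption

/-- the Borel subgroup -/
def B0 (F : Type*) [Field F] : Subgroup (Cm F) where
  carrier := {x | x.r = 0}
  mul_mem' := fun {x y} hx hy => by
    simp only [Set.mem_setOf_eq, mul_r] at *; rw [hx, hy]; ring
  one_mem' := rfl
  inv_mem' := fun {x} hx => by simp only [Set.mem_setOf_eq, inv_r] at *; rw [hx]; ring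
/-- the Sylow subgroup -/
def P0 (F : Type*) [Field F] : Subgroup (Cm F) where
  carrier := {x | x.r = 0 ∧ x.p = 1 ∧ x.s = 1}
  mul_mem' := fun {x y} hx hy => by
    simp only [Set.mem_setOf_eq, mul_r, mul_p, mul_s] at *; simp [hx, hy]
  one_mem' := ⟨rfl, rfl, rfl⟩
  inv_mem' := fun {x} hx => by simp only [Set.mem_setOf_eq, inv_r, inv_p, inv_s] at *; simp [hx]
/-- the abelian subgroup of order `q³` -/
def M0 (F : Type*) [Field F] : Subgroup (Cm F) where
  carrier := {x | x.r = 0 ∧ x.p = 1 ∧ x.s = 1 ∧ x.b = 0}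
  mul_mem' := fun {x y} hx hy => by
    simp only [Set.mem_setOf_eq, mul_r, mul_p, mul_s, mul_b] at *; simp [hx, hy]
  one_mem' := ⟨rfl, rfl, rfl, rfl⟩
  inv_mem' := fun {x} hx => by simp only [Set.mem_setOf_eq, inv_r, inv_p, inv_s, inv_b] at *; simp [hx]
theorem mem_B0 {x : Cm F} : x ∈ B0 F ↔ x.r = 0 := Iff.rfl
theorem mem_P0 {x : Cm F} : x ∈ P0 F ↔ x.r = 0 ∧ x.p = 1 ∧ x.s = 1 := Iff.rfl
theorem mem_M0' {x : Cm F} : x ∈ M0 F ↔ x.r = 0 ∧ x.p = 1 ∧ x.s = 1 ∧ x.b = 0 := Iff.rfl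
theorem mm_mem (a c s : F) : mm a c s ∈ M0 F := ⟨rfl, rfl, rfl, rfl⟩
theorem mem_M0 {x : Cm F} : x ∈ M0 F ↔ ∃ a c s, x = mm a c s :=
  ⟨fun ⟨h1, h2, h3, h4⟩ => ⟨x.a, x.c, x.q, by ext <;> simp [h1, h2, h3, h4]⟩,
    fun ⟨_, _, _, h⟩ => h ▸ mm_mem _ _ _⟩
theorem M0_le : M0 F ≤ P0 F := fun _ h => ⟨h.1, h.2.1, h.2.2.1⟩
theorem P0_le : P0 F ≤ B0 F := fun _ h => h.1
theorem yy_mem (b : F) : yy b ∈ P0 F := ⟨rfl, rfl, rfl⟩
theorem hh_mem (l : Fˣ) : hh l ∈ B0 F := rfl
theorem exists_of_P0 {x : Cm F} (h : x ∈ P0 F) : ∃ a c s b, x = mm a c s * yy b := by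
  obtain ⟨h1, h2, h3⟩ := h
  exact ⟨x.a - x.q * x.b, x.c - (x.a - x.q * x.b) * x.b, x.q, x.b, by ext <;> simp [h1, h2, h3]⟩
theorem exists_of_B0 {x : Cm F} (h : x ∈ B0 F) : ∃ a c s b l, x = mm a c s * yy b * hh l := by
  have h1 : x.r = 0 := h
  have hd : x.p * x.s = 1 := by have := x.det; rw [h1] at this; linear_combination this
  let l : Fˣ := ⟨x.p, x.s, hd, by rw [mul_comm]; exact hd⟩
  have hm : x * (hh l)⁻¹ ∈ P0 F := by
    rw [hh_inv]
    refine ⟨by simp [h1], ?_, ?_⟩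
    · simp only [mul_p, hh_p, hh_r, mul_zero, add_zero]; exact hd
    · simp only [mul_s, hh_q, hh_s, mul_zero, zero_add, inv_inv]; rw [mul_comm]; exact hd
  obtain ⟨a, c, s, b, e⟩ := exists_of_P0 hm
  exact ⟨a, c, s, b, l, by rw [← e]; group⟩

/-- coordinates on `M` -/
def eM (F : Type*) [Field F] : F × F × F ≃ M0 F where
  toFun v := ⟨mm v.1 v.2.1 v.2.2, mm_mem _ _ _⟩
  invFun x := (x.1.a, x.1.c, x.1.q)
  left_inv _ := rfl
  right_inv x := by
    obtain ⟨x, h⟩ := x
    obtain ⟨a, c, s, rfl⟩ := mem_M0.1 h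
    rfl
theorem card_M0 [Fintype F] : Nat.card (M0 F) = Fintype.card F ^ 3 := by
  rw [← Nat.card_congr (eM F)]; simp only [Nat.card_eq_fintype_card, Fintype.card_prod]; ring
/-- coordinates on the Sylow subgroup -/
def eP (F : Type*) [Field F] : F × F × F × F ≃ P0 F where
  toFun v := ⟨⟨v.1, v.2.1, v.2.2.1, 1, v.2.2.2, 0, 1, by ring⟩, rfl, rfl, rfl⟩
  invFun x := (x.1.a, x.1.b, x.1.c, x.1.q)
  left_inv _ := rfl
  right_inv x := by
    obtain ⟨x, h1, h2, h3⟩ := x
    ext <;> simp [h1, h2, h3]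
theorem card_P0 [Fintype F] : Nat.card (P0 F) = Fintype.card F ^ 4 := by
  rw [← Nat.card_congr (eP F)]; simp only [Nat.card_eq_fintype_card, Fintype.card_prod]; ring

/-- the centre of the Sylow subgroup -/
theorem center_P0 (h2 : (2 : F) ≠ 0) {x : Cm F} (hx : x ∈ P0 F) (h : ∀ y ∈ P0 F, y * x = x * y) :
    ∃ c, x = zz c := by
  obtain ⟨h1, h3, h4⟩ := hx
  have e1 := h (yy 1) (yy_mem 1)
  have e2 := h (mm 1 0 0) (M0_le (mm_mem _ _ _))
  have a1 := congrArg Cm.a e1
  have c1 := congrArg Cm.c e1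
  have c2 := congrArg Cm.c e2
  simp [h1, h3, h4] at a1 c1 c2
  have hb : x.b = 0 := by
    apply mul_left_cancel₀ h2; linear_combination c2
  have ha : x.a = 0 := by
    apply mul_left_cancel₀ h2; rw [a1] at c1; linear_combination -c1
  exact ⟨x.c, by ext <;> simp [h1, h3, h4, ha, hb, a1]⟩
theorem center_top (h2 : (2 : F) ≠ 0) {x : Cm F} (h : ∀ y, y * x = x * y) : ∃ c, x = zz c := by
  refine center_P0 h2 ?_ fun y _ => h y
  have e1 := h (yy 1)
  have e2 := h (mm 1 0 0)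
  have a1 := congrArg Cm.b e1
  have a2 := congrArg Cm.a e2
  have b2 := congrArg Cm.b e2
  simp at a1 a2 b2
  exact ⟨b2, by linear_combination -a2, by linear_combination -a1⟩
theorem cent_M0 (h2 : (2 : F) ≠ 0) {x : Cm F} (h : ∀ a c s, mm a c s * x = x * mm a c s) : x ∈ M0 F := by
  have e2 := h 1 0 0
  have a2 := congrArg Cm.a e2
  have b2 := congrArg Cm.b e2
  have c2 := congrArg Cm.c e2
  simp at a2 b2 c2
  have hp : x.p = 1 := by linear_combination -a2
  have hd := x.det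
  rw [hp, b2] at hd c2
  refine ⟨b2, hp, by linear_combination hd, ?_⟩
  apply mul_left_cancel₀ h2; linear_combination c2
theorem norm_M0 {x : Cm F} (h : x * mm 1 0 0 * x⁻¹ ∈ M0 F) : x ∈ B0 F := by
  have h4 := h.2.2.2
  have hd := x.det
  simp at h4
  change x.r = 0
  linear_combination h4 + x.b * hd

/-! ### the embedding into `Sp₄` -/

/-- the matrix -/
def mat (x : Cm F) : Matrix (Fin 2 ⊕ Fin 2) (Fin 2 ⊕ Fin 2) F :=
  fromBlocks !![1, x.a * x.r - x.b * x.p; 0, x.p] !![x.c, x.a * x.s - x.b * x.q; x.a, x.q]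
    !![0, 0; 0, x.r] !![1, 0; x.b, x.s]

theorem mat_mem (x : Cm F) : mat x ∈ symplecticGroup (Fin 2) F := by
  rw [SymplecticGroup.mem_iff']
  have := x.det
  ext i j
  rcases i with i | i <;> rcases j with j | j <;> fin_cases i <;> fin_cases j <;>
    simp [mat, J, Matrix.mul_apply, Fintype.sum_sum_type, Fin.sum_univ_two, Matrix.one_apply] <;>
    first | ring1 | linear_combination this | linear_combination -this

/-- the embedding -/
def toSp : Cm F →* symplecticGroup (Fin 2) F := MonoidHom.mk' (fun x => ⟨mat x, mat_mem x⟩) fun x y => by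
  apply Subtype.ext
  have := x.det
  change mat (x * y) = mat x * mat y
  ext i j
  rcases i with i | i <;> rcases j with j | j <;> fin_cases i <;> fin_cases j <;>
    simp [mat, Matrix.mul_apply, Fintype.sum_sum_type, Fin.sum_univ_two] <;>
    first | ring1 | linear_combination (y.a * y.r - y.b * y.p) * this |
      linear_combination (y.a * y.s - y.b * y.q) * this

theorem toSp_val (x : Cm F) : (toSp x).1 = mat x := rfl

theorem mat_inj {x y : Cm F} (h : mat x = mat y) : x = y := by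
  have e := fun i j => congrFun (congrFun h i) j
  ext
  · simpa [mat] using e (.inl 1) (.inr 0)
  · simpa [mat] using e (.inr 1) (.inr 0)
  · simpa [mat] using e (.inl 0) (.inr 0)
  · simpa [mat] using e (.inl 1) (.inl 1)
  · simpa [mat] using e (.inl 1) (.inr 1)
  · simpa [mat] using e (.inr 1) (.inl 1)
  · simpa [mat] using e (.inr 1) (.inr 1)

theorem exists_of_col {g : symplecticGroup (Fin 2) F} (h0 : g.1 (.inl 0) (.inl 0) = 1)
    (h1 : g.1 (.inl 1) (.inl 0) = 0) (h2 : g.1 (.inr 0) (.inl 0) = 0) (h3 : g.1 (.inr 1) (.inl 0) = 0) :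
    ∃ x, toSp x = g := by
  have hs := SymplecticGroup.mem_iff'.1 g.2
  have e := fun i j => congrFun (congrFun hs i) j
  have e1 := e (.inl 0) (.inl 1)
  have e2 := e (.inl 0) (.inr 0)
  have e3 := e (.inl 0) (.inr 1)
  have e4 := e (.inl 1) (.inr 0)
  have e5 := e (.inl 1) (.inr 1)
  have e6 := e (.inr 0) (.inr 1)
  simp [J, Matrix.mul_apply, Fintype.sum_sum_type, Fin.sum_univ_two, Matrix.one_apply, h0, h1, h2, h3]
    at e1 e2 e3
  simp [J, Matrix.mul_apply, Fintype.sum_sum_type, Fin.sum_univ_two, Matrix.one_apply, h0, h1, h2, h3,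
    e1, e2, e3] at e4 e5 e6
  refine ⟨⟨g.1 (.inl 1) (.inr 0), g.1 (.inr 1) (.inr 0), g.1 (.inl 0) (.inr 0), g.1 (.inl 1) (.inl 1),
    g.1 (.inl 1) (.inr 1), g.1 (.inr 1) (.inl 1), g.1 (.inr 1) (.inr 1), by linear_combination -e5⟩, ?_⟩
  apply Subtype.ext
  rw [toSp_val]
  ext i j
  rcases i with i | i <;> rcases j with j | j <;> fin_cases i <;> fin_cases j <;>
    simp [mat, h0, h1, h2, h3, e1, e2, e3] <;>
    first | linear_combination e4 | linear_combination -e4 | linear_combination e6 | linear_combination -e6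

/-- the map to `PSp₄` -/
def toP (F : Type*) [Field F] : Cm F →* PSp 2 F := (H91.Sp4.pr 2 F).comp toSp

theorem toP_inj (h2 : (2 : F) ≠ 0) : Function.Injective (toP F) := by
  rw [injective_iff_map_eq_one]
  intro x hx
  rcases H91.Sp4.pr_eq_one.1 hx with h | h
  · exact mat_inj (h.trans (congrArg Subtype.val (map_one (toSp (F := F)))).symm)
  · have := congrFun (congrFun h (.inl 0)) (.inl 0)
    simp [toSp_val, mat] at this
    exact absurd (by linear_combination this) h2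

theorem cent_toP (h2 : (2 : F) ≠ 0) {c : F} (hc : c ≠ 0) {g : PSp 2 F}
    (h : g * toP F (zz c) = toP F (zz c) * g) : g ∈ (toP F).range := by
  obtain ⟨g, rfl⟩ := QuotientGroup.mk'_surjective _ g
  have h' : H91.Sp4.pr 2 F (g * toSp (zz c)) = H91.Sp4.pr 2 F (toSp (zz c) * g) := by
    rw [map_mul, map_mul]; exact h
  have hs := SymplecticGroup.mem_iff'.1 g.2
  have e2 := congrFun (congrFun hs (.inl 0)) (.inr 0)
  rcases H91.Sp4.pr_eq h' with h | h
  · have e := fun i j => congrFun (congrFun h i) j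
    have a1 := e (.inl 1) (.inr 0)
    have a2 := e (.inr 0) (.inr 0)
    have a3 := e (.inr 1) (.inr 0)
    have a4 := e (.inl 0) (.inr 0)
    simp [toSp_val, mat, Matrix.mul_apply, Fintype.sum_sum_type, Fin.sum_univ_two, hc] at a1 a2 a3 a4
    simp [J, Matrix.mul_apply, Fintype.sum_sum_type, Fin.sum_univ_two, Matrix.one_apply, a1, a2, a3] at e2
    have a5 : g.1 (.inr 0) (.inr 0) = g.1 (.inl 0) (.inl 0) := by
      apply mul_left_cancel₀ hc; linear_combination -a4
    rw [a5] at e2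
    rcases mul_self_eq_one_iff.1 e2 with e | e
    · obtain ⟨x, rfl⟩ := exists_of_col e a1 a2 a3
      exact ⟨x, rfl⟩
    · obtain ⟨x, hx⟩ := exists_of_col (g := ⟨-g.1, SymplecticGroup.neg_mem g.2⟩) (by simp [e]) (by simp [a1]) (by simp [a2]) (by simp [a3])
      refine ⟨x, ?_⟩
      change H91.Sp4.pr 2 F (toSp x) = H91.Sp4.pr 2 F g
      rw [hx, ← mul_inv_eq_one, ← map_inv, ← map_mul, H91.Sp4.pr_eq_one]
      right
      change -g.1 * (g⁻¹).1 = -1
      rw [neg_mul, ← Submonoid.coe_mul, mul_inv_cancel]; rfl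
  · exfalso
    have e := fun i j => congrFun (congrFun h i) j
    have a1 := e (.inl 1) (.inl 0)
    have a2 := e (.inr 0) (.inl 0)
    have a3 := e (.inr 1) (.inl 0)
    have a4 := e (.inl 0) (.inl 0)
    simp [toSp_val, mat, Matrix.mul_apply, Fintype.sum_sum_type, Fin.sum_univ_two] at a1 a2 a3 a4
    have b2 : g.1 (.inr 0) (.inl 0) = 0 := by apply mul_left_cancel₀ h2; linear_combination a2
    have b1 : g.1 (.inl 1) (.inl 0) = 0 := by apply mul_left_cancel₀ h2; linear_combination a1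
    have b3 : g.1 (.inr 1) (.inl 0) = 0 := by apply mul_left_cancel₀ h2; linear_combination a3
    have b4 : g.1 (.inl 0) (.inl 0) = 0 := by
      apply mul_left_cancel₀ h2; rw [b2] at a4; linear_combination a4
    simp [J, Matrix.mul_apply, Fintype.sum_sum_type, Fin.sum_univ_two, Matrix.one_apply, b1, b2, b3, b4] at e2

end Cm
end Cfsg.Agent.H76
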