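import Cfsg.Agent.H12.Har3
import Cfsg.Agent.H12.Har8
import Cfsg.Agent.H12.Har5
import Cfsg.Agent.H4.Basic
import Cfsg.Agent.H24.MaxFix2

/-! An involution with centralizer `2 × L₂(q)` of order not divisible by `16`. -/

set_option autoImplicit false
set_option linter.unusedSectionVars false
open Subgroup

namespace Cfsg.Agent.H76
open H12

variable {G : Type*} [Group G] [Finite G]

/-- `C(t) = ⟨t⟩ × K` with `K` of type `L₂(q)` -/
structure TL (t : G) (K : Subgroup G) (q : ℕ) : Prop where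
  t2 : t * t = 1
  le : K ≤ Ct t
  nmem : t ∉ K
  cov : ∀ x ∈ Ct t, x ∈ K ∨ x * t ∈ K
  conj : ∀ v ∈ K, ∀ w ∈ K, v * v = 1 → v ≠ 1 → w * w = 1 → w ≠ 1 → ∃ g ∈ K, g * v * g⁻¹ = w
  four : ∃ v ∈ K, ∃ w ∈ K, v * v = 1 ∧ v ≠ 1 ∧ w * w = 1 ∧ w ≠ 1 ∧ w ≠ v ∧ w * v = v * w
  rot : ∀ v ∈ K, ∀ w ∈ K, v * v = 1 → v ≠ 1 → w * w = 1 → w ≠ 1 → w ≠ v → w * v = v * w →
    ∃ g ∈ K, g * v * g⁻¹ = w ∧ g * w * g⁻¹ = v * w
  cent : ∀ v ∈ K, ∀ w ∈ K, v * v = 1 → v ≠ 1 → w * w = 1 → w ≠ 1 → w ≠ v → w * v = v * w →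
    ∀ x ∈ K, x * v = v * x → x * w = w * x → x = 1 ∨ x = v ∨ x = w ∨ x = v * w

theorem TL.of_L2 {t : G} {K : Subgroup G} {q : ℕ} (t2 : t * t = 1) (le : K ≤ Ct t) (nmem : t ∉ K)
    (cov : ∀ x ∈ Ct t, x ∈ K ∨ x * t ∈ K) (h : L2 K q) : TL t K q := by
  refine ⟨t2, le, nmem, cov, fun v hv w hw v2 v1 w2 w1 => ?_, ?_, fun v hv w hw v2 v1 w2 w1 wv c => ?_,
    fun v hv w hw v2 v1 w2 w1 wv c x hx xv xw => ?_⟩
  · obtain ⟨g, e⟩ := h.conj ⟨v, hv⟩ ⟨w, hw⟩ (Subtype.ext v2) (fun e => v1 (congrArg Subtype.val e))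
      (Subtype.ext w2) (fun e => w1 (congrArg Subtype.val e))
    exact ⟨g, g.2, congrArg Subtype.val e⟩
  · obtain ⟨v, w, v2, v1, w2, w1, wv, c⟩ := h.four
    exact ⟨v, v.2, w, w.2, congrArg Subtype.val v2, fun e => v1 (Subtype.ext e), congrArg Subtype.val w2,
      fun e => w1 (Subtype.ext e), fun e => wv (Subtype.ext e), congrArg Subtype.val c⟩
  · obtain ⟨g, a, b⟩ := h.rot ⟨v, hv⟩ ⟨w, hw⟩ (Subtype.ext v2) (fun e => v1 (congrArg Subtype.val e))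
      (Subtype.ext w2) (fun e => w1 (congrArg Subtype.val e)) (fun e => wv (congrArg Subtype.val e))
      (Subtype.ext c)
    exact ⟨g, g.2, congrArg Subtype.val a, congrArg Subtype.val b⟩
  · simpa only [Subtype.ext_iff, coe_one, coe_mul] using h.cent ⟨v, hv⟩ ⟨w, hw⟩ (Subtype.ext v2)
      (fun e => v1 (congrArg Subtype.val e)) (Subtype.ext w2) (fun e => w1 (congrArg Subtype.val e))
      (fun e => wv (congrArg Subtype.val e)) (Subtype.ext c) ⟨x, hx⟩ (Subtype.ext xv) (Subtype.ext xw)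

namespace TL
variable {t : G} {K : Subgroup G} {q : ℕ} (h : TL t K q)
include h

theorem pull {g x : G} (e : x * (g * t * g⁻¹) = g * t * g⁻¹ * x) : g⁻¹ * x * g ∈ Ct t := mem_Ct.2 (by
  calc _ = g⁻¹ * (x * (g * t * g⁻¹)) * g := by group
    _ = _ := by rw [e]; group)

theorem nsq (x : G) : ¬ IsConj t (x * x) := fun hx => by
  obtain ⟨g, e⟩ := isConj_iff.1 hx
  have h1 := h.pull (g := g) (x := x) (by rw [e]; group)
  have h2 : g⁻¹ * x * g * (g⁻¹ * x * g) = t := by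
    calc _ = g⁻¹ * (x * x) * g := by group
      _ = _ := by rw [← e]; group
  rcases h.cov _ h1 with h3 | h3
  · exact h.nmem (h2 ▸ K.mul_mem h3 h3)
  · apply h.nmem
    have := K.mul_mem h3 h3
    rwa [mul_assoc, ← mul_assoc t, ← mem_Ct.1 h1, mul_assoc _ t t, h.t2, mul_one, h2] at this

theorem index_two (h16 : ¬ 16 ∣ Nat.card (Ct t)) (ha : ∀ x ∈ K, ¬ IsConj t x)
    (hb : ∀ x ∈ K, x * x = 1 → x ≠ 1 → IsConj t (x * t)) : ∃ M : Subgroup G, M.Normal ∧ M.index = 2 ∧ t ∉ M := by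
  obtain ⟨v, hv, w, hw, v2, v1, w2, w1, wv, c⟩ := h.four
  have hV := H43.isKleinFour_sup v2 w2 v1 (fun e => by
    rcases (H42.mem_zpowers_of_mul_self v2).1 e with e | e
    exacts [w1 e, wv e]) c.symm
  have vV : v ∈ zpowers v ⊔ zpowers w := mem_sup_left (mem_zpowers v)
  have wV : w ∈ zpowers v ⊔ zpowers w := mem_sup_right (mem_zpowers w)
  have mem : ∀ {x : G}, x ∈ zpowers v ⊔ zpowers w ↔ x = 1 ∨ x = v ∨ x = w ∨ x = v * w :=
    ⟨fun hx => H43.klein_cases hV vV wV hx v1 w1 wv.symm, by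
      rintro (rfl | rfl | rfl | rfl)
      exacts [one_mem _, vV, wV, mul_mem vV wV]⟩
  have nV : ∀ x ∈ zpowers v ⊔ zpowers w, ¬ IsConj t x := fun x hx =>
    ha x (sup_le (zpowers_le.2 hv) (zpowers_le.2 hw) hx)
  have inK : ∀ {g x : G}, x * x = 1 → ¬ IsConj t x → x * (g * t * g⁻¹) = g * t * g⁻¹ * x → g⁻¹ * x * g ∈ K :=
    fun {g x} x2 hx e => by
      have h1 := h.pull e
      refine (h.cov _ h1).resolve_right fun h2 => hx ?_
      have hc : IsConj (g⁻¹ * x * g) x := isConj_iff.2 ⟨g, by group⟩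
      by_cases h3 : g⁻¹ * x * g * t = 1
      · rw [eq_inv_of_mul_eq_one_left h3, inv_eq_of_mul_eq_one_right h.t2] at hc; exact hc
      have := hb _ h2 (by
        rw [mul_assoc, ← mul_assoc t, ← mem_Ct.1 h1, mul_assoc _ t t, h.t2, mul_one]
        calc _ = g⁻¹ * (x * x) * g := by group
          _ = 1 := by rw [x2]; group) h3
      rw [mul_assoc, h.t2, mul_one] at this
      exact this.trans hc
  have cj2 : ∀ (g : G) {x : G}, x * x = 1 → g⁻¹ * x * g * (g⁻¹ * x * g) = 1 := fun g x x2 => by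
    calc _ = g⁻¹ * (x * x) * g := by group
      _ = 1 := by rw [x2]; group
  have cj1 : ∀ (g : G) {x y : G}, x ≠ y → g⁻¹ * x * g ≠ g⁻¹ * y * g := fun g x y n e =>
    n (mul_left_cancel (mul_right_cancel e))
  have cj0 : ∀ (g : G) {x : G}, x ≠ 1 → g⁻¹ * x * g ≠ 1 := fun g x n => by
    simpa using cj1 g n
  have cjc : ∀ (g : G) {x y : G}, x * y = y * x → g⁻¹ * x * g * (g⁻¹ * y * g) = g⁻¹ * y * g * (g⁻¹ * x * g) :=
    fun g x y e => by
      calc _ = g⁻¹ * (x * y) * g := by group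
        _ = _ := by rw [e]; group
  have hL : Loc (IsConj t) (zpowers v ⊔ zpowers w) v w := by
    refine ⟨fun g hu => hu.trans (isConj_iff.2 ⟨g, rfl⟩), fun hu => ?_, h.nsq, mem, hV.card_four, v1, w1, wv, v2,
      w2, c, nV, fun {u} hu uC x hx => ?_, fun {u x} hu uC xC e => ?_, fun {u} hu uC => ?_⟩
    · obtain ⟨g, rfl⟩ := isConj_iff.1 hu
      rw [conj_mul, h.t2]; group
    · by_cases x1 : x = 1
      · rwa [x1, one_mul]
      obtain ⟨g, rfl⟩ := isConj_iff.1 hu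
      have : zpowers v ⊔ zpowers w ≤ Ct (g * t * g⁻¹) := sup_le
        (zpowers_le.2 (mem_Ct.2 (mem_Ct.1 uC.1).symm)) (zpowers_le.2 (mem_Ct.2 (mem_Ct.1 uC.2).symm))
      have x2 := H42.klein_mul_self hV hx
      exact (hb _ (inK x2 (nV x hx) (mem_Ct.1 (this hx))) (cj2 g x2) (cj0 g x1)).trans
        (isConj_iff.2 ⟨g, by group⟩)
    · obtain ⟨g, rfl⟩ := isConj_iff.1 hu
      have key : ∀ y ∈ Ct v ⊓ Ct w, g⁻¹ * y * g ∈ K → y ∈ zpowers v ⊔ zpowers w := fun y yC hy => by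
        have := h.cent _ (inK v2 (nV v vV) (mem_Ct.1 uC.1).symm) _ (inK w2 (nV w wV) (mem_Ct.1 uC.2).symm)
          (cj2 g v2) (cj0 g v1) (cj2 g w2) (cj0 g w1) (cj1 g wv) (cjc g c) _ hy (cjc g (mem_Ct.1 yC.1))
          (cjc g (mem_Ct.1 yC.2))
        rw [mem]
        refine this.imp (fun e => ?_) (Or.imp (fun e => ?_) (Or.imp (fun e => ?_) fun e => ?_))
        · by_contra n; exact cj0 g n e
        · by_contra n; exact cj1 g n e
        · by_contra n; exact cj1 g n e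
        · by_contra n; exact cj1 g n (e.trans (by group))
      refine (h.cov _ (h.pull e)).imp (key _ xC) fun hy => key _ (mul_mem xC uC) ?_
      convert hy using 1; group
    · obtain ⟨g, rfl⟩ := isConj_iff.1 hu
      obtain ⟨r, hr, a, b⟩ := h.rot _ (inK v2 (nV v vV) (mem_Ct.1 uC.1).symm) _
        (inK w2 (nV w wV) (mem_Ct.1 uC.2).symm) (cj2 g v2) (cj0 g v1) (cj2 g w2) (cj0 g w1) (cj1 g wv) (cjc g c)
      refine ⟨g * r * g⁻¹, ?_, ?_, ?_⟩
      · rw [conj_mul, conj_mul, mem_Ct.1 (h.le hr)]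
      · calc _ = g * (r * (g⁻¹ * v * g) * r⁻¹) * g⁻¹ := by group
          _ = _ := by rw [a]; group
      · calc _ = g * (r * (g⁻¹ * w * g) * r⁻¹) * g⁻¹ := by group
          _ = _ := by rw [b]; group
  exact hL.three (IsConj.refl t) ⟨mem_Ct.2 (mem_Ct.1 (h.le hv)).symm, mem_Ct.2 (mem_Ct.1 (h.le hw)).symm⟩ h16

theorem abelian (h16 : ¬ 16 ∣ Nat.card (Ct t)) (hall : ∀ x ∈ Ct t, x * x = 1 → x ≠ 1 → IsConj t x) :
    (∀ u : G, u * u = 1 → u ≠ 1 → IsConj t u) ∧ ∀ P : Sylow 2 G, ∀ a b : P, a * b = b * a := by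
  haveI := Fact.mk Nat.prime_two
  have t1 : t ≠ 1 := fun e => h.nmem (e ▸ K.one_mem)
  have two : ∀ {u : G}, u * u = 1 → IsPGroup 2 (zpowers u) := fun {u} u2 x => ⟨1, by
    rcases (H42.mem_zpowers_of_mul_self u2).1 x.2 with e | e <;> apply Subtype.ext <;> simp [e, sq, u2]⟩
  obtain ⟨S, hS⟩ := (two h.t2).exists_le_sylow
  have tS : t ∈ (S : Subgroup G) := hS (mem_zpowers t)
  obtain ⟨z, hz, z1, z2, hc⟩ := H24.exists_central_invol S.isPGroup' fun e => t1 (by simpa [e] using tS)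
  obtain ⟨g, hg⟩ := isConj_iff.1 (hall z (mem_Ct.2 (hc t tS)) z2 z1)
  have h1 : Nat.card S ∣ Nat.card (Ct t) := by
    rw [← H4.card_map_conj _ g⁻¹]
    refine card_dvd_of_le fun x hx => ?_
    rw [H4.mem_map_conj] at hx
    have := h.pull (g := g) (hg ▸ (hc _ hx).symm)
    simpa [mul_assoc] using this
  obtain ⟨k, hk⟩ := IsPGroup.iff_card.1 S.isPGroup'
  have h8 : Nat.card S ≤ 8 := by
    rw [hk] at h1 ⊢
    by_contra hlt
    have : 4 ≤ k := by
      by_contra h4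
      have : k ≤ 3 := by omega
      exact hlt (Nat.pow_le_pow_right two_pos this)
    exact h16 ((pow_dvd_pow 2 this).trans h1)
  obtain ⟨v, hv, w, hw, v2, v1, w2, w1, wv, c⟩ := h.four
  have hV := H43.isKleinFour_sup v2 w2 v1 (fun e => by
    rcases (H42.mem_zpowers_of_mul_self v2).1 e with e | e
    exacts [w1 e, wv e]) c.symm
  have hVK : zpowers v ⊔ zpowers w ≤ K := sup_le (zpowers_le.2 hv) (zpowers_le.2 hw)
  have hn : t ∈ normalizer ((zpowers v ⊔ zpowers w : Subgroup G) : Set G) :=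
    H42.mem_normalizer_of_conj_mem fun x hx => by
      rwa [← mem_Ct.1 (h.le (hVK hx)), mul_inv_cancel_right]
  have h2 : t * t ∈ zpowers v ⊔ zpowers w := h.t2 ▸ one_mem _
  have hE := H42.card_sup_zpowers hn h2 fun e => h.nmem (hVK e)
  rw [hV.card_four] at hE
  obtain ⟨P0, hP0⟩ := (IsPGroup.of_card (p := 2) (n := 3) hE).exists_le_sylow
  have hEq : zpowers v ⊔ zpowers w ⊔ zpowers t = P0 :=
    eq_of_le_of_card_ge hP0 (by rw [hE, Sylow.card_eq_multiplicity, ← Sylow.card_eq_multiplicity S]; exact h8)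
  have hEC : (P0 : Subgroup G) ≤ Ct t := hEq ▸ sup_le (hVK.trans h.le) (zpowers_le.2 (mem_Ct.2 rfl))
  have sq1 : ∀ x ∈ (P0 : Subgroup G), x * x = 1 := fun x hx => by
    have hx' := mem_Ct.1 (hEC hx)
    rw [← hEq, H42.mem_sup_zpowers hn h2, inv_eq_of_mul_eq_one_right h.t2] at hx
    rcases hx with hx | hx
    · exact H42.klein_mul_self hV hx
    · have := H42.klein_mul_self hV hx
      rwa [mul_assoc, ← mul_assoc t, ← hx', mul_assoc _ t t, h.t2, mul_one] at this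
  refine ⟨fun u u2 u1 => ?_, fun P a b => ?_⟩
  · obtain ⟨k, hk⟩ := H4.exists_conj_mem_sylow (two u2) P0
    have := hk u (mem_zpowers u)
    exact (hall _ (hEC this) (sq1 _ this) (by simpa using u1)).trans (isConj_iff.2 ⟨k⁻¹, by group⟩)
  · obtain ⟨k, hk⟩ := H4.exists_conj_mem_sylow P.isPGroup' P0
    have sq2 : ∀ x ∈ (P : Subgroup G), x * x = 1 := fun x hx => by
      have := sq1 _ (hk x hx)
      rwa [conj_mul, conj_eq_one_iff] at this
    exact Subtype.ext (comm_of_sq (sq2 a a.2) (sq2 b b.2) (sq2 _ (mul_mem a.2 b.2)))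

theorem tri (h16 : ¬ 16 ∣ Nat.card (Ct t)) :
    (∀ g : G, Commute t (g * t * g⁻¹) → g * t * g⁻¹ = t) ∨ (∃ M : Subgroup G, M.Normal ∧ M.index = 2 ∧ t ∉ M) ∨
      ((∀ u : G, u * u = 1 → u ≠ 1 → IsConj t u) ∧ ∀ P : Sylow 2 G, ∀ a b : P, a * b = b * a) := by
  have t1 : t ≠ 1 := fun e => h.nmem (e ▸ K.one_mem)
  have sq : ∀ {x : G}, IsConj t x → x * x = 1 ∧ x ≠ 1 := fun hx => by
    obtain ⟨g, rfl⟩ := isConj_iff.1 hx
    exact ⟨by rw [conj_mul, h.t2]; group, by simpa using t1⟩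
  have sqt : ∀ {x : G}, x ∈ Ct t → x * x = 1 → x * t * (x * t) = 1 := fun {x} hx x2 => by
    rw [mul_assoc, ← mul_assoc t, ← mem_Ct.1 hx, mul_assoc _ t t, h.t2, mul_one, x2]
  have allb : ∀ f ∈ K, f ≠ 1 → IsConj t (f * t) → ∀ x ∈ K, x * x = 1 → x ≠ 1 → IsConj t (x * t) :=
    fun f hf f1 hD x hx x2 x1 => by
      have f2 := sqt (mul_mem (h.le hf) (mem_Ct.2 rfl)) (sq hD).1
      rw [mul_assoc f t t, h.t2, mul_one] at f2
      obtain ⟨k, hk, rfl⟩ := h.conj f hf x hx f2 f1 x2 x1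
      exact hD.trans (isConj_iff.2 ⟨k, by rw [← mul_assoc, mul_assoc _ t, ← (Commute.inv_left
        (mem_Ct.1 (h.le hk) : Commute k t)).eq, mul_assoc (k * f)]⟩)
  by_cases hi : ∀ g : G, Commute t (g * t * g⁻¹) → g * t * g⁻¹ = t
  · exact .inl hi
  right
  push Not at hi
  obtain ⟨g, hc, hne⟩ := hi
  have hD : IsConj t (g * t * g⁻¹) := isConj_iff.2 ⟨g, rfl⟩
  by_cases ha : ∀ x ∈ K, ¬ IsConj t x
  · refine .inl (h.index_two h16 ha (allb _ ((h.cov _ (mem_Ct.2 hc.eq.symm)).resolve_left fun e => ha _ e hD)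
      (fun e => hne (by rw [eq_inv_of_mul_eq_one_left e, inv_eq_of_mul_eq_one_right h.t2]))
      (by rwa [mul_assoc _ t t, h.t2, mul_one])))
  right
  push Not at ha
  obtain ⟨f, hf, hfD⟩ := ha
  have alla : ∀ x ∈ K, x * x = 1 → x ≠ 1 → IsConj t x := fun x hx x2 x1 => by
    obtain ⟨k, -, rfl⟩ := h.conj f hf x hx (sq hfD).1 (sq hfD).2 x2 x1
    exact hfD.trans (isConj_iff.2 ⟨k, rfl⟩)
  have hb : ∃ f ∈ K, f ≠ 1 ∧ IsConj t (f * t) := by
    by_contra hb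
    push Not at hb
    obtain ⟨v, hv, w, hw, v2, v1, w2, w1, wv, c⟩ := h.four
    obtain ⟨k, rfl⟩ := isConj_iff.1 (alla v hv v2 v1)
    have h1 := h.pull c
    have hD1 : IsConj t (k⁻¹ * w * k) := (alla w hw w2 w1).trans (isConj_iff.2 ⟨k⁻¹, by group⟩)
    have hD2 : IsConj t (k⁻¹ * w * k * t) := (alla _ (K.mul_mem hw hv) (by
        rw [mul_assoc, ← mul_assoc _ w, ← c, mul_assoc w, v2, mul_one, w2]) fun e => wv (by
        rw [eq_inv_of_mul_eq_one_left e, inv_eq_of_mul_eq_one_right v2])).trans (isConj_iff.2 ⟨k⁻¹, by group⟩)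
    rcases h.cov _ h1 with h2 | h2
    · exact hb _ h2 (sq hD1).2 hD2
    · exact hb _ h2 (sq hD2).2 (by rwa [mul_assoc _ t t, h.t2, mul_one])
  obtain ⟨f', hf', f1, hD'⟩ := hb
  refine h.abelian h16 fun x hx x2 x1 => ?_
  rcases h.cov x hx with h2 | h2
  · exact alla x h2 x2 x1
  · by_cases h3 : x * t = 1
    · rw [eq_inv_of_mul_eq_one_left h3, inv_eq_of_mul_eq_one_right h.t2]
    have := allb f' hf' f1 hD' _ h2 (sqt hx x2) h3
    rwa [mul_assoc _ t t, h.t2, mul_one] at this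

end TL
end Cfsg.Agent.H76
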