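import Cfsg.Agent.H23.Basic
import Mathlib.FieldTheory.Finite.Basic
import Mathlib.Tactic.LinearCombination
import Mathlib.Tactic.FieldSimp

/-! A group acting faithfully on `F³` and containing the Borel subgroup of `PGL₂(F)` on the symmetric square:
first part. -/

set_option autoImplicit false
set_option linter.unusedSectionVars false
open Subgroup

namespace Cfsg.Agent.H76

theorem card_dvd_double {X : Type*} [Group X] [Finite X] (A B : Subgroup X) (E : Set X)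
    (hE : ∀ a ∈ A, ∀ b ∈ B, ∀ e ∈ E, a * e * b ∈ E)
    (free : ∀ a ∈ A, ∀ b ∈ B, ∀ e ∈ E, a * e * b = e → a = 1) : Nat.card A * Nat.card B ∣ Nat.card E := by
  letI : MulAction (A × B) E :=
    { smul := fun g e => ⟨g.1 * e * (g.2 : X)⁻¹, hE _ g.1.2 _ (B.inv_mem g.2.2) _ e.2⟩
      one_smul := fun e => Subtype.ext (by change (1 : X) * e * (1 : X)⁻¹ = e; group)
      mul_smul := fun g k e => Subtype.ext (by
        change (g.1 * k.1 : X) * e * (g.2 * k.2 : X)⁻¹ = g.1 * (k.1 * e * (k.2 : X)⁻¹) * (g.2 : X)⁻¹; group) }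
  have h : ∀ e : E, MulAction.stabilizer (A × B) e = ⊥ := fun e => by
    rw [eq_bot_iff]
    intro g hg
    have h1 : (g.1 : X) * e * (g.2 : X)⁻¹ = e := congrArg Subtype.val hg
    have h2 := free _ g.1.2 _ (B.inv_mem g.2.2) _ e.2 h1
    rw [h2, one_mul, mul_eq_left, inv_eq_one] at h1
    exact mem_bot.2 (Prod.ext (Subtype.ext h2) (Subtype.ext h1))
  rw [Nat.card_congr (MulAction.selfEquivOrbitsQuotientProd h), Nat.card_prod, Nat.card_prod]
  exact dvd_mul_left _ _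

theorem card_split {α : Type*} [Finite α] (S : Set α) (P : α → Prop) :
    Nat.card S = Nat.card {x | x ∈ S ∧ P x} + Nat.card {x | x ∈ S ∧ ¬ P x} := by
  simp only [Nat.card_coe_set_eq]
  rw [← Set.ncard_union_eq (Set.disjoint_left.2 fun x h1 h2 => h2.2 h1.2)]
  congr 1; ext x; by_cases h : P x <;> simp [h]

/-- central vectors -/
abbrev zv {F : Type*} [Field F] (c : F) : F × F × F := (0, c, 0)

/-- the configuration -/
structure Cfg (p : ℕ) (F X : Type*) [Field F] [Group X] [DistribMulAction X (F × F × F)] where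
  y : F → X
  h : Fˣ → X
  two : (2 : F) ≠ 0
  nsq : ∀ a : F, a * a ≠ -1
  y_smul : ∀ b a c s : F, y b • (a, c, s) = (a - s * b, c - 2 * a * b + s * b ^ 2, s)
  h_smul : ∀ (l : Fˣ) (a c s : F), h l • (a, c, s) = (l * a, c, l ^ 2 * s)
  faith : ∀ x : X, (∀ v : F × F × F, x • v = v) → x = 1
  stab : ∀ c : F, c ≠ 0 → ∀ x : X, x • zv c = zv c → ∃ b l, x = y b * h l
  nconj : ∃ c : F, c ≠ 0 ∧ ∃ d : F, d ≠ 0 ∧ ∀ x : X, x • zv c ≠ zv d
  nnorm : ∃ x : X, ∀ d : F, x • zv (1 : F) ≠ zv d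
  syl : ∀ x : X, x ^ p = 1 → ∃ g b, x = g * y b * g⁻¹

namespace Cfg
variable {p : ℕ} {F X : Type*} [Field F] [Group X] [DistribMulAction X (F × F × F)] (C : Cfg p F X)
include C

theorem ext' {x x' : X} (e : ∀ a c s : F, x • (a, c, s) = x' • (a, c, s)) : x = x' :=
  (inv_mul_eq_one.1 (C.faith (x'⁻¹ * x) (fun v => by rw [mul_smul, e, inv_smul_smul]))).symm

theorem y_mul (b b' : F) : C.y b * C.y b' = C.y (b + b') := C.ext' fun a c s => by
  rw [mul_smul, C.y_smul, C.y_smul, C.y_smul]; ext <;> simp only <;> ring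
theorem y_zero : C.y 0 = 1 := C.ext' fun a c s => by rw [C.y_smul, one_smul]; simp
theorem y_inv (b : F) : (C.y b)⁻¹ = C.y (-b) := by
  rw [inv_eq_iff_mul_eq_one, y_mul, add_neg_cancel, y_zero]
theorem h_mul (l k : Fˣ) : C.h l * C.h k = C.h (l * k) := C.ext' fun a c s => by
  rw [mul_smul, C.h_smul, C.h_smul, C.h_smul]; ext <;> simp only [Units.val_mul] <;> ring
theorem h_one : C.h 1 = 1 := C.ext' fun a c s => by rw [C.h_smul, one_smul]; simp
theorem h_inv (l : Fˣ) : (C.h l)⁻¹ = C.h l⁻¹ := by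
  rw [inv_eq_iff_mul_eq_one, h_mul, mul_inv_cancel, h_one]
theorem y_h (l : Fˣ) (b : F) : C.y b * C.h l = C.h l * C.y (l * b) := C.ext' fun a c s => by
  rw [mul_smul, mul_smul, C.h_smul, C.y_smul, C.y_smul, C.h_smul]; ext <;> simp only <;> ring
theorem yh_inj {b b' : F} {l l' : Fˣ} (e : C.y b * C.h l = C.y b' * C.h l') : b = b' ∧ l = l' := by
  have e1 := congrArg (· • ((1, 0, 0) : F × F × F)) e
  simp only [mul_smul, C.h_smul, C.y_smul, Prod.mk.injEq] at e1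
  have hl : (l : F) = l' := by linear_combination e1.1
  refine ⟨?_, Units.ext hl⟩
  have := e1.2.1
  rw [← hl] at this
  apply mul_left_cancel₀ (mul_ne_zero C.two l.ne_zero); linear_combination -this
theorem y_inj {b b' : F} (e : C.y b = C.y b') : b = b' :=
  (C.yh_inj (l := 1) (l' := 1) (by rw [e])).1
theorem h_inj {l l' : Fˣ} (e : C.h l = C.h l') : l = l' :=
  (C.yh_inj (b := 0) (b' := 0) (by rw [e])).2
theorem y_z (b c : F) : C.y b • zv c = zv c := by rw [C.y_smul]; simp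
theorem h_z (l : Fˣ) (c : F) : C.h l • zv c = zv c := by rw [C.h_smul]; simp

/-- the involution -/
def t : X := C.h (-1)
theorem t_smul (a c s : F) : C.t • (a, c, s) = (-a, c, s) := by rw [t, C.h_smul]; simp
theorem t_sq : C.t * C.t = 1 := by rw [t, h_mul]; simp [h_one]
theorem t_ne : C.t ≠ 1 := fun e => by
  have := C.t_smul 1 0 0
  rw [e, one_smul, Prod.mk.injEq] at this
  exact C.two (by linear_combination this.1)
theorem y_t (b : F) : C.y b * C.t = C.t * C.y (-b) := by rw [t, y_h]; simp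
theorem h_t (l : Fˣ) : C.h l * C.t = C.t * C.h l := by rw [t, h_mul, h_mul, mul_comm]

theorem fix_all {c : F} (hc : c ≠ 0) {x : X} (e : x • zv c = zv c) (d : F) : x • zv d = zv d := by
  obtain ⟨b, l, rfl⟩ := C.stab c hc x e
  rw [mul_smul, h_z, y_z]

theorem ti {c d : F} (hc : c ≠ 0) {x : X} (e : x • zv c = zv d) (c' : F) : ∃ d', x • zv c' = zv d' := by
  have h1 : (x⁻¹ * C.y 1 * x) • zv c = zv c := by rw [mul_smul, mul_smul, e, y_z, ← e, inv_smul_smul]
  have h2 := C.fix_all hc h1 c'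
  rw [mul_smul, mul_smul, inv_smul_eq_iff] at h2
  obtain ⟨⟨a, c'', s⟩, hv⟩ : ∃ v, x • zv c' = v := ⟨_, rfl⟩
  rw [hv, C.y_smul, Prod.mk.injEq, Prod.mk.injEq] at h2
  have hs : s = 0 := by linear_combination -h2.1
  have ha : a = 0 := by
    apply mul_left_cancel₀ C.two; have := h2.2.1; rw [hs] at this; linear_combination -this
  exact ⟨c'', by rw [hv, hs, ha]⟩

omit C in
theorem z_ne {c d : F} (hc : c ≠ 0) {x : X} (e : x • zv c = zv d) : d ≠ 0 := by
  rintro rfl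
  have : x • zv c = x • (0 : F × F × F) := by rw [smul_zero]; exact e
  exact hc (congrArg (·.2.1) (MulAction.injective x this))

/-- the normalizer of `Z` -/
def NZ : Subgroup X where
  carrier := {x | ∃ d, x • zv (1 : F) = zv d}
  one_mem' := ⟨1, one_smul _ _⟩
  mul_mem' := by
    rintro x x' ⟨d, e⟩ ⟨d', e'⟩
    obtain ⟨d'', e''⟩ := C.ti one_ne_zero e d'
    exact ⟨d'', by rw [mul_smul, e', e'']⟩
  inv_mem' := by
    rintro x ⟨d, e⟩
    exact C.ti (z_ne one_ne_zero e) (inv_smul_eq_iff.2 e.symm) 1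
theorem mem_NZ {c d : F} (hc : c ≠ 0) {x : X} (e : x • zv c = zv d) : x ∈ C.NZ := C.ti hc e 1
theorem of_NZ {x : X} (h : x ∈ C.NZ) (c : F) : ∃ d, x • zv c = zv d :=
  let ⟨_, e⟩ := h; C.ti one_ne_zero e c
theorem y_mem (b : F) : C.y b ∈ C.NZ := ⟨1, C.y_z b 1⟩
theorem h_mem (l : Fˣ) : C.h l ∈ C.NZ := ⟨1, C.h_z l 1⟩

omit C in
theorem zv_add (c d : F) : zv (c + d) = zv c + zv d := by simp
omit C in
theorem zv_neg (c : F) : zv (-c) = -zv c := by simp
omit C in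
theorem zv_sub (c d : F) : zv (c - d) = zv c - zv d := by simp

theorem noR {x : X} {c a : F} (e : x • zv c = ((a, 0, 0) : F × F × F)) : c = 0 := by
  by_contra hc
  have h1 : (x⁻¹ * C.t * x) • zv c = zv (-c) := by
    rw [mul_smul, mul_smul, e, t_smul, inv_smul_eq_iff, zv_neg, smul_neg, e]; simp
  have h2 : ∀ d : F, ∃ a', x • zv d = ((a', 0, 0) : F × F × F) := fun d => by
    obtain ⟨d', e'⟩ := C.ti hc h1 d
    have hn : (x⁻¹ * C.t * x) * (x⁻¹ * C.t * x) = 1 := by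
      calc _ = x⁻¹ * (C.t * C.t) * x := by group
        _ = 1 := by rw [t_sq]; group
    have h3 : (x⁻¹ * C.t * x) • zv (d + d') = zv (d + d') := by
      rw [zv_add, smul_add, e', ← e', ← mul_smul, hn, one_smul, add_comm]
    have h4 : d + d' = 0 := by
      by_contra h
      have := C.fix_all h h3 c
      rw [h1, Prod.mk.injEq, Prod.mk.injEq] at this
      exact hc (mul_left_cancel₀ C.two (by linear_combination -this.2.1))
    rw [show d' = -d by linear_combination h4, mul_smul, mul_smul, inv_smul_eq_iff, zv_neg, smul_neg] at e'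
    obtain ⟨⟨a', c', s⟩, hv⟩ : ∃ v, x • zv d = v := ⟨_, rfl⟩
    rw [hv, t_smul, Prod.neg_mk, Prod.neg_mk, Prod.mk.injEq, Prod.mk.injEq] at e'
    have hc' : c' = 0 := mul_left_cancel₀ C.two (by linear_combination e'.2.1)
    have hs : s = 0 := mul_left_cancel₀ C.two (by linear_combination e'.2.2)
    exact ⟨a', by rw [hv, hc', hs]⟩
  obtain ⟨c1, h1', d1, h2', hn⟩ := C.nconj
  obtain ⟨a1, e1⟩ := h2 c1
  obtain ⟨a2, e2⟩ := h2 d1
  have n1 : a1 ≠ 0 := by rintro rfl; exact z_ne h1' e1 rfl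
  have n2 : a2 ≠ 0 := by rintro rfl; exact z_ne h2' e2 rfl
  apply hn (x⁻¹ * C.h (Units.mk0 (a2 / a1) (div_ne_zero n2 n1)) * x)
  rw [mul_smul, mul_smul, e1, C.h_smul, inv_smul_eq_iff, e2]
  simp [n1]

theorem noV {x : X} {c a c' : F} (hc : c ≠ 0) (e : x • zv c = ((a, c', 0) : F × F × F)) : a = 0 := by
  by_contra ha
  apply hc
  refine C.noR (x := C.y (c' / (2 * a)) * x) (a := a) ?_
  have := C.two
  rw [mul_smul, e, C.y_smul]; ext <;> simp only <;> field_simp <;> ring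

theorem s_ne {x : X} (hx : x ∉ C.NZ) {c : F} (hc : c ≠ 0) : (x • zv c).2.2 ≠ 0 := fun h => by
  obtain ⟨⟨a, c', s⟩, hv⟩ : ∃ v, x • zv c = v := ⟨_, rfl⟩
  rw [hv] at h
  obtain rfl : s = 0 := h
  obtain rfl := C.noV hc hv
  exact hx (C.mem_NZ hc hv)

/-- the centralizer of the involution -/
abbrev K : Subgroup X := centralizer {C.t}
/-- the two point stabilizer -/
abbrev H : Subgroup X := C.K ⊓ C.NZ
theorem mem_K {x : X} : x ∈ C.K ↔ x * C.t = C.t * x := mem_centralizer_singleton_iff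
theorem h_mem_K (l : Fˣ) : C.h l ∈ C.K := C.mem_K.2 (C.h_t l)
theorem h_mem_H (l : Fˣ) : C.h l ∈ C.H := ⟨C.h_mem_K l, C.h_mem l⟩
theorem y_K {b : F} (h : C.y b ∈ C.K) : b = 0 := by
  rw [mem_K, y_t, mul_left_cancel_iff] at h
  exact mul_left_cancel₀ C.two (by linear_combination -C.y_inj h)
theorem K_a {x : X} (h : x ∈ C.K) (c : F) : (x • zv c).1 = 0 := by
  have : C.t • x • zv c = x • zv c := by rw [← mul_smul, ← C.mem_K.1 h, mul_smul, t_smul]; simp
  obtain ⟨⟨a, c', s⟩, hv⟩ : ∃ v, x • zv c = v := ⟨_, rfl⟩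
  rw [hv, t_smul, Prod.mk.injEq] at this
  rw [hv]; exact mul_left_cancel₀ C.two (by linear_combination -this.1)

theorem exists_K {x : X} (h : (x • zv (1 : F)).1 = 0) : ∃ β, x * C.y β ∈ C.K := by
  have h1 : (x⁻¹ * C.t * x) • zv (1 : F) = zv 1 := by
    obtain ⟨⟨a, c', s⟩, hv⟩ : ∃ v, x • zv (1 : F) = v := ⟨_, rfl⟩
    rw [hv] at h
    obtain rfl : a = 0 := h
    rw [mul_smul, mul_smul, inv_smul_eq_iff, hv, t_smul, neg_zero]
  obtain ⟨b, l, e⟩ := C.stab 1 one_ne_zero _ h1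
  have hn : (x⁻¹ * C.t * x) * (x⁻¹ * C.t * x) = 1 := by
    calc _ = x⁻¹ * (C.t * C.t) * x := by group
      _ = 1 := by rw [t_sq]; group
  rw [e, mul_eq_one_iff_eq_inv, mul_inv_rev, h_inv, y_inv] at hn
  have h2 := C.y_h l⁻¹ (l * -b)
  rw [← mul_assoc, Units.inv_mul, one_mul, ← hn] at h2
  obtain ⟨h3, h4⟩ := C.yh_inj h2
  have h5 : (l : F) * l = 1 := by rw [← Units.val_mul]; nth_rewrite 1 [← h4]; simp
  rcases mul_self_eq_one_iff.1 h5 with h6 | h6
  · exfalso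
    rw [h6] at h3
    have hb : b = 0 := mul_left_cancel₀ C.two (by linear_combination -h3)
    rw [hb, y_zero, show l = 1 from Units.ext h6, h_one, one_mul] at e
    apply C.t_ne
    calc C.t = x * (x⁻¹ * C.t * x) * x⁻¹ := by group
      _ = 1 := by rw [e]; group
  · refine ⟨b / 2, C.mem_K.2 ?_⟩
    have h7 : C.h l = C.t := by rw [t]; congr 1; exact Units.ext (by simp [h6])
    rw [h7] at e
    have h8 : C.t * x = x * (C.y b * C.t) := by rw [← e]; group
    have := C.two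
    rw [← mul_assoc, h8, mul_assoc, mul_assoc, y_t, y_t, mul_assoc, y_mul]
    congr 3; field_simp; ring

theorem exists_H {x : X} (h : x ∈ C.NZ) : ∃ β, ∃ η ∈ C.H, x = η * C.y β := by
  obtain ⟨β, hβ⟩ := C.exists_K (x := x) (by obtain ⟨d, e⟩ := h; rw [e])
  exact ⟨-β, _, ⟨hβ, C.NZ.mul_mem h (C.y_mem β)⟩, by rw [← y_inv]; group⟩

theorem exists_KK {x : X} (h : x ∉ C.NZ) : ∃ b β, ∃ k ∈ C.K, k ∉ C.NZ ∧ x = C.y b * k * C.y β := by
  have hs := C.s_ne h one_ne_zero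
  obtain ⟨⟨a, c', s⟩, hv⟩ : ∃ v, x • zv (1 : F) = v := ⟨_, rfl⟩
  rw [hv] at hs
  have hs' : s ≠ 0 := hs
  obtain ⟨β, hβ⟩ := C.exists_K (x := C.y (a / s) * x) (by
    rw [mul_smul, hv, C.y_smul]; simp only; field_simp; ring)
  refine ⟨-(a / s), -β, _, hβ, fun h' => h ?_, by rw [← y_inv, ← y_inv]; group⟩
  exact (C.NZ.mul_mem_cancel_left (C.y_mem _)).1 ((C.NZ.mul_mem_cancel_right (C.y_mem _)).1 h')

theorem y_eq {k k' : X} (hk : k ∈ C.K) (hk' : k' ∈ C.K) (hn : k ∉ C.NZ) {b : F}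
    (h : k'⁻¹ * C.y b * k ∈ C.NZ) : b = 0 := by
  obtain ⟨d, e⟩ := h
  rw [mul_smul, mul_smul, inv_smul_eq_iff] at e
  have h1 := C.K_a hk 1
  have h2 := C.K_a hk' d
  have h3 := C.s_ne hn one_ne_zero
  obtain ⟨⟨a, c', s⟩, hv⟩ : ∃ v, k • zv (1 : F) = v := ⟨_, rfl⟩
  rw [hv] at h1 h3 e
  rw [← e, C.y_smul] at h2
  simp only at h1 h2 h3
  exact mul_left_cancel₀ h3 (by linear_combination h1 - h2)

variable [Fintype F] [Finite X]

theorem card_NZ : Nat.card C.NZ = Nat.card C.H * Fintype.card F := by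
  rw [← Nat.card_eq_fintype_card, ← Nat.card_prod]
  symm
  refine Nat.card_eq_of_bijective (fun v => ⟨v.1 * C.y v.2, C.NZ.mul_mem v.1.2.2 (C.y_mem _)⟩) ⟨?_, ?_⟩
  · rintro ⟨η, b⟩ ⟨η', b'⟩ e
    have e1 : (η : X) * C.y b = η' * C.y b' := congrArg Subtype.val e
    have e2 : C.y (b - b') = (η : X)⁻¹ * η' := by
      rw [sub_eq_add_neg, ← y_mul, ← y_inv, eq_inv_mul_iff_mul_eq, ← mul_assoc, e1]; group
    have e3 : b = b' := sub_eq_zero.1 (C.y_K (e2 ▸ C.K.mul_mem (C.K.inv_mem η.2.1) η'.2.1))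
    subst e3
    exact Prod.ext (Subtype.ext (mul_right_cancel e1)) rfl
  · rintro ⟨x, hx⟩
    obtain ⟨β, η, hη, rfl⟩ := C.exists_H hx
    exact ⟨(⟨η, hη⟩, β), rfl⟩

theorem card_out : Nat.card {x | x ∈ (Set.univ : Set X) ∧ x ∉ C.NZ} =
    Fintype.card F * (Nat.card {x | x ∈ (C.K : Set X) ∧ x ∉ C.NZ} * Fintype.card F) := by
  rw [← Nat.card_eq_fintype_card, ← Nat.card_prod, ← Nat.card_prod]
  symm
  refine Nat.card_eq_of_bijective (fun v => ⟨C.y v.1 * v.2.1 * C.y v.2.2, trivial, fun h' => v.2.1.2.2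
    ((C.NZ.mul_mem_cancel_left (C.y_mem _)).1 ((C.NZ.mul_mem_cancel_right (C.y_mem _)).1 h'))⟩) ⟨?_, ?_⟩
  · rintro ⟨b, k, β⟩ ⟨b', k', β'⟩ e
    have e1 : C.y b * k * C.y β = C.y b' * k' * C.y β' := congrArg Subtype.val e
    have e2 : (k' : X)⁻¹ * C.y (-b' + b) * k = C.y β' * (C.y β)⁻¹ := by
      rw [← y_mul, ← y_inv, eq_mul_inv_iff_mul_eq]
      calc _ = (k' : X)⁻¹ * (C.y b')⁻¹ * (C.y b * k * C.y β) := by group
        _ = _ := by rw [e1]; group
    have e3 : -b' + b = 0 :=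
      C.y_eq k.2.1 k'.2.1 k.2.2 (e2 ▸ C.NZ.mul_mem (C.y_mem _) (C.NZ.inv_mem (C.y_mem _)))
    rw [e3, y_zero, mul_one, y_inv, y_mul] at e2
    have e4 := C.y_K (e2 ▸ C.K.mul_mem (C.K.inv_mem k'.2.1) k.2.1)
    rw [e4, y_zero, inv_mul_eq_one] at e2
    exact Prod.ext (by linear_combination e3) (Prod.ext (Subtype.ext e2.symm) (by linear_combination -e4))
  · rintro ⟨x, -, hx⟩
    obtain ⟨b, β, k, hk, hk', rfl⟩ := C.exists_KK hx
    exact ⟨(b, ⟨k, hk, hk'⟩, β), rfl⟩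

theorem not_dvd_K [Fact p.Prime] : ¬ p ∣ Nat.card C.K := by
  intro hd
  obtain ⟨x, hx⟩ := exists_prime_orderOf_dvd_card' p hd
  obtain ⟨g, b, e⟩ := C.syl x (by have := pow_orderOf_eq_one x; rw [hx] at this; rw [← coe_pow, this]; rfl)
  have hb : b ≠ 0 := by
    rintro rfl
    rw [y_zero, mul_one, mul_inv_cancel] at e
    rw [show x = 1 from Subtype.ext e, orderOf_one] at hx
    exact (Fact.out : p.Prime).one_lt.ne hx
  have hR : ∀ a : F, ∃ a', (x : X) • ((a, 0, 0) : F × F × F) = (a', 0, 0) := fun a => by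
    have : C.t • (x : X) • ((a, 0, 0) : F × F × F) = -((x : X) • ((a, 0, 0) : F × F × F)) := by
      rw [← mul_smul, ← C.mem_K.1 x.2, mul_smul, t_smul, ← smul_neg]; simp
    obtain ⟨⟨a', c', s⟩, hv⟩ : ∃ v, (x : X) • ((a, 0, 0) : F × F × F) = v := ⟨_, rfl⟩
    rw [hv, t_smul, Prod.neg_mk, Prod.neg_mk, Prod.mk.injEq, Prod.mk.injEq] at this
    have hc' : c' = 0 := mul_left_cancel₀ C.two (by linear_combination this.2.1)
    have hs : s = 0 := mul_left_cancel₀ C.two (by linear_combination this.2.2)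
    exact ⟨a', by rw [hv, hc', hs]⟩
  have step : ∀ a0 a c s : F, g • (a, c, s) = (a0, 0, 0) →
      ∃ a1, g • ((-(s * b), -(2 * a * b) + s * b ^ 2, 0) : F × F × F) = (a1, 0, 0) := fun a0 a c s h => by
    obtain ⟨a', e'⟩ := hR a0
    rw [e, mul_smul, mul_smul, ← h, inv_smul_smul, C.y_smul] at e'
    refine ⟨a' - a0, ?_⟩
    have : ((-(s * b), -(2 * a * b) + s * b ^ 2, 0) : F × F × F) =
        (a - s * b, c - 2 * a * b + s * b ^ 2, s) - (a, c, s) := by ext <;> simp <;> ring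
    rw [this, smul_sub, e', h]; ext <;> simp
  obtain ⟨⟨a, c, s⟩, hv⟩ : ∃ v, g⁻¹ • ((1, 0, 0) : F × F × F) = v := ⟨_, rfl⟩
  rw [inv_smul_eq_iff] at hv
  obtain ⟨a1, h1⟩ := step _ _ _ _ hv.symm
  obtain ⟨a2, h2⟩ := step _ _ _ _ h1
  rw [zero_mul, neg_zero] at h2
  have hs : s = 0 := by
    have := C.noR h2
    apply mul_left_cancel₀ (mul_ne_zero C.two (pow_ne_zero 2 hb)); linear_combination this
  rw [hs, zero_mul, neg_zero] at h1
  have ha : a = 0 := by
    have := C.noR h1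
    apply mul_left_cancel₀ (mul_ne_zero C.two hb); linear_combination -this
  rw [hs, ha] at hv
  have := C.noR hv.symm
  rw [this, show ((0, 0, 0) : F × F × F) = 0 from rfl, smul_zero] at hv
  exact one_ne_zero (congrArg Prod.fst hv)

end Cfg
end Cfsg.Agent.H76
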