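import Mathlib

/-! The projective plane of order 3: its collineation group has order at most 5616. -/

set_option autoImplicit false

namespace Cfsg.Agent.H76.PG23

open Matrix

/-- representatives of the 13 points -/
def pt : Fin 13 → Fin 3 → ZMod 3 :=
  ![![1,0,0], ![0,1,0], ![0,0,1], ![1,1,1], ![1,1,0], ![1,0,1], ![0,1,1], ![1,2,0], ![1,0,2],
    ![0,1,2], ![1,1,2], ![1,2,1], ![2,1,1]]

/-- incidence of the point `p` and the line `l` -/
def inc (p l : Fin 13) : Bool :=
  Nat.testBit (nat_lit 0x12304a8138209282a20e3806a058841c4024c24a246) (13 * p.val + l.val)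

/-- collinearity table -/
def colN (p q r : ℕ) : Bool :=
  Nat.testBit (nat_lit 0x1fffc42540a461502c424126461230824e212a05049c427ffdc02e014a862112a082a4a820ab10882a700d409c03fff700d4089c04e0270107083841ca813806460e01700fffc71038812348c24603881230919c035024a85408711fff1c4254024a9501c40496a04125c4262109c03881c47ffc9c04e00498e23108093049c1252a04e012325409c1fff2702542092246123412646082a27048c024a4e02707ffe46082a092a0a824b2304a81072460950049a542461fff20e1070126093824a0a88383881c40e2209282a20e7ffc83882a824e21310841c12304971082460929070839fff1230496a0482aa81091aa0409312320a812682a1237ffc127049700b805c02125049c12424a0938248494127fff)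
    (169 * p + 13 * q + r)

/-- collinearity -/
def col (p q r : Fin 13) : Bool := colN p.val q.val r.val

theorem pt_ne : ∀ i, pt i ≠ 0 := by decide +kernel

theorem exists_pt : ∀ u : Fin 3 → ZMod 3, u ≠ 0 → ∃ i, ∃ c : ZMod 3, c ≠ 0 ∧ u = c • pt i := by
  decide +kernel

theorem pt_inj : ∀ i j, ∀ c : ZMod 3, pt i = c • pt j → i = j := by decide +kernel

theorem inc_iff : ∀ p l, inc p l = true ↔ pt l ⬝ᵥ pt p = 0 := by decide +kernel

theorem col_iff : ∀ p q r, col p q r = true ↔ ∃ l, inc p l ∧ inc q l ∧ inc r l := by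
  decide +kernel

theorem inc_uniq : ∀ i j k l, inc i k → inc i l → inc j k → inc j l → i = j ∨ k = l := by
  decide +kernel

theorem exists_line : ∀ p q, ∃ l, inc p l ∧ inc q l := by decide +kernel

theorem exists_point : ∀ l, ∃ p, inc p l := by decide +kernel

/-- the collineation group -/
def Coll : Subgroup (Equiv.Perm (Fin 13)) where
  carrier := {σ | ∀ p q r, col (σ p) (σ q) (σ r) = col p q r}
  mul_mem' := fun {a b} ha hb p q r => (ha _ _ _).trans (hb p q r)
  one_mem' := fun _ _ _ => rfl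
  inv_mem' := fun {a} ha p q r => by
    have := ha (a⁻¹ p) (a⁻¹ q) (a⁻¹ r)
    simpa using this.symm

theorem eq_one_of_frame {σ : Equiv.Perm (Fin 13)} (h : σ ∈ Coll) (h0 : σ 0 = 0) (h1 : σ 1 = 1)
    (h2 : σ 2 = 2) (h3 : σ 3 = 3) : σ = 1 := by
  have key : ∀ x p q r s : Fin 13, (col x p q = true ∧ col x r s = true ∧
      ∀ y, col y p q = true → col y r s = true → y = x) → σ p = p → σ q = q → σ r = r → σ s = s →
      σ x = x := by
    rintro x p q r s ⟨a, b, c⟩ hp hq hr hs
    refine c _ ?_ ?_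
    · rw [← a, ← h x p q, hp, hq]
    · rw [← b, ← h x r s, hr, hs]
  have h4 := key 4 0 1 2 3 (by decide +kernel) h0 h1 h2 h3
  have h5 := key 5 0 2 1 3 (by decide +kernel) h0 h2 h1 h3
  have h6 := key 6 0 3 1 2 (by decide +kernel) h0 h3 h1 h2
  have h7 := key 7 0 1 5 6 (by decide +kernel) h0 h1 h5 h6
  have h8 := key 8 0 2 3 7 (by decide +kernel) h0 h2 h3 h7
  have h9 := key 9 1 2 3 7 (by decide +kernel) h1 h2 h3 h7
  have h10 := key 10 0 9 1 8 (by decide +kernel) h0 h9 h1 h8
  have h11 := key 11 0 9 1 3 (by decide +kernel) h0 h9 h1 h3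
  have h12 := key 12 0 3 1 8 (by decide +kernel) h0 h3 h1 h8
  refine Equiv.ext fun x => ?_
  fin_cases x
  exacts [h0, h1, h2, h3, h4, h5, h6, h7, h8, h9, h10, h11, h12]

/-- codes of ordered frames -/
def frames : List ℕ := (List.range 28561).filter fun n =>
  !(colN (n / 2197) (n / 169 % 13) (n / 13 % 13) || colN (n / 2197) (n / 169 % 13) (n % 13) ||
    colN (n / 2197) (n / 13 % 13) (n % 13) || colN (n / 169 % 13) (n / 13 % 13) (n % 13))

theorem length_frames : frames.length = 5616 := by decide +kernel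

theorem card_Coll_le : Nat.card Coll ≤ 5616 := by
  refine le_trans ?_ ((List.toFinset_card_le frames).trans length_frames.le)
  rw [← Nat.card_eq_finsetCard]
  refine Nat.card_le_card_of_injective
    (fun σ => ⟨2197 * (σ.1 0).val + 169 * (σ.1 1).val + 13 * (σ.1 2).val + (σ.1 3).val, ?_⟩)
    fun σ τ e => ?_
  · have a0 := (σ.1 0).2
    have a1 := (σ.1 1).2
    have a2 := (σ.1 2).2
    have a3 := (σ.1 3).2
    rw [List.mem_toFinset, frames, List.mem_filter, List.mem_range]
    refine ⟨by omega, ?_⟩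
    set n := 2197 * (σ.1 0).val + 169 * (σ.1 1).val + 13 * (σ.1 2).val + (σ.1 3).val with hn
    have e0 : n / 2197 = (σ.1 0).val := by omega
    have e1 : n / 169 % 13 = (σ.1 1).val := by omega
    have e2 : n / 13 % 13 = (σ.1 2).val := by omega
    have e3 : n % 13 = (σ.1 3).val := by omega
    rw [e0, e1, e2, e3]
    change (!(col (σ.1 0) (σ.1 1) (σ.1 2) || col (σ.1 0) (σ.1 1) (σ.1 3) ||
      col (σ.1 0) (σ.1 2) (σ.1 3) || col (σ.1 1) (σ.1 2) (σ.1 3))) = true
    rw [σ.2, σ.2, σ.2, σ.2]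
    decide +kernel
  · have a0 := (σ.1 0).2
    have a1 := (σ.1 1).2
    have a2 := (σ.1 2).2
    have a3 := (σ.1 3).2
    have b0 := (τ.1 0).2
    have b1 := (τ.1 1).2
    have b2 := (τ.1 2).2
    have b3 := (τ.1 3).2
    simp only [Subtype.mk.injEq] at e
    have e0 : σ.1 0 = τ.1 0 := Fin.ext (by omega)
    have e1 : σ.1 1 = τ.1 1 := Fin.ext (by omega)
    have e2 : σ.1 2 = τ.1 2 := Fin.ext (by omega)
    have e3 : σ.1 3 = τ.1 3 := Fin.ext (by omega)
    have := eq_one_of_frame (τ⁻¹ * σ).2 (by simp [e0]) (by simp [e1]) (by simp [e2]) (by simp [e3])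
    have h : τ⁻¹ * σ = 1 := Subtype.ext this
    rw [inv_mul_eq_one] at h
    exact h.symm

end Cfsg.Agent.H76.PG23
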