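/-
Rank 3 Frobenius problem: the case of a complement of odd order is impossible.
-/
import Cfsg.Agent.H76.RkB
import Cfsg.Agent.S0042
import Cfsg.Agent.H49.SylowOf

set_option autoImplicit false

namespace Cfsg.Agent.H76.Rk

open Finset MulAction

variable {G X : Type*} [Group G]

theorem syl_conj [Finite G] {p : ℕ} [Fact p.Prime] (T : Subgroup G) (P : Sylow p T)
    (Q : Subgroup G) (hQ : Q ≤ T) (hp : IsPGroup p Q) :
    ∃ m ∈ T, ∀ x ∈ Q, m⁻¹ * x * m ∈ (P : Subgroup T).map T.subtype := by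
  have h1 : IsPGroup p (Q.subgroupOf T) := hp.of_equiv (Subgroup.subgroupOfEquivOfLe hQ).symm
  obtain ⟨P2, hP2⟩ := h1.exists_le_sylow
  obtain ⟨m, rfl⟩ := MulAction.exists_smul_eq T P P2
  refine ⟨m, m.2, fun x hx => ?_⟩
  have : (⟨x, hQ hx⟩ : T) ∈ ((m • P : Sylow p T) : Subgroup T) := hP2 hx
  rw [Sylow.coe_subgroup_smul, Subgroup.mem_pointwise_smul_iff_inv_smul_mem] at this
  exact ⟨_, this, by simp⟩

theorem central_inv_of_nilpotent {K : Type*} [Group K] [Finite K] (hK : Group.IsNilpotent K)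
    (h2 : 2 ∣ Nat.card K) : ∃ z : K, z ≠ 1 ∧ z * z = 1 ∧ ∀ y, z * y = y * z := by
  haveI : Fact (Nat.Prime 2) := ⟨Nat.prime_two⟩
  obtain ⟨P⟩ : Nonempty (Sylow 2 K) := inferInstance
  have hn : (P : Subgroup K).Normal := by
    have := (isNilpotent_of_finite_tfae (G := K)).out 0 3
    exact (this.1 hK) 2 inferInstance P
  have hP : (P : Subgroup K) ≠ ⊥ := P.ne_bot_of_dvd_card h2
  have := H49.inf_center_ne_bot_of_nilpotent (N := (P : Subgroup K)) (K := ⊤)
    (Group.isNilpotent_top.2 hK) le_top (by rw [Subgroup.normalizer_eq_top]) hP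
  obtain ⟨⟨z, hz1, hz2⟩, hz⟩ := Subgroup.ne_bot_iff_exists_ne_one.1 this
  have hz' : z ≠ 1 := fun e => hz (Subtype.ext e)
  obtain ⟨n, hn⟩ := P.isPGroup' ⟨z, hz1⟩
  have hn' : z ^ 2 ^ n = 1 := congrArg Subtype.val hn
  obtain ⟨j, -, hj⟩ := (Nat.dvd_prime_pow Nat.prime_two).1 (orderOf_dvd_of_pow_eq_one hn')
  rcases j with _ | j
  · exact absurd (orderOf_eq_one_iff.1 hj) hz'
  refine ⟨z ^ 2 ^ j, pow_ne_one_of_lt_orderOf (by positivity) (by
    rw [hj]; exact Nat.pow_lt_pow_right (by norm_num) (by omega)), ?_, fun y => ?_⟩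
  · rw [← pow_add, ← two_mul, ← pow_succ', ← hj, pow_orderOf_eq_one]
  · have := Subgroup.mem_centralizer_iff.1 hz2 y (Subgroup.mem_top y)
    exact ((show Commute y z from this).symm.pow_left _).eq

variable [MulAction G X] {adj : X → X → Prop}

/-- the central involutions of a subgroup, with `1` -/
def Om (K : Subgroup G) : Subgroup G where
  carrier := {g | g ∈ K ∧ g * g = 1 ∧ ∀ y ∈ K, g * y = y * g}
  one_mem' := ⟨K.one_mem, mul_one _, fun y _ => by simp⟩
  mul_mem' := by
    rintro a b ⟨ha, ha2, ha3⟩ ⟨hb, hb2, hb3⟩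
    refine ⟨K.mul_mem ha hb, ?_, fun y hy => ?_⟩
    · calc a * b * (a * b) = a * (b * a) * b := by group
        _ = (a * a) * (b * b) := by rw [← ha3 b hb]; group
        _ = 1 := by rw [ha2, hb2, one_mul]
    · rw [mul_assoc, hb3 y hy, ← mul_assoc, ha3 y hy, mul_assoc]
  inv_mem' := by
    rintro a ⟨ha, ha2, ha3⟩
    rw [inv_eq_of_mul_eq_one_right ha2]
    exact ⟨ha, ha2, ha3⟩

theorem mem_Om {K : Subgroup G} {g : G} :
    g ∈ Om K ↔ g ∈ K ∧ g * g = 1 ∧ ∀ y ∈ K, g * y = y * g := Iff.rfl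

/-- elements swapping two points lie in one coset of the pointwise stabiliser -/
theorem swap_card [Finite G] {a y : X} (S : Finset G) (hS : ∀ g ∈ S, g • a = y ∧ g • y = a) :
    S.card ≤ Nat.card (S2 G a y) := by
  classical
  rcases S.eq_empty_or_nonempty with rfl | ⟨g0, h0⟩
  · simp
  haveI : Fintype (S2 G a y) := Fintype.ofFinite _
  rw [Nat.card_eq_fintype_card, ← Finset.card_univ, ← Finset.card_attach]
  refine Finset.card_le_card_of_injOn (fun g => ⟨g0 * g.1, ?_⟩) (fun _ _ => Finset.mem_univ _) ?_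
  · rw [mem_S2, mul_smul, mul_smul, (hS _ g.2).1, (hS _ g.2).2, (hS _ h0).1, (hS _ h0).2]
    exact ⟨rfl, rfl⟩
  · intro g _ g' _ e
    exact Subtype.ext (mul_left_cancel (congrArg Subtype.val e))

namespace RN

variable [Finite G] [Fintype X] {K : X → Subgroup G} {k h t l : ℕ}

open Classical in
omit [Finite G] in
theorem count_eq (_R : RN G adj K k h t l) (a : X) (S : Finset G) (hS : ∀ g ∈ S, g • a ≠ a) :
    S.card = ∑ b ∈ nb adj a, (S.filter (fun g => g • a = b)).card +
      ∑ c ∈ nn adj a, (S.filter (fun g => g • a = c)).card := by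
  rw [← Finset.sum_union (by
    rw [Finset.disjoint_left]; intro x h1 h2; rw [mem_nb] at h1; rw [mem_nn] at h2
    exact h2.2 h1)]
  refine Finset.card_eq_sum_card_fiberwise (f := fun g => g • a) (fun g hg => ?_)
  simp only [Finset.coe_union, Set.mem_union, Finset.mem_coe, mem_nb, mem_nn]
  by_cases h1 : adj a (g • a)
  · exact Or.inl h1
  · exact Or.inr ⟨hS g hg, h1⟩

theorem K_nilp (R : RN G adj K k h t l) (a : X) : Group.IsNilpotent (K a) := by
  obtain ⟨b, hb⟩ := R.ex a
  obtain ⟨p, hp, hd⟩ := Nat.exists_prime_and_dvd (n := h) (by have := R.h_ge a; omega)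
  haveI := Fact.mk hp
  obtain ⟨x, hx⟩ := exists_prime_orderOf_dvd_card' (G := S2 G a b) p (by rw [R.card_H hb]; exact hd)
  have hle : K a ≤ stabilizer G a := fun g hg => R.K_fix hg
  haveI : ((K a).subgroupOf (stabilizer G a)).Normal := ⟨fun n hn g => by
    rw [Subgroup.mem_subgroupOf] at hn ⊢
    exact R.conj_K' hn g.2⟩
  have hx1 : (x : G) ≠ 1 := by
    intro e
    have : x = 1 := Subtype.ext e
    rw [this, orderOf_one] at hx
    exact hp.one_lt.ne hx
  have := S0042.nilpotent_of_fpf ((K a).subgroupOf (stabilizer G a))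
    (s := ⟨x, x.2.1⟩) (by rw [← Subgroup.orderOf_coe]; rw [← Subgroup.orderOf_coe] at hx; simpa [hx])
    (by
      rw [eq_bot_iff]
      rintro y ⟨hy1, hy2⟩
      rw [Subgroup.mem_bot]
      apply Subtype.ext
      have := Subgroup.mem_centralizer_iff.1 hy2 _ rfl
      exact R.fpf hb x.2.1 x.2.2 hx1 hy1 (congrArg Subtype.val this))
  exact nilpotent_of_mulEquiv (Subgroup.subgroupOfEquivOfLe hle)

omit [Finite G] in
theorem conj_Om (R : RN G adj K k h t l) {a : X} {w : G} (hw : w ∈ Om (K a)) (g : G) :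
    g * w * g⁻¹ ∈ Om (K (g • a)) := by
  obtain ⟨h1, h2, h3⟩ := hw
  refine ⟨R.conj_K h1 g, ?_, fun y hy => ?_⟩
  · calc _ = g * (w * w) * g⁻¹ := by group
      _ = 1 := by rw [h2]; group
  · have := h3 _ (by simpa using R.conj_K hy g⁻¹)
    calc _ = g * (w * (g⁻¹ * y * g)) * g⁻¹ := by group
      _ = _ := by rw [this]; group

/-- a two point stabiliser contained in another one -/
theorem S2_eq (R : RN G adj K k h t l) {a c y y' : X} (hac : a ≠ c) (hn : ¬ adj a c)
    (hyy : y ≠ y') (hn' : ¬ adj y y') (hle : S2 G a c ≤ S2 G y y') : S2 G a c = S2 G y y' :=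
  Subgroup.eq_of_le_of_card_ge hle (by rw [R.card_T hac hn, R.card_T hyy hn'])

/-- for an odd complement the two point stabilisers of non-adjacent points lie in the kernel -/
theorem T_le_K (R : RN G adj K k h t l) (hh : Odd h) {a c : X} (hac : a ≠ c) (hn : ¬ adj a c) :
    S2 G a c ≤ K a := by
  classical
  intro x hx
  by_contra hxK
  obtain ⟨b, hb, hxb⟩ := R.fix_nb hx.1 hxK
  have hx1 : x ≠ 1 := by rintro rfl; exact hxK (K a).one_mem
  obtain ⟨p, hp, hd⟩ := Nat.exists_prime_and_dvd (n := orderOf x) (by simpa using hx1)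
  haveI := Fact.mk hp
  have hph : p ∣ h := hd.trans (orderOf_dvd_of_pow_eq_one (R.pow_h hb hx.1 hxb))
  have hpt : p ∣ Nat.card (S2 G a c) := hd.trans ((S2 G a c).orderOf_dvd_natCard hx)
  obtain ⟨P⟩ : Nonempty (Sylow p (S2 G a c)) := inferInstance
  set P' := (P : Subgroup (S2 G a c)).map (S2 G a c).subtype with hP'
  have hPp : IsPGroup p P' := P.isPGroup'.map _
  have hPle : P' ≤ S2 G a c := Subgroup.map_subtype_le _
  have hPne : P' ≠ ⊥ := by
    rw [hP', Ne, Subgroup.map_eq_bot_iff_of_injective _ (S2 G a c).subtype_injective]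
    exact P.ne_bot_of_dvd_card hpt
  haveI : Nontrivial P' := (Subgroup.nontrivial_iff_ne_bot _).2 hPne
  haveI := hPp.center_nontrivial
  obtain ⟨⟨z, hzc⟩, hz⟩ := exists_ne (1 : Subgroup.center P')
  · have hz1 : (z : G) ≠ 1 := fun e => hz (Subtype.ext (Subtype.ext e))
    have hzc' : ∀ g ∈ P', g * z = z * g := fun g hg =>
      congrArg Subtype.val (Subgroup.mem_center_iff.1 hzc ⟨g, hg⟩)
    have hzK : ∀ y : X, (z : G) ∉ K y := by
      intro y hy
      obtain ⟨n, hn⟩ := hPp z
      have h1 : (z : G) ^ p ^ n = 1 := congrArg Subtype.val hn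
      have h2 := pow_gcd_eq_one.2 ⟨R.pow_k hy, h1⟩
      have : Nat.Coprime k (p ^ n) := ((R.cop a).coprime_dvd_right hph).pow_right n
      rw [this, pow_one] at h2
      exact hz1 h2
    let F : Finset X := univ.filter (fun y => ∀ g ∈ P', g • y = y)
    have hF : ∀ y, y ∈ F ↔ ∀ g ∈ P', g • y = y := fun y => by simp [F]
    have part : ∀ y ∈ F, ∃ y', y' ∈ F ∧ adj y y' := by
      intro y hy
      rw [hF] at hy
      obtain ⟨y', h1, h2⟩ := R.fix_nb (hy z z.2) (hzK y)
      refine ⟨y', (hF _).2 (fun g hg => ?_), h1⟩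
      refine R.nb_unique hz1 (hy z z.2) (R.adj_of_fix (hy g hg) h1) h1 ?_ h2
      rw [← mul_smul, ← hzc' g hg, mul_smul, h2]
    have uniq : ∀ y ∈ F, ∀ y1 ∈ F, ∀ y2 ∈ F, adj y y1 → adj y y2 → y1 = y2 := by
      intro y hy y1 h1 y2 h2 a1 a2
      exact R.nb_unique hz1 ((hF _).1 hy z z.2) a1 a2 ((hF _).1 h1 z z.2) ((hF _).1 h2 z z.2)
    choose! f hf1 hf2 using part
    have heven : Even F.card := even_of_inv F f hf1
      (fun y hy => uniq _ (hf1 y hy) _ (hf1 _ (hf1 y hy)) _ hy (hf2 _ (hf1 y hy)) (R.symm (hf2 y hy)))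
      (fun y hy => (R.ne (hf2 y hy)).symm)
    have haF : a ∈ F := (hF _).2 (fun g hg => (hPle hg).1)
    have hcF : c ∈ F := (hF _).2 (fun g hg => (hPle hg).2)
    let N : Subgroup G := stabilizer G a ⊓ Subgroup.normalizer (P' : Set G)
    have hNF : ∀ g ∈ N, ∀ y ∈ F, g • y ∈ F := by
      intro g hg y hy
      rw [hF] at hy ⊢
      intro x hx
      have : g⁻¹ * x * g ∈ P' := by
        have := (Subgroup.mem_normalizer_iff''.1 hg.2 x).1 hx
        exact this
      have := hy _ this
      rw [mul_smul, mul_smul, inv_smul_eq_iff] at this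
      exact this
    have hNle : N ≤ S2 G a (f a) := fun g hg =>
      ⟨hg.1, uniq a haF _ (hNF g hg _ (hf1 a haF)) _ (hf1 a haF) (R.adj_of_fix hg.1 (hf2 a haF))
        (hf2 a haF)⟩
    have hNodd : Odd (Nat.card N) := by
      have := Subgroup.card_dvd_of_le hNle
      rw [R.card_H (hf2 a haF)] at this
      exact hh.of_dvd_nat this
    have horb := orb N (N ⊓ stabilizer G c) (fun (g : G) (x : X) => g • x) (one_smul G)
      (fun g g' y => mul_smul g g' y) c (fun g => Iff.rfl) (F ∩ nn adj a) (fun y => by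
        rw [Finset.mem_inter, mem_nn]
        constructor
        · rintro ⟨hy, hy1, hy2⟩
          obtain ⟨g, hg1, hg2⟩ := R.non hac hn hy1.symm hy2
          obtain ⟨m, hm, hm'⟩ := syl_conj (S2 G a c) P (P'.map (MulAut.conj g⁻¹).toMonoidHom) (by
            rintro _ ⟨x, hx, rfl⟩
            have e1 : x • a = a := (hPle hx).1
            have e2 := (hF _).1 hy x hx
            rw [mem_S2]
            simp only [MulEquiv.coe_toMonoidHom, MulAut.conj_apply, inv_inv, mul_smul, hg1, hg2, e1,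
              e2, inv_smul_eq_iff]
            exact ⟨trivial, trivial⟩) (hPp.map _)
          refine ⟨g * m, ⟨?_, ?_⟩, by rw [mul_smul, hm.2, hg2]⟩
          · show (g * m) • a = a
            rw [mul_smul, hm.1, hg1]
          · apply Subgroup.inv_mem_iff _ |>.1
            apply Subgroup.mem_normalizer_fintype
            intro x hx
            have := hm' _ ⟨x, hx, rfl⟩
            rw [← hP'] at this
            simpa [mul_assoc] using this
        · rintro ⟨g, hg, rfl⟩
          exact ⟨hNF g hg c hcF, fun e => hac (smul_left_cancel g (by rw [e]; exact hg.1)),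
            R.nadj_of_fix hg.1 hn⟩)
    have hodd : Odd (F ∩ nn adj a).card := by
      rw [← horb] at hNodd
      exact (Nat.odd_mul.1 hNodd).1
    have hFe : F = insert a (insert (f a) (F ∩ nn adj a)) := by
      ext y
      simp only [Finset.mem_insert, Finset.mem_inter, mem_nn]
      constructor
      · intro hy
        by_cases h1 : y = a
        · exact Or.inl h1
        · by_cases h2 : adj a y
          · exact Or.inr (Or.inl (uniq a haF _ hy _ (hf1 a haF) h2 (hf2 a haF)))
          · exact Or.inr (Or.inr ⟨hy, h1, h2⟩)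
      · rintro (rfl | rfl | h)
        · exact haF
        · exact hf1 a haF
        · exact h.1
    rw [hFe, Finset.card_insert_of_notMem (by simp [R.ne (hf2 a haF)]),
      Finset.card_insert_of_notMem (by simp [hf2 a haF])] at heven
    obtain ⟨j, hj⟩ := hodd
    obtain ⟨i, hi⟩ := heven
    omega

end RN

end Cfsg.Agent.H76.Rk
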