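/-
Rank 3 Frobenius problem: the case of a complement of odd order is impossible (end).
-/
import Cfsg.Agent.H76.RkC

set_option autoImplicit false

namespace Cfsg.Agent.H76.Rk

open Finset MulAction

/-- the finite set of the elements with a property -/
noncomputable def fin {Y : Type*} [Finite Y] (p : Y → Prop) : Finset Y :=
  (Set.toFinite {g | p g}).toFinset

@[simp] theorem mem_fin {Y : Type*} [Finite Y] {p : Y → Prop} {y : Y} : y ∈ fin p ↔ p y := by
  simp [fin]

theorem card_fin_sub {G : Type*} [Group G] [Finite G] (P : Subgroup G) :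
    (fin (· ∈ P)).card = Nat.card P := by
  rw [fin, ← Set.ncard_eq_toFinset_card]; rfl

variable {G X : Type*} [Group G] [MulAction G X] {adj : X → X → Prop}

theorem cj_one (y : G) : (1 : G) * y * 1⁻¹ = y := by simp

theorem cj_mul (g g' y : G) : g * g' * y * (g * g')⁻¹ = g * (g' * y * g'⁻¹) * g⁻¹ := by group

namespace RN

variable [Finite G] [Fintype X] {K : X → Subgroup G} {k h t l : ℕ}

omit [Finite G] in
theorem k_even (R : RN G adj K k h t l) (hG : Even (Nat.card G)) (hh : Odd h) : 2 ∣ k := by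
  by_contra hk
  have hk' : Odd k := Nat.odd_iff.2 (by omega)
  have h1 : Odd (l * t) := by rw [R.lt]; exact hk'.mul hh
  have h2 : Odd l := (Nat.odd_mul.1 h1).1
  have h3 : Odd (Fintype.card X) := by
    rw [R.card_X]; obtain ⟨i, hi⟩ := hk'; obtain ⟨j, hj⟩ := h2; exact ⟨i + j + 1, by omega⟩
  rw [R.card_G] at hG
  exact (Nat.not_even_iff_odd.2 (h3.mul (hk'.mul hh))) hG

theorem Os_card (R : RN G adj K k h t l) (hk : 2 ∣ k) (a : X) :
    h ∣ (fin (fun w => w ∈ Om (K a) ∧ w ≠ 1)).card ∧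
      h ≤ (fin (fun w => w ∈ Om (K a) ∧ w ≠ 1)).card := by
  obtain ⟨b, hb⟩ := R.ex a
  have h1 := semi (S2 G a b) (fun g y => g * y * g⁻¹) cj_one cj_mul
    (fin (fun w => w ∈ Om (K a) ∧ w ≠ 1)) (by
      intro g hg y hy
      rw [mem_fin] at hy ⊢
      refine ⟨by have := R.conj_Om hy.1 g; rwa [show g • a = a from hg.1] at this, ?_⟩
      simpa using hy.2) (by
      intro g hg y hy e
      rw [mem_fin] at hy
      by_contra hg1
      exact hy.2 (R.fpf hb hg.1 hg.2 hg1 hy.1.1 (mul_inv_eq_iff_eq_mul.1 e)))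
  rw [R.card_H hb] at h1
  refine ⟨h1, Nat.le_of_dvd (Finset.card_pos.2 ?_) h1⟩
  obtain ⟨z, hz1, hz2, hz3⟩ := central_inv_of_nilpotent (R.K_nilp a) (by rw [R.card_K]; exact hk)
  exact ⟨z, mem_fin.2 ⟨⟨z.2, congrArg Subtype.val hz2, fun y hy =>
    congrArg Subtype.val (hz3 ⟨y, hy⟩)⟩, fun e => hz1 (Subtype.ext e)⟩⟩

theorem t_ne_one (R : RN G adj K k h t l) (hh : Odd h) (hk : 2 ∣ k) (a : X) : t ≠ 1 := by
  classical
  intro ht
  have hone : ∀ y y' : X, ∀ w ∈ K y, w ≠ 1 → w • y' = y' → y' = y := by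
    intro y y' w hw hw1 e
    by_contra hne
    have hna := R.nadj_of_K hw hw1 (R.K_fix hw) e
    have := R.card_T (Ne.symm hne) hna
    rw [ht] at this
    have hb := Subgroup.eq_bot_of_card_eq _ this
    exact hw1 ((Subgroup.mem_bot).1 (hb ▸ (⟨R.K_fix hw, e⟩ : w ∈ S2 G y y')))
  let S : Finset G := (univ.erase a).biUnion (fun y => fin (fun w => w ∈ Om (K y) ∧ w ≠ 1))
  have hS : ∀ w ∈ S, w • a ≠ a ∧ w * w = 1 := by
    intro w hw
    obtain ⟨y, hy, hw⟩ := Finset.mem_biUnion.1 hw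
    rw [mem_fin] at hw
    exact ⟨fun e => (Finset.mem_erase.1 hy).1 (hone y a w hw.1.1 hw.2 e).symm, hw.1.2.1⟩
  have h1 : (k + l) * h ≤ S.card := by
    rw [Finset.card_biUnion (by
      intro y _ y' _ hne
      rw [Function.onFun, Finset.disjoint_left]
      intro w h1 h2
      rw [mem_fin] at h1 h2
      exact hne (hone y' y w h2.1.1 h2.2 (R.K_fix h1.1.1)))]
    have : (univ.erase a).card = k + l := by
      rw [Finset.card_erase_of_mem (Finset.mem_univ _), Finset.card_univ, R.card_X]; omega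
    rw [← this, ← smul_eq_mul]
    exact Finset.card_nsmul_le_sum _ _ _ (fun y _ => (R.Os_card hk y).2)
  have hsw : ∀ y, (S.filter (fun g => g • a = y)).card ≤ Nat.card (S2 G a y) := by
    intro y
    refine swap_card _ (fun g hg => ?_)
    rw [Finset.mem_filter] at hg
    exact ⟨hg.2, by rw [← hg.2, ← mul_smul, (hS g hg.1).2, one_smul]⟩
  have h2 := R.count_eq a S (fun g hg => (hS g hg).1)
  have h3 : ∑ b ∈ nb adj a, (S.filter (fun g => g • a = b)).card ≤ k * h := by
    rw [← R.card_nb a, ← smul_eq_mul]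
    exact Finset.sum_le_card_nsmul _ _ _ (fun b hb => by
      have := hsw b; rwa [R.card_H (mem_nb.1 hb)] at this)
  have h4 : ∑ c ∈ nn adj a, (S.filter (fun g => g • a = c)).card ≤ l * 1 := by
    rw [← R.card_nn a, ← smul_eq_mul]
    exact Finset.sum_le_card_nsmul _ _ _ (fun c hc => by
      have := hsw c; rwa [R.card_T (mem_nn.1 hc).1.symm (mem_nn.1 hc).2, ht] at this)
  have := R.h_ge a
  have := R.l_pos a
  nlinarith

theorem claim1 (R : RN G adj K k h t l) (hh : Odd h) (hk : 2 ∣ k) {a c : X} (hac : a ≠ c)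
    (hn : ¬ adj a c) {w w' : G} (hw : w ∈ Om (K a)) (hw' : w' ∈ Om (K a)) (h1 : w • c ≠ c)
    (h2 : w' • c ≠ c) : w • c = w' • c := by
  have ht : 1 < Nat.card (S2 G a c) := by
    rw [R.card_T hac hn]; have := R.t_ne_one hh hk a; have := R.t_pos a; omega
  haveI := Finite.one_lt_card_iff_nontrivial.1 ht
  obtain ⟨⟨u, hu⟩, hu1⟩ := exists_ne (1 : S2 G a c)
  have hu1' : u ≠ 1 := fun e => hu1 (Subtype.ext e)
  have huK := R.T_le_K hh hac hn hu
  have key : ∀ y y' : X, y ≠ y' → (∀ x ∈ S2 G a c, x • y = y ∧ x • y' = y') →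
      ¬ adj y y' ∧ S2 G a c = S2 G y y' := by
    intro y y' hne hf
    have hna := R.nadj_of_K huK hu1' (hf u hu).1 (hf u hu).2
    exact ⟨hna, R.S2_eq hac hn hne hna (fun x hx => hf x hx)⟩
  have fw : ∀ v ∈ Om (K a), ∀ x ∈ S2 G a c, x • c = c ∧ x • v • c = v • c := by
    intro v hv x hx
    refine ⟨hx.2, ?_⟩
    rw [← mul_smul, ← hv.2.2 x (R.T_le_K hh hac hn hx), mul_smul, show x • c = c from hx.2]
  obtain ⟨n1, e1⟩ := key c (w • c) h1.symm (fw w hw)
  obtain ⟨n2, e2⟩ := key c (w' • c) h2.symm (fw w' hw')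
  obtain ⟨g, hg1, hg2⟩ := R.non h1.symm n1 h2.symm n2
  have hww : w • w • c = c := by rw [← mul_smul, hw.2.1, one_smul]
  have hww' : w' • w' • c = c := by rw [← mul_smul, hw'.2.1, one_smul]
  have gc : g⁻¹ • c = c := by rw [inv_smul_eq_iff, hg1]
  have gc' : g⁻¹ • w' • c = w • c := by rw [inv_smul_eq_iff, hg2]
  have m1 : w' * (g * w * g⁻¹) ∈ S2 G a c := by
    rw [e2, mem_S2]
    simp only [mul_smul, gc, gc', hg1, hg2, hww, hww', and_self]
  have f1 : (g * w * g⁻¹) • a = a := by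
    have : w' • (g * w * g⁻¹) • a = a := by rw [← mul_smul]; exact m1.1
    have h3 : w' • a = a := R.K_fix hw'.1
    exact smul_left_cancel w' (by rw [this, h3])
  have hga : g • a = a := by
    by_contra hne
    obtain ⟨-, e3⟩ := key a (g • a) (Ne.symm hne) (fun x hx => ⟨hx.1, by
      have : g⁻¹ * x * g ∈ S2 G a c := by
        rw [e2] at hx
        rw [e1, mem_S2]
        have a1 : x • c = c := hx.1
        have a2 : x • w' • c = w' • c := hx.2
        simp only [mul_smul, hg1, hg2, a1, a2, gc, gc', and_self]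
      have := (mem_S2.1 this).1
      rw [mul_smul, mul_smul, inv_smul_eq_iff] at this
      exact this⟩)
    have : g * w * g⁻¹ ∈ S2 G a c := by
      rw [e3]
      exact mem_S2.2 ⟨f1, by simp [mul_smul, R.K_fix hw.1]⟩
    have := (mem_S2.1 this).2
    rw [mul_smul, mul_smul, gc, hg2] at this
    exact h2 this
  rw [← hg2, (fw w hw g ⟨hga, hg1⟩).2]

theorem om3 (R : RN G adj K k h t l) (hh : Odd h) (hk : 2 ∣ k) (a : X) :
    (fin (fun w => w ∈ Om (K a) ∧ w ≠ 1)).card = 3 ∧ h = 3 := by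
  classical
  obtain ⟨c, hc, hc'⟩ := R.exn a
  obtain ⟨d, hd, hd'⟩ := R.far hc.symm hc'
  have hda : a ≠ d := by rintro rfl; exact hc' (R.symm hd)
  have same : ∀ y, a ≠ y → ¬ adj a y → ∀ w ∈ Om (K a), ∀ w' ∈ Om (K a),
      (w • y = y ↔ w' • y = y) → w • y = w' • y := by
    intro y h1 h2 w hw w' hw' hi
    by_cases e : w • y = y
    · rw [e, hi.1 e]
    · exact R.claim1 hh hk h1 h2 hw hw' e (fun e' => e (hi.2 e'))
  have h4 : (fin (· ∈ Om (K a))).card ≤ (univ : Finset (Bool × Bool)).card := by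
    refine Finset.card_le_card_of_injOn (fun w => (decide (w • c = c), decide (w • d = d)))
      (fun _ _ => Finset.mem_univ _) ?_
    intro w hw w' hw' e
    simp only [Finset.mem_coe, mem_fin] at hw hw'
    simp only [Prod.mk.injEq, decide_eq_decide] at e
    have e1 := same c hc.symm hc' w hw w' hw' e.1
    have e2 := same d hda hd' w hw w' hw' e.2
    by_contra hne
    have hK : w'⁻¹ * w ∈ K a := (K a).mul_mem ((K a).inv_mem hw'.1) hw.1
    refine R.nadj_of_K hK (fun e => hne ?_) ?_ ?_ hd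
    · exact (inv_mul_eq_one.1 e).symm
    · rw [mul_smul, e1, inv_smul_smul]
    · rw [mul_smul, e2, inv_smul_smul]
  have h5 : fin (· ∈ Om (K a)) = insert 1 (fin (fun w => w ∈ Om (K a) ∧ w ≠ 1)) := by
    ext w
    simp only [mem_fin, Finset.mem_insert]
    by_cases e : w = 1
    · simp [e]
    · simp [e]
  rw [h5, Finset.card_insert_of_notMem (by simp)] at h4
  simp only [Finset.card_univ, Fintype.card_prod, Fintype.card_bool] at h4
  have h6 := (R.Os_card hk a).2
  have h7 := R.h_ge a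
  obtain ⟨j, hj⟩ := hh
  omega

/-- each non-neighbour is fixed by a unique central involution of the kernel -/
theorem ex_om (R : RN G adj K k h t l) (hh : Odd h) (hk : 2 ∣ k) {a c : X} (hac : a ≠ c)
    (hn : ¬ adj a c) : ∃ w ∈ Om (K a), w ≠ 1 ∧ w • c = c := by
  obtain ⟨w1, m1, w2, m2, n12⟩ := Finset.one_lt_card.1
    (show 1 < (fin (fun w => w ∈ Om (K a) ∧ w ≠ 1)).card by rw [(R.om3 hh hk a).1]; omega)
  rw [mem_fin] at m1 m2
  by_cases f1 : w1 • c = c
  · exact ⟨w1, m1.1, m1.2, f1⟩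
  by_cases f2 : w2 • c = c
  · exact ⟨w2, m2.1, m2.2, f2⟩
  refine ⟨w1⁻¹ * w2, (Om _).mul_mem ((Om _).inv_mem m1.1) m2.1, fun e => n12 (inv_mul_eq_one.1 e), ?_⟩
  rw [mul_smul, ← R.claim1 hh hk hac hn m1.1 m2.1 f1 f2, inv_smul_smul]

theorem uniq_om (R : RN G adj K k h t l) (hh : Odd h) (hk : 2 ∣ k) {a c : X} (hac : a ≠ c)
    (hn : ¬ adj a c) {w w' : G} (hw : w ∈ Om (K a)) (hw' : w' ∈ Om (K a)) (h1 : w ≠ 1)
    (h1' : w' ≠ 1) (hc : w • c = c) (hc' : w' • c = c) : w = w' := by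
  classical
  by_contra hne
  have hall : ∀ v ∈ Om (K a), v • c = c := by
    intro v hv
    by_cases hv1 : v = 1
    · rw [hv1, one_smul]
    have hww : w * w' ≠ 1 := fun e => hne (by
      rw [← mul_one w, ← hw'.2.1, ← mul_assoc, e, one_mul])
    have : ({w, w', w * w'} : Finset G) = fin (fun w => w ∈ Om (K a) ∧ w ≠ 1) := by
      apply Finset.eq_of_subset_of_card_le
      · intro x hx
        simp only [Finset.mem_insert, Finset.mem_singleton] at hx
        rcases hx with rfl | rfl | rfl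
        · exact mem_fin.2 ⟨hw, h1⟩
        · exact mem_fin.2 ⟨hw', h1'⟩
        · exact mem_fin.2 ⟨(Om _).mul_mem hw hw', hww⟩
      · rw [(R.om3 hh hk a).1, Finset.card_eq_three.2 ⟨w, w', w * w', hne, by simpa using h1',
          by simpa using h1, rfl⟩]
    have hv' : v ∈ ({w, w', w * w'} : Finset G) := by rw [this]; exact mem_fin.2 ⟨hv, hv1⟩
    simp only [Finset.mem_insert, Finset.mem_singleton] at hv'
    rcases hv' with rfl | rfl | rfl
    · exact hc
    · exact hc'
    · rw [mul_smul, hc', hc]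
  obtain ⟨d, hd, hd'⟩ := R.far hac hn
  have hda : a ≠ d := by rintro rfl; exact hn (R.symm hd)
  obtain ⟨g, hg1, hg2⟩ := R.non hac hn hda hd'
  have e0 := R.conj_Om hw g⁻¹
  rw [show g⁻¹ • a = a by rw [inv_smul_eq_iff, hg1], inv_inv] at e0
  have := hall _ e0
  rw [mul_smul, mul_smul, hg2, inv_smul_eq_iff, hg2] at this
  exact R.nadj_of_K hw.1 h1 hc this hd

/-- the kernel is transitive on the non-neighbours fixed by a central involution -/
theorem KT (R : RN G adj K k h t l) (hh : Odd h) (hk : 2 ∣ k) :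
    ∃ s, s * t = k ∧ l = 3 * s ∧ ∀ a : X, ∀ w ∈ Om (K a), w ≠ 1 →
      (fin (fun c => (c ≠ a ∧ ¬ adj a c) ∧ w • c = c)).card = s ∧
      ∀ c c', a ≠ c → ¬ adj a c → a ≠ c' → ¬ adj a c' → w • c = c → w • c' = c' →
        ∃ y ∈ K a, y • c = c' := by
  classical
  have hX : Nonempty X := Fintype.card_pos_iff.1 (by rw [R.card_X]; omega)
  obtain ⟨a0⟩ := hX
  have h3 := (R.om3 hh hk a0).2
  have horb : ∀ a c, a ≠ c → ¬ adj a c → (fin (fun c' => ∃ y ∈ K a, y • c = c')).card * t = k := by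
    intro a c hac hn
    have := orb (K a) (S2 G a c) (fun (g : G) (x : X) => g • x) (one_smul G)
      (fun g g' y => mul_smul g g' y) c (fun g => ⟨fun hg => ⟨R.T_le_K hh hac hn hg, hg.2⟩,
        fun hg => ⟨R.K_fix hg.1, hg.2⟩⟩) (fin (fun c' => ∃ y ∈ K a, y • c = c'))
        (fun z => mem_fin)
    rwa [R.card_T hac hn, R.card_K] at this
  obtain ⟨c0, hc0, hc0'⟩ := R.exn a0
  set s := (fin (fun c' => ∃ y ∈ K a0, y • c0 = c')).card with hs
  have hst : s * t = k := horb a0 c0 hc0.symm hc0'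
  have tpos := R.t_pos a0
  have hl : l = 3 * s := by
    have := R.lt
    rw [h3, ← hst] at this
    exact Nat.eq_of_mul_eq_mul_right tpos (by rw [this]; ring)
  refine ⟨s, hst, hl, fun a w hw hw1 => ?_⟩
  obtain ⟨b, hb⟩ := R.ex a
  -- the complement is transitive on the three involutions
  have htr : ∀ v ∈ Om (K a), v ≠ 1 → ∃ g ∈ S2 G a b, g * w * g⁻¹ = v := by
    have := orb (S2 G a b) ⊥ (fun g y => g * y * g⁻¹) cj_one cj_mul w (fun g => by
      rw [Subgroup.mem_bot]
      constructor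
      · rintro rfl; exact ⟨Subgroup.one_mem _, by simp⟩
      · rintro ⟨hg, e⟩
        by_contra hg1
        exact hw1 (R.fpf hb hg.1 hg.2 hg1 hw.1 (mul_inv_eq_iff_eq_mul.1 e)))
      (fin (fun v => ∃ g ∈ S2 G a b, g * w * g⁻¹ = v)) (fun z => mem_fin)
    rw [Subgroup.card_bot, mul_one, R.card_H hb, h3] at this
    have e : fin (fun v => ∃ g ∈ S2 G a b, g * w * g⁻¹ = v) =
        fin (fun w => w ∈ Om (K a) ∧ w ≠ 1) := by
      apply Finset.eq_of_subset_of_card_le
      · intro v hv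
        obtain ⟨g, hg, rfl⟩ := mem_fin.1 hv
        refine mem_fin.2 ⟨?_, by simpa using hw1⟩
        have := R.conj_Om hw g; rwa [show g • a = a from hg.1] at this
      · rw [this, (R.om3 hh hk a).1]
    intro v hv hv1
    have : v ∈ fin (fun v => ∃ g ∈ S2 G a b, g * w * g⁻¹ = v) := by
      rw [e]; exact mem_fin.2 ⟨hv, hv1⟩
    rwa [mem_fin] at this
  have hcard : (fin (fun c => (c ≠ a ∧ ¬ adj a c) ∧ w • c = c)).card = s := by
    have e1 : nn adj a = (fin (fun w => w ∈ Om (K a) ∧ w ≠ 1)).biUnion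
        (fun v => fin (fun c => (c ≠ a ∧ ¬ adj a c) ∧ v • c = c)) := by
      ext c
      simp only [mem_nn, Finset.mem_biUnion, mem_fin]
      constructor
      · intro hc
        obtain ⟨v, h1, h2, h3⟩ := R.ex_om hh hk hc.1.symm hc.2
        exact ⟨v, ⟨h1, h2⟩, hc, h3⟩
      · rintro ⟨v, -, hc, -⟩; exact hc
    have e2 := R.card_nn a
    rw [e1, Finset.card_biUnion (by
      intro v hv v' hv' hne
      rw [Function.onFun, Finset.disjoint_left]
      intro c h1 h2
      simp only [Finset.mem_coe, mem_fin] at hv hv' h1 h2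
      exact hne (R.uniq_om hh hk h1.1.1.symm h1.1.2 hv.1 hv'.1 hv.2 hv'.2 h1.2 h2.2)),
      Finset.sum_const_nat (m := (fin (fun c => (c ≠ a ∧ ¬ adj a c) ∧ w • c = c)).card) (by
        intro v hv
        rw [mem_fin] at hv
        obtain ⟨g, hg, rfl⟩ := htr v hv.1 hv.2
        have hga : g • a = a := hg.1
        symm
        refine Finset.card_bij (fun x _ => g • x) (fun x hx => ?_) (fun x _ y _ h => ?_)
          (fun y hy => ?_)
        · rw [mem_fin] at hx ⊢
          exact ⟨⟨fun e => hx.1.1 (smul_left_cancel g (by rw [e, hga])), R.nadj_of_fix hga hx.1.2⟩,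
            by simp [mul_smul, hx.2]⟩
        · exact smul_left_cancel g h
        · rw [mem_fin] at hy
          have hga' : g⁻¹ • a = a := by rw [inv_smul_eq_iff, hga]
          refine ⟨g⁻¹ • y, mem_fin.2 ⟨⟨fun e => hy.1.1 (smul_left_cancel g⁻¹ (by rw [e, hga'])),
            R.nadj_of_fix hga' hy.1.2⟩, ?_⟩, by simp⟩
          have := hy.2
          rw [mul_smul, mul_smul] at this
          rw [eq_inv_smul_iff]; exact this), (R.om3 hh hk a).1] at e2
    omega
  refine ⟨hcard, fun c c' h1 h2 h1' h2' f f' => ?_⟩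
  have e : fin (fun c' => ∃ y ∈ K a, y • c = c') =
      fin (fun c => (c ≠ a ∧ ¬ adj a c) ∧ w • c = c) := by
    apply Finset.eq_of_subset_of_card_le
    · intro z hz
      obtain ⟨y, hy, rfl⟩ := mem_fin.1 hz
      have hya := R.K_fix hy
      refine mem_fin.2 ⟨⟨fun e => h1 (smul_left_cancel y (by rw [e, hya])),
        R.nadj_of_fix hya h2⟩, ?_⟩
      rw [← mul_smul, hw.2.2 y hy, mul_smul, f]
    · rw [hcard]
      have := horb a c h1 h2
      rw [← hst] at this
      exact (Nat.eq_of_mul_eq_mul_right tpos this).ge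
  have : c' ∈ fin (fun c' => ∃ y ∈ K a, y • c = c') := by
    rw [e]; exact mem_fin.2 ⟨⟨h1'.symm, h2'⟩, f'⟩
  rwa [mem_fin] at this

theorem claim3 (R : RN G adj K k h t l) (hh : Odd h) (hk : 2 ∣ k) {a c : X} (hac : a ≠ c)
    (hn : ¬ adj a c) {w : G} (hw : w ∈ Om (K a)) (h1 : w ≠ 1) (hc : w • c = c) :
    w ∈ Om (K c) := by
  obtain ⟨s, -, -, hT⟩ := R.KT hh hk
  have hn' : ¬ adj c a := fun e => hn (R.symm e)
  obtain ⟨w', hw', h1', ha⟩ := R.ex_om hh hk hac.symm hn'
  obtain ⟨w1, m1, w2, m2, n12⟩ := Finset.one_lt_card.1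
    (show 1 < (fin (fun w => w ∈ Om (K a) ∧ w ≠ 1)).card by rw [(R.om3 hh hk a).1]; omega)
  rw [mem_fin] at m1 m2
  obtain ⟨v, hv, hvc⟩ : ∃ v ∈ Om (K a), v • c ≠ c := by
    by_cases f1 : w1 • c = c
    · refine ⟨w2, m2.1, fun f2 => n12 (R.uniq_om hh hk hac hn m1.1 m2.1 m1.2 m2.2 f1 f2)⟩
    · exact ⟨w1, m1.1, f1⟩
  have hw'a : w' ∈ K a := R.K_swap hw'.1 ha
  have hw'c : w' • c = c := R.K_fix hw'.1
  have f2 : w' • v • c = v • c := by rw [← mul_smul, ← hv.2.2 w' hw'a, mul_smul, hw'c]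
  obtain ⟨y, hy, hy'⟩ := (hT c w' hw' h1').2 (v • c) a hvc.symm
    (R.nadj_of_K hw'.1 h1' hw'c f2) hac.symm hn' f2 ha
  have := R.conj_Om hw' (y * v)
  rw [mul_smul, hy'] at this
  have e2 : y * v * w' * (y * v)⁻¹ = w' := by
    rw [mul_assoc y, hv.2.2 w' hw'a, ← mul_assoc, ← hw'.2.2 y hy]; group
  rw [e2] at this
  rw [R.uniq_om hh hk hac hn hw this h1 h1' hc hw'c]
  exact hw'

theorem claim4 (R : RN G adj K k h t l) (hh : Odd h) (hk : 2 ∣ k) {a c c' : X} (hac : a ≠ c)
    (hn : ¬ adj a c) (hac' : a ≠ c') (hn' : ¬ adj a c') {w : G} (hw : w ∈ Om (K a)) (h1 : w ≠ 1)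
    (hc : w • c = c) (hc' : w • c' ≠ c') : adj c c' := by
  by_contra hna
  have hcc : c ≠ c' := by rintro rfl; exact hc' hc
  obtain ⟨w', hw', h1', f'⟩ := R.ex_om hh hk hac' hn'
  obtain ⟨w'', hw'', h1'', f''⟩ := R.ex_om hh hk hcc hna
  have a1 := R.claim3 hh hk hac hn hw h1 hc
  have a2 := R.claim3 hh hk hac' hn' hw' h1' f'
  have a3 := R.claim3 hh hk hcc hna hw'' h1'' f''
  have g1 : w' • w • c' = w • c' := by rw [← mul_smul, hw'.2.2 w hw.1, mul_smul, f']
  have g2 : w'' • w • c' = w • c' := by rw [← mul_smul, hw''.2.2 w a1.1, mul_smul, f'']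
  have e := R.uniq_om hh hk hc'.symm (R.nadj_of_K hw'.1 h1' f' g1) a2 a3 h1' h1'' g1 g2
  have g3 : w' • c = c := by rw [e]; exact R.K_fix hw''.1
  rw [R.uniq_om hh hk hac hn hw hw' h1 h1' hc g3] at hc'
  exact hc' f'

theorem odd_false (R : RN G adj K k h t l) (hG : Even (Nat.card G)) (hh : Odd h) : False := by
  classical
  have hk := R.k_even hG hh
  obtain ⟨s, hst, hl, hT⟩ := R.KT hh hk
  have hX : Nonempty X := Fintype.card_pos_iff.1 (by rw [R.card_X]; omega)
  obtain ⟨a⟩ := hX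
  obtain ⟨c, hc, hc'⟩ := R.exn a
  obtain ⟨w, hw, h1, f⟩ := R.ex_om hh hk hc.symm hc'
  obtain ⟨d, hd, hd'⟩ := R.far hc.symm hc'
  have hda : a ≠ d := by rintro rfl; exact hc' (R.symm hd)
  obtain ⟨w', hw', h1', f'⟩ := R.ex_om hh hk hda hd'
  have hspos : 0 < s := by have := R.l_pos a; omega
  -- `t ≤ s`
  have hts : t ≤ s := by
    have := semi (S2 G a c) (fun (g : G) (x : X) => g • x) (one_smul G)
      (fun g g' y => mul_smul g g' y) (fin (fun c => (c ≠ a ∧ ¬ adj a c) ∧ w' • c = c)) (by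
        intro g hg y hy
        rw [mem_fin] at hy ⊢
        have hga : g • a = a := hg.1
        refine ⟨⟨fun e => hy.1.1 (smul_left_cancel g (by rw [e, hga])), R.nadj_of_fix hga hy.1.2⟩, ?_⟩
        rw [← mul_smul, hw'.2.2 g (R.T_le_K hh hc.symm hc' hg), mul_smul, hy.2]) (by
        intro g hg y hy e
        rw [mem_fin] at hy
        have hwy : w • y ≠ y := by
          intro e'
          have := R.uniq_om hh hk hy.1.1.symm hy.1.2 hw hw' h1 h1' e' hy.2
          rw [← this] at f'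
          exact R.nadj_of_K hw.1 h1 f f' hd
        exact R.K_free (R.K_swap (R.T_le_K hh hc.symm hc' hg) hg.2)
          (R.claim4 hh hk hc.symm hc' hy.1.1.symm hy.1.2 hw h1 f hwy) e)
    rw [R.card_T hc.symm hc', (hT a w' hw' h1').1] at this
    exact Nat.le_of_dvd hspos this
  set O := fin (fun c => (c ≠ a ∧ ¬ adj a c) ∧ w • c = c) with hO
  have hOc : O.card = s := (hT a w hw h1).1
  have hcount := Finset.card_mul_le_card_mul (s := O) (t := nb adj a) (m := 2 * s) (n := 1)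
    (fun c b => ¬ adj c b) (by
      intro c1 hc1
      rw [hO, mem_fin] at hc1
      have hsub : nn adj c1 ⊆ insert a ((O.erase c1) ∪
          (nb adj a).bipartiteAbove (fun c b => ¬ adj c b) c1) := by
        intro y hy
        rw [mem_nn] at hy
        simp only [Finset.mem_insert, Finset.mem_union, Finset.mem_erase,
          Finset.mem_bipartiteAbove, mem_nb, hO, mem_fin]
        by_cases e1 : y = a
        · exact Or.inl e1
        by_cases e2 : adj a y
        · exact Or.inr (Or.inr ⟨e2, hy.2⟩)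
        refine Or.inr (Or.inl ⟨hy.1, ⟨e1, e2⟩, ?_⟩)
        by_contra e3
        exact hy.2 (R.claim4 hh hk hc1.1.1.symm hc1.1.2 (Ne.symm e1) e2 hw h1 hc1.2 e3)
      have e1 := Finset.card_le_card hsub
      have e2 := Finset.card_insert_le a ((O.erase c1) ∪
          (nb adj a).bipartiteAbove (fun c b => ¬ adj c b) c1)
      have e3 := Finset.card_union_le (O.erase c1)
          ((nb adj a).bipartiteAbove (fun c b => ¬ adj c b) c1)
      have e4 := Finset.card_erase_of_mem (s := O) (a := c1) (mem_fin.2 hc1)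
      rw [R.card_nn] at e1
      omega) (by
      intro b hb
      rw [mem_nb] at hb
      rw [Finset.card_le_one]
      intro c1 hc1 c2 hc2
      simp only [Finset.mem_bipartiteBelow, hO, mem_fin] at hc1 hc2
      by_contra hne
      have a1 := R.claim3 hh hk hc1.1.1.1.symm hc1.1.1.2 hw h1 hc1.1.2
      have hb1 : c1 ≠ b := by rintro rfl; exact hc1.1.1.2 hb
      exact hc2.2 (R.claim4 hh hk hne (R.nadj_of_K hw.1 h1 hc1.1.2 hc2.1.2) hb1 hc1.2 a1 h1
        hc2.1.2 (fun e => h1 (R.K_free hw.1 hb e))))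
  rw [hOc, R.card_nb, ← hst] at hcount
  nlinarith

end RN

end Cfsg.Agent.H76.Rk
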