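/-
Rank 3 Frobenius problem: complement of even order, the involutions.
-/
import Cfsg.Agent.H76.RkD
import Cfsg.Agent.H81.FrobKit

set_option autoImplicit false

namespace Cfsg.Agent.H76.Rk

open Finset MulAction

variable {G X : Type*} [Group G]

/-- involution -/
def Iv (s : G) : Prop := s * s = 1 ∧ s ≠ 1

theorem Iv.inv {s : G} (h : Iv s) : s⁻¹ = s := inv_eq_of_mul_eq_one_right h.1

theorem Iv.conj {s : G} (h : Iv s) (g : G) : Iv (g * s * g⁻¹) :=
  ⟨by calc _ = g * (s * s) * g⁻¹ := by group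
        _ = 1 := by rw [h.1]; group, by simpa using h.2⟩

theorem exists_Iv [Finite G] (P : Subgroup G) (h : 2 ∣ Nat.card P) : ∃ s ∈ P, Iv s := by
  haveI : Fact (Nat.Prime 2) := ⟨Nat.prime_two⟩
  obtain ⟨x, hx⟩ := exists_prime_orderOf_dvd_card' (G := P) 2 h
  refine ⟨x, x.2, ?_, fun e => ?_⟩
  · have := pow_orderOf_eq_one x
    rw [hx, sq] at this
    exact congrArg Subtype.val this
  · have : x = 1 := Subtype.ext e
    rw [this, orderOf_one] at hx
    omega

theorem eq_one_of_odd {x : G} {m : ℕ} (hm : Odd m) (h1 : x ^ m = 1) (h2 : x * x = 1) : x = 1 := by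
  obtain ⟨j, rfl⟩ := hm
  rwa [pow_succ, pow_mul, sq, h2, one_pow, one_mul] at h1

variable [MulAction G X] {adj : X → X → Prop}

theorem Iv.smul_smul {s : G} (h : Iv s) (x : X) : s • s • x = x := by
  rw [← mul_smul, h.1, one_smul]

variable (X) in
/-- involution with a fixed point -/
def IC (s : G) : Prop := Iv s ∧ ∃ y : X, s • y = y

theorem IC.conj {s : G} (h : IC X s) (g : G) : IC X (g * s * g⁻¹) := by
  obtain ⟨h1, y, hy⟩ := h
  exact ⟨h1.conj g, g • y, by simp [mul_smul, hy]⟩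

/-- the involutions with fixed points mapping `a` to `y` -/
noncomputable def sw (G : Type*) [Group G] [MulAction G X] [Finite G] (a y : X) : Finset G :=
  fin (fun s => IC X s ∧ s • a = y)

theorem mem_sw [Finite G] {a y : X} {s : G} : s ∈ sw G a y ↔ IC X s ∧ s • a = y := mem_fin

theorem sw_smul [Finite G] (g : G) (a y : X) : (sw G (g • a) (g • y)).card = (sw G a y).card := by
  symm
  refine Finset.card_bij (fun x _ => g * x * g⁻¹) (fun x hx => ?_) (fun x _ y _ h => ?_)
    (fun z hz => ?_)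
  · rw [mem_sw] at hx ⊢
    exact ⟨hx.1.conj g, by simp [mul_smul, hx.2]⟩
  · simpa using h
  · rw [mem_sw] at hz
    refine ⟨g⁻¹ * z * g⁻¹⁻¹, mem_sw.2 ⟨hz.1.conj _, by simp [mul_smul, hz.2]⟩, by group⟩

theorem sw_le [Finite G] (a y : X) : (sw G a y).card ≤ Nat.card (S2 G a y) :=
  swap_card _ (fun g hg => by
    rw [mem_sw] at hg
    exact ⟨hg.2, by rw [← hg.2, hg.1.1.smul_smul]⟩)

theorem fx_conj [Fintype X] (g s : G) :
    (fx (X := X) (g * s * g⁻¹)).card = (fx (X := X) s).card := by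
  symm
  refine Finset.card_bij (fun x _ => g • x) (fun x hx => ?_) (fun x _ y _ h => ?_)
    (fun z hz => ?_)
  · rw [mem_fx] at hx ⊢; simp [mul_smul, hx]
  · exact smul_left_cancel g h
  · rw [mem_fx, mul_smul, mul_smul] at hz
    exact ⟨g⁻¹ • z, by rw [mem_fx, eq_inv_smul_iff]; exact hz, by simp⟩

namespace RN

variable [Finite G] [Fintype X] {K : X → Subgroup G} {k h t l : ℕ}

theorem k_odd (R : RN G adj K k h t l) (hh : Even h) (a : X) : Odd k := by
  obtain ⟨w, -, hw⟩ := R.h_dvd a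
  rw [hw]; exact odd_one.add_even (hh.mul_left w)

theorem ex_inv (R : RN G adj K k h t l) (hh : Even h) {a b : X} (hab : adj a b) :
    ∃ s : G, Iv s ∧ s • a = a ∧ s • b = b := by
  obtain ⟨s, hs, h1⟩ := exists_Iv (S2 G a b) (by rw [R.card_H hab]; exact hh.two_dvd)
  exact ⟨s, h1, hs.1, hs.2⟩

theorem K_sq (R : RN G adj K k h t l) (hh : Even h) {a : X} {y : G} (hy : y ∈ K a)
    (h2 : y * y = 1) : y = 1 := eq_one_of_odd (R.k_odd hh a) (R.pow_k hy) h2

theorem partner (R : RN G adj K k h t l) (hh : Even h) {a : X} {s : G} (hs : Iv s)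
    (ha : s • a = a) : ∃ b, adj a b ∧ s • b = b :=
  R.fix_nb ha (fun e => hs.2 (R.K_sq hh e hs.1))

theorem inverts (R : RN G adj K k h t l) (hh : Even h) {a : X} {s y : G} (hs : Iv s)
    (ha : s • a = a) (hy : y ∈ K a) : s * y * s⁻¹ = y⁻¹ := by
  obtain ⟨b, hb, hsb⟩ := R.partner hh hs ha
  exact H81.conj_eq_inv_of_fpf (N := K a)
    (Subgroup.mem_normalizer_fintype (fun n hn => R.conj_K' hn ha)) hs.1
    (fun z hz e => R.fpf hb ha hsb hs.2 hz e) hy

theorem K_comm (R : RN G adj K k h t l) (hh : Even h) {a : X} {y z : G} (hy : y ∈ K a)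
    (hz : z ∈ K a) : y * z = z * y := by
  obtain ⟨b, hb⟩ := R.ex a
  obtain ⟨s, hs, ha, -⟩ := R.ex_inv hh hb
  have e1 := R.inverts hh hs ha hy
  have e2 := R.inverts hh hs ha hz
  have e3 := R.inverts hh hs ha ((K a).mul_mem hy hz)
  have : (y * z)⁻¹ = (z * y)⁻¹ := by rw [← e3, mul_inv_rev, ← e1, ← e2]; group
  exact inv_injective this

omit [Finite G] in
theorem ex_K (R : RN G adj K k h t l) (a : X) : ∃ y ∈ K a, y ≠ 1 := by
  obtain ⟨b, hb⟩ := R.ex a
  obtain ⟨b', hb', hne⟩ := R.two_nb hb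
  obtain ⟨y, hy, e⟩ := R.K_trans hb hb'
  exact ⟨y, hy, by rintro rfl; exact hne (by rw [← e, one_smul])⟩

theorem inv_mul (R : RN G adj K k h t l) (hh : Even h) {a : X} {s s' : G} (hs : Iv s)
    (hs' : Iv s') (ha : s • a = a) (ha' : s' • a = a) : s * s' ∈ K a := by
  obtain ⟨y, hy, hy1⟩ := R.ex_K a
  refine R.cen_K hy hy1 (by rw [mul_smul, ha', ha]) ?_
  have e1 := R.inverts hh hs' ha' hy
  have e2 := R.inverts hh hs ha ((K a).inv_mem hy)
  calc s * s' * y = s * (s' * y * s'⁻¹) * s⁻¹ * (s * s') := by group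
    _ = y * (s * s') := by rw [e1, e2, inv_inv]

theorem inv_edge (R : RN G adj K k h t l) (hh : Even h) {a b : X} (hab : adj a b) {s s' : G}
    (hs : Iv s) (hs' : Iv s') (ha : s • a = a) (ha' : s' • a = a) (hb : s • b = b)
    (hb' : s' • b = b) : s = s' := by
  have := R.K_free (R.inv_mul hh hs hs' ha ha') hab (by rw [mul_smul, hb', hb])
  rw [← hs.inv]; exact inv_eq_of_mul_eq_one_right this

theorem inv_comm (R : RN G adj K k h t l) (hh : Even h) {a : X} {s s' : G} (hs : Iv s)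
    (hs' : Iv s') (ha : s • a = a) (ha' : s' • a = a) (hc : s * s' = s' * s) : s = s' := by
  have := R.K_sq hh (R.inv_mul hh hs hs' ha ha') (by
    calc s * s' * (s * s') = s * (s' * s) * s' := by group
      _ = (s * s) * (s' * s') := by rw [← hc]; group
      _ = 1 := by rw [hs.1, hs'.1, one_mul])
  rw [← hs.inv]; exact inv_eq_of_mul_eq_one_right this

theorem cen_edge (R : RN G adj K k h t l) (hh : Even h) {a b : X} (hab : adj a b) {s x : G}
    (hs : Iv s) (ha : s • a = a) (hb : s • b = b) (xa : x • a = a) (xb : x • b = b) :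
    x * s = s * x := by
  have xa' : x⁻¹ • a = a := by rw [inv_smul_eq_iff, xa]
  have xb' : x⁻¹ • b = b := by rw [inv_smul_eq_iff, xb]
  have := R.inv_edge hh hab (hs.conj x) hs (by simp [mul_smul, xa', ha, xa]) ha
    (by simp [mul_smul, xb', hb, xb]) hb
  exact mul_inv_eq_iff_eq_mul.1 this

omit [Finite G] in
theorem fix_of_comm (R : RN G adj K k h t l) {a b : X} (hab : adj a b) {s x : G}
    (hs : s ≠ 1) (ha : s • a = a) (hb : s • b = b) (xa : x • a = a) (hc : x * s = s * x) :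
    x • b = b :=
  R.nb_unique hs ha (R.adj_of_fix xa hab) hab (by rw [← mul_smul, ← hc, mul_smul, hb]) hb

theorem card_sw_self (R : RN G adj K k h t l) (hh : Even h) (a : X) : (sw G a a).card = k := by
  rw [← R.card_nb a]
  symm
  have : ∀ b ∈ nb adj a, ∃ s : G, Iv s ∧ s • a = a ∧ s • b = b :=
    fun b hb => R.ex_inv hh (mem_nb.1 hb)
  choose f hf using this
  refine Finset.card_bij f (fun b hb => mem_sw.2 ⟨⟨(hf b hb).1, a, (hf b hb).2.1⟩, (hf b hb).2.1⟩)
    (fun b hb b' hb' e => ?_) (fun s hs => ?_)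
  · exact R.nb_unique (hf b hb).1.2 (hf b hb).2.1 (mem_nb.1 hb) (mem_nb.1 hb') (hf b hb).2.2
      (by rw [e]; exact (hf b' hb').2.2)
  · rw [mem_sw] at hs
    obtain ⟨b, hb, hsb⟩ := R.partner hh hs.1.1 hs.2
    exact ⟨b, mem_nb.2 hb, R.inv_edge hh hb (hf b _).1 hs.1.1 (hf b _).2.1 hs.2 (hf b _).2.2 hsb⟩

theorem IC_conj (R : RN G adj K k h t l) (hh : Even h) {s s' : G} (hs : IC X s) (hs' : IC X s') :
    ∃ g : G, g * s * g⁻¹ = s' := by
  obtain ⟨h1, a, ha⟩ := hs
  obtain ⟨h1', a', ha'⟩ := hs'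
  obtain ⟨b, hb, hsb⟩ := R.partner hh h1 ha
  obtain ⟨b', hb', hsb'⟩ := R.partner hh h1' ha'
  obtain ⟨g, rfl, rfl⟩ := R.arc hb hb'
  exact ⟨g, R.inv_edge hh hb' (h1.conj g) h1' (by simp [mul_smul, ha]) ha'
    (by simp [mul_smul, hsb]) hsb'⟩

theorem fx_even (R : RN G adj K k h t l) (hh : Even h) {s : G} (hs : Iv s) :
    Even (fx (X := X) s).card := by
  have : ∀ y ∈ fx (X := X) s, ∃ b, adj y b ∧ s • b = b := fun y hy => R.partner hh hs (mem_fx.1 hy)
  choose! f hf1 hf2 using this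
  refine even_of_inv _ f (fun y hy => mem_fx.2 (hf2 y hy)) (fun y hy => ?_)
    (fun y hy => (R.ne (hf1 y hy)).symm)
  have h1 := mem_fx.2 (hf2 y hy)
  exact R.nb_unique hs.2 (hf2 y hy) (hf1 _ h1) (R.symm (hf1 y hy)) (hf2 _ h1) (mem_fx.1 hy)

/-- the basic count of the involutions with fixed points -/
theorem count_IC (R : RN G adj K k h t l) (hh : Even h) {a b c : X} (hab : adj a b) (hac : a ≠ c)
    (hn : ¬ adj a c) {s : G} (hs : IC X s) :
    (k + k * (sw G a b).card + l * (sw G a c).card) * (fx (X := X) s).card =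
      Fintype.card X * k := by
  classical
  have h1 := Finset.card_mul_eq_card_mul (s := fin (fun s : G => IC X s)) (t := (univ : Finset X))
    (m := (fx (X := X) s).card) (n := k) (fun s y => s • y = y) (by
      intro s' hs'
      obtain ⟨g, rfl⟩ := R.IC_conj hh hs (mem_fin.1 hs')
      rw [← fx_conj g s]
      exact congrArg Finset.card (by ext y; simp [Finset.mem_bipartiteAbove])) (by
      intro y _
      rw [← R.card_sw_self hh y]
      congr 1; ext s; simp [Finset.mem_bipartiteBelow, mem_sw])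
  rw [Finset.card_univ] at h1
  rw [← h1]
  congr 1
  have h2 := R.count_eq a ((fin (fun s : G => IC X s)).filter (fun s => s • a ≠ a))
    (fun g hg => (Finset.mem_filter.1 hg).2)
  have h3 := Finset.card_filter_add_card_filter_not (s := fin (fun s : G => IC X s))
    (fun s => s • a = a)
  have h4 : (fin (fun s : G => IC X s)).filter (fun s => s • a = a) = sw G a a := by
    ext s; simp [mem_sw]
  have h5 : ∀ y, y ≠ a → ((fin (fun s : G => IC X s)).filter (fun s => s • a ≠ a)).filter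
      (fun g => g • a = y) = sw G a y := by
    intro y hy; ext s
    simp only [Finset.mem_filter, mem_fin, mem_sw]
    exact ⟨fun h => ⟨h.1.1, h.2⟩, fun h => ⟨⟨h.1, by rw [h.2]; exact hy⟩, h.2⟩⟩
  rw [Finset.sum_const_nat (m := (sw G a b).card) (by
      intro y hy
      rw [mem_nb] at hy
      rw [h5 y (R.ne hy).symm]
      obtain ⟨g, e1, e2⟩ := R.arc hab hy
      rw [← sw_smul g a b, e1, e2]),
    Finset.sum_const_nat (m := (sw G a c).card) (by
      intro y hy
      rw [mem_nn] at hy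
      rw [h5 y hy.1]
      obtain ⟨g, e1, e2⟩ := R.non hac hn hy.1.symm hy.2
      rw [← sw_smul g a c, e1, e2]), R.card_nb, R.card_nn] at h2
  rw [h4, R.card_sw_self hh] at h3
  simp only [ne_eq] at h2
  omega

/-- the numbers of common neighbours -/
theorem exists_lam_mu (R : RN G adj K k h t l) :
    ∃ lam mu : ℕ, (∀ a b, adj a b → (fin (fun x => adj a x ∧ adj b x)).card = lam) ∧
      (∀ a c, a ≠ c → ¬ adj a c → (fin (fun x => adj a x ∧ adj c x)).card = mu) ∧
      l * mu + k * lam + k = k * k ∧ 0 < mu ∧ mu < k ∧ h ∣ lam ∧ t ∣ mu ∧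
      (Even (Fintype.card X) → IsSquare (((lam : ℤ) - mu) ^ 2 + 4 * (k - mu))) := by
  classical
  have hX : Nonempty X := Fintype.card_pos_iff.1 (by rw [R.card_X]; omega)
  obtain ⟨a0⟩ := hX
  obtain ⟨b0, hb0⟩ := R.ex a0
  obtain ⟨c0, hc0, hc0'⟩ := R.exn a0
  have tr : ∀ (g : G) (a b : X), (fin (fun x => adj (g • a) x ∧ adj (g • b) x)).card =
      (fin (fun x => adj a x ∧ adj b x)).card := by
    intro g a b
    symm
    refine Finset.card_bij (fun x _ => g • x) (fun x hx => ?_) (fun x _ y _ h => ?_)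
      (fun z hz => ?_)
    · rw [mem_fin] at hx ⊢; exact ⟨R.inv g hx.1, R.inv g hx.2⟩
    · exact smul_left_cancel g h
    · rw [mem_fin] at hz
      refine ⟨g⁻¹ • z, mem_fin.2 ⟨?_, ?_⟩, by simp⟩
      · rw [← R.inv_iff g]; simpa using hz.1
      · rw [← R.inv_iff g]; simpa using hz.2
  set lam := (fin (fun x => adj a0 x ∧ adj b0 x)).card with hlam
  set mu := (fin (fun x => adj a0 x ∧ adj c0 x)).card with hmu
  have h1 : ∀ a b, adj a b → (fin (fun x => adj a x ∧ adj b x)).card = lam := by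
    intro a b hab
    obtain ⟨g, rfl, rfl⟩ := R.arc hb0 hab
    exact tr g _ _
  have h2 : ∀ a c, a ≠ c → ¬ adj a c → (fin (fun x => adj a x ∧ adj c x)).card = mu := by
    intro a c hac hn
    obtain ⟨g, rfl, rfl⟩ := R.non hc0.symm hc0' hac hn
    exact tr g _ _
  have split : ∀ b, adj a0 b → ((nn adj a0).bipartiteAbove adj b).card + lam + 1 = k := by
    intro b hb
    rw [← R.card_nb b, ← h1 a0 b hb]
    have : nb adj b = insert a0 ((nn adj a0).bipartiteAbove adj b ∪
        fin (fun x => adj a0 x ∧ adj b x)) := by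
      ext y
      simp only [mem_nb, Finset.mem_insert, Finset.mem_union, Finset.mem_bipartiteAbove, mem_nn,
        mem_fin]
      constructor
      · intro hy
        by_cases e1 : y = a0
        · exact Or.inl e1
        by_cases e2 : adj a0 y
        · exact Or.inr (Or.inr ⟨e2, hy⟩)
        · exact Or.inr (Or.inl ⟨⟨e1, e2⟩, hy⟩)
      · rintro (rfl | h | h)
        · exact R.symm hb
        · exact h.2
        · exact h.2
    rw [this, Finset.card_insert_of_notMem (by simp [Finset.mem_bipartiteAbove, R.irr]),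
      Finset.card_union_of_disjoint (by
        rw [Finset.disjoint_left]; intro y h1 h2
        simp only [Finset.mem_bipartiteAbove, mem_nn, mem_fin] at h1 h2
        exact h1.1.2 h2.1)]
  have hlk : lam + 1 ≤ k := by have := split b0 hb0; omega
  have h3 := Finset.card_mul_eq_card_mul (s := nb adj a0) (t := nn adj a0) (m := k - lam - 1)
    (n := mu) adj (fun b hb => by have := split b (mem_nb.1 hb); omega) (by
      intro c hc
      rw [mem_nn] at hc
      rw [← h2 a0 c hc.1.symm hc.2]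
      congr 1; ext y
      simp only [Finset.mem_bipartiteBelow, mem_nb, mem_fin]
      exact ⟨fun h => ⟨h.1, R.symm h.2⟩, fun h => ⟨h.1, R.symm h.2⟩⟩)
  rw [R.card_nb, R.card_nn] at h3
  have hmk : mu < k := by
    obtain ⟨d, hd, hd'⟩ := R.far hc0.symm hc0'
    rw [← R.card_nb c0]
    refine Finset.card_lt_card ⟨fun y hy => mem_nb.2 (mem_fin.1 hy).2, fun hs => ?_⟩
    exact hd' (mem_fin.1 (hs (mem_nb.2 hd))).1
  refine ⟨lam, mu, h1, h2, ?_, ?_, hmk, ?_, ?_, fun hev => ?_⟩
  · obtain ⟨j, hj⟩ : ∃ j, k = j + lam + 1 := ⟨k - lam - 1, by omega⟩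
    have : k - lam - 1 = j := by omega
    rw [← h3, this]
    nth_rewrite 5 [hj]
    ring
  · obtain ⟨d, hd⟩ := R.mid hc0.symm hc0'
    exact Finset.card_pos.2 ⟨d, mem_fin.2 hd⟩
  · rw [← R.card_H hb0]
    refine semi (S2 G a0 b0) (fun (g : G) (x : X) => g • x) (one_smul G)
      (fun g g' y => mul_smul g g' y) _ (fun g hg y hy => ?_) (fun g hg y hy e => ?_)
    · rw [mem_fin] at hy ⊢; exact ⟨R.adj_of_fix hg.1 hy.1, R.adj_of_fix hg.2 hy.2⟩
    · rw [mem_fin] at hy; exact R.frob g hb0 hy.1 (R.ne hy.2) hg.1 hg.2 e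
  · rw [← R.card_T hc0.symm hc0']
    refine semi (S2 G a0 c0) (fun (g : G) (x : X) => g • x) (one_smul G)
      (fun g g' y => mul_smul g g' y) _ (fun g hg y hy => ?_) (fun g hg y hy e => ?_)
    · rw [mem_fin] at hy ⊢; exact ⟨R.adj_of_fix hg.1 hy.1, R.adj_of_fix hg.2 hy.2⟩
    · rw [mem_fin] at hy; exact R.frob g (R.symm hy.1) (R.symm hy.2) hc0.symm e hg.1 hg.2
  · refine disc_square adj (fun _ _ => R.symm) (fun _ => R.irr) k lam mu (fun a => ?_)
      (fun a b hab => ?_) (fun a b hab hn => ?_) hev ⟨a0⟩ hmk (by omega)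
    · rw [← R.card_nb a]; exact congrArg Finset.card (by ext; simp)
    · rw [← h1 a b hab]; congr 1; ext; simp
    · rw [← h2 a b hab hn]; congr 1; ext; simp

end RN

end Cfsg.Agent.H76.Rk
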