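/-
Rank 3 Frobenius problem: complement of even order, kernel not semiregular.
-/
import Cfsg.Agent.H76.RkE

set_option autoImplicit false

namespace Cfsg.Agent.H76.Rk

open Finset MulAction

variable {G X : Type*} [Group G] [MulAction G X] {adj : X → X → Prop}

theorem mem_of_sq_mem {P : Subgroup G} {x : G} {m : ℕ} (hm : Odd m) (h1 : x ^ m = 1)
    (h2 : x * x ∈ P) : x ∈ P := by
  obtain ⟨j, rfl⟩ := hm
  have : x = ((x * x) ^ j)⁻¹ := by
    rw [eq_inv_iff_mul_eq_one, ← sq, ← pow_mul, ← pow_succ', h1]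
  rw [this]; exact P.inv_mem (P.pow_mem h2 _)

theorem card_le_of_inj [Finite G] (P Q : Subgroup G) (S : Finset G) (f : G → G → G)
    (hf : ∀ x ∈ P, ∀ y ∈ Q, f x y ∈ S)
    (hi : ∀ x ∈ P, ∀ y ∈ Q, ∀ x' ∈ P, ∀ y' ∈ Q, f x y = f x' y' → x = x' ∧ y = y') :
    Nat.card P * Nat.card Q ≤ S.card := by
  classical
  rw [← card_fin_sub, ← card_fin_sub, ← Finset.card_product]
  refine Finset.card_le_card_of_injOn (fun z => f z.1 z.2) (fun z hz => ?_) (fun z hz z' hz' e => ?_)
  · simp only [Finset.coe_product, Set.mem_prod, Finset.mem_coe, mem_fin] at hz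
    exact hf _ hz.1 _ hz.2
  · simp only [Finset.coe_product, Set.mem_prod, Finset.mem_coe, mem_fin] at hz hz'
    obtain ⟨h1, h2⟩ := hi _ hz.1 _ hz.2 _ hz'.1 _ hz'.2 e
    exact Prod.ext h1 h2

namespace RN

variable [Finite G] [Fintype X] {K : X → Subgroup G} {k h t l : ℕ}

theorem card_U (R : RN G adj K k h t l) {a c y y' : X} (hac : a ≠ c) (hn : ¬ adj a c)
    (hy : y ≠ y') (hn' : ¬ adj y y') :
    Nat.card ↥(K y ⊓ stabilizer G y') = Nat.card ↥(K a ⊓ stabilizer G c) := by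
  obtain ⟨g, rfl, rfl⟩ := R.non hac hn hy hn'
  refine Nat.card_congr ⟨fun x => ⟨g⁻¹ * x * g, ?_⟩, fun x => ⟨g * x * g⁻¹, ?_⟩, ?_, ?_⟩
  · have h2 : (x : G) • g • c = g • c := x.2.2
    refine ⟨by simpa using R.conj_K x.2.1 g⁻¹, ?_⟩
    show _ • c = c
    simp [mul_smul, h2]
  · have h2 : (x : G) • c = c := x.2.2
    refine ⟨R.conj_K x.2.1 g, ?_⟩
    show _ • g • c = g • c
    simp [mul_smul, h2]
  · intro x; apply Subtype.ext; simp [mul_assoc]
  · intro x; apply Subtype.ext; simp [mul_assoc]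

omit [Finite G] in
theorem U_ne (R : RN G adj K k h t l) [Finite G] {a c : X} (hac : a ≠ c) (hn : ¬ adj a c) :
    ∃ y ∈ K a, y • c ≠ c := by
  by_contra hc
  push Not at hc
  obtain ⟨d, hd, hd'⟩ := R.far hac hn
  have hda : a ≠ d := by rintro rfl; exact hn (R.symm hd)
  obtain ⟨g, hg1, hg2⟩ := R.non hac hn hda hd'
  obtain ⟨y, hy, hy1⟩ := R.ex_K a
  have e0 := R.conj_K hy g⁻¹
  rw [show g⁻¹ • a = a by rw [inv_smul_eq_iff, hg1], inv_inv] at e0
  have := hc _ e0
  rw [mul_smul, mul_smul, hg2, inv_smul_eq_iff, hg2] at this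
  exact R.nadj_of_K hy hy1 (hc y hy) this hd

theorem orb_K (R : RN G adj K k h t l) (a c : X) :
    (fin (fun z => ∃ y ∈ K a, y • c = z)).card * Nat.card ↥(K a ⊓ stabilizer G c) = k := by
  have := orb (K a) (K a ⊓ stabilizer G c) (fun (g : G) (x : X) => g • x) (one_smul G)
    (fun g g' y => mul_smul g g' y) c (fun g => Iff.rfl) (fin (fun z => ∃ y ∈ K a, y • c = z))
    (fun z => mem_fin)
  rwa [R.card_K] at this

/-- the part of an edge stabiliser normalising `U` acts semiregularly on `K/U` -/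
theorem HU_le (R : RN G adj K k h t l) (hh : Even h) {a b c : X} (hab : adj a b) (hac : a ≠ c)
    (hn : ¬ adj a c) :
    Nat.card ↥(S2 G a b ⊓ Subgroup.normalizer ((K a ⊓ stabilizer G c : Subgroup G) : Set G)) *
      Nat.card ↥(K a ⊓ stabilizer G c) + Nat.card ↥(K a ⊓ stabilizer G c) ≤ k := by
  classical
  set U := K a ⊓ stabilizer G c with hU
  obtain ⟨y0, hy0, hy0c⟩ := R.U_ne hac hn
  have hy0U : y0 ∉ U := fun e => hy0c e.2
  have h1 := card_le_of_inj (S2 G a b ⊓ Subgroup.normalizer (U : Set G)) U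
    (fin (· ∈ K a) \ fin (· ∈ U)) (fun x v => x * y0 * x⁻¹ * v) (by
      intro x hx v hv
      simp only [Finset.mem_sdiff, mem_fin]
      refine ⟨(K a).mul_mem (R.conj_K' hy0 hx.1.1) hv.1, fun e => hy0U ?_⟩
      have : x * y0 * x⁻¹ ∈ U := by simpa using U.mul_mem e (U.inv_mem hv)
      exact (Subgroup.mem_normalizer_iff.1 hx.2 y0).2 this) (by
      intro x hx v hv x' hx' v' hv' e
      suffices hxx : x = x' by
        subst hxx; exact ⟨rfl, mul_left_cancel e⟩
      by_contra hne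
      set z := x⁻¹ * x' with hz
      have hzm : z ∈ S2 G a b ⊓ Subgroup.normalizer (U : Set G) :=
        Subgroup.mul_mem _ (Subgroup.inv_mem _ hx) hx'
      have hz1 : z ≠ 1 := fun e => hne (inv_mul_eq_one.1 e)
      have hm : y0⁻¹ * (z * y0 * z⁻¹) ∈ U := by
        have : y0⁻¹ * (z * y0 * z⁻¹) = x⁻¹ * (v * v'⁻¹) * x := by
          have e' : x' * y0 * x'⁻¹ = x * y0 * x⁻¹ * v * v'⁻¹ := by rw [e]; group
          calc _ = y0⁻¹ * x⁻¹ * (x' * y0 * x'⁻¹) * x := by rw [hz]; group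
            _ = _ := by rw [e']; group
        rw [this]
        exact (Subgroup.mem_normalizer_iff''.1 hx.2 _).1 (U.mul_mem hv (U.inv_mem hv'))
      let φ : U → U := fun w => ⟨(w : G)⁻¹ * (z * w * z⁻¹),
        U.mul_mem (U.inv_mem w.2) ((Subgroup.mem_normalizer_iff.1 hzm.2 _).1 w.2)⟩
      have key : ∀ w w' : G, w ∈ K a → w' ∈ K a → w⁻¹ * (z * w * z⁻¹) = w'⁻¹ * (z * w' * z⁻¹) →
          w = w' := by
        intro w w' hw hw' e
        have := R.fpf hab hzm.1.1 hzm.1.2 hz1 ((K a).mul_mem hw' ((K a).inv_mem hw)) (by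
          have e2 : z * w' * z⁻¹ = w' * w⁻¹ * (z * w * z⁻¹) := by rw [mul_assoc w', e]; group
          calc z * (w' * w⁻¹) = (z * w' * z⁻¹) * (z * w⁻¹) := by group
            _ = _ := by rw [e2]; group)
        exact (mul_inv_eq_one.1 this).symm
      have hφ : Function.Injective φ := fun w w' e =>
        Subtype.ext (key w w' w.2.1 w'.2.1 (congrArg Subtype.val e))
      obtain ⟨w, hw⟩ := Finite.surjective_of_injective hφ ⟨_, hm⟩
      have := key w y0 w.2.1 hy0 (congrArg Subtype.val hw)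
      exact hy0U (this ▸ w.2))
  have h2 := Finset.card_sdiff_add_card_eq_card (s := fin (· ∈ U)) (t := fin (· ∈ K a))
    (fun x hx => mem_fin.2 (mem_fin.1 hx).1)
  rw [card_fin_sub, card_fin_sub, R.card_K] at h2
  omega

/-- involutions fixing `a` and `c` are conjugate under `U` -/
theorem conj_U (R : RN G adj K k h t l) (hh : Even h) {a c : X} {s s' : G} (hs : Iv s)
    (hs' : Iv s') (ha : s • a = a) (ha' : s' • a = a) (hc : s • c = c) (hc' : s' • c = c) :
    ∃ m ∈ K a ⊓ stabilizer G c, m * s' * m⁻¹ = s := by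
  have h1 := R.inv_mul hh hs hs' ha ha'
  obtain ⟨j, hj⟩ := conj_of_odd hs.1 hs'.1 (R.k_odd hh a) (R.pow_k h1)
  exact ⟨_, Subgroup.pow_mem (K a ⊓ stabilizer G c) (show s * s' ∈ K a ⊓ stabilizer G c from
    ⟨h1, by show _ • c = c; rw [mul_smul, hc', hc]⟩) j, hj⟩

theorem U_case (R : RN G adj K k h t l) (hh : Even h) {a c : X} (hac : a ≠ c) (hn : ¬ adj a c)
    {u0 : G} (hu0 : u0 ∈ K a) (hu1 : u0 ≠ 1) (hu2 : u0 • c = c) :
    k = 9 ∧ h = 4 ∧ l = 6 := by
  classical
  set U := K a ⊓ stabilizer G c with hU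
  set u := Nat.card U with hu
  have hu0U : u0 ∈ U := ⟨hu0, hu2⟩
  let P : Finset X := fin (fun y => ∀ x ∈ U, x • y = y)
  have hP : ∀ y, y ∈ P ↔ ∀ x ∈ U, x • y = y := fun y => mem_fin
  have haP : a ∈ P := (hP _).2 (fun x hx => R.K_fix hx.1)
  have hcP : c ∈ P := (hP _).2 (fun x hx => hx.2)
  have hUK : ∀ y ∈ P, U ≤ K y := fun y hy x hx => R.K_swap hx.1 ((hP y).1 hy x hx)
  have hna : ∀ y ∈ P, ∀ y' ∈ P, ¬ adj y y' := fun y hy y' hy' =>
    R.nadj_of_K hu0 hu1 ((hP y).1 hy _ hu0U) ((hP y').1 hy' _ hu0U)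
  have hUe : ∀ y ∈ P, ∀ y' ∈ P, y ≠ y' → K y ⊓ stabilizer G y' = U := by
    intro y hy y' hy' hne
    symm
    exact Subgroup.eq_of_le_of_card_ge (fun x hx => ⟨hUK y hy hx, (hP y').1 hy' x hx⟩)
      (R.card_U hac hn hne (hna y hy y' hy')).le
  have hKP : ∀ y ∈ P, ∀ x ∈ K y, ∀ z ∈ P, x • z ∈ P := by
    intro y hy x hx z hz
    refine (hP _).2 (fun v hv => ?_)
    rw [← mul_smul, R.K_comm hh (hUK y hy hv) hx, mul_smul, (hP z).1 hz v hv]
  set κ := (fin (fun z => ∃ y ∈ K a, y • c = z)).card with hκ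
  have hκu : κ * u = k := R.orb_K a c
  have upos : 0 < u := Nat.card_pos
  have horb : ∀ y z, y ≠ z → ¬ adj y z → (fin (fun z' => ∃ x ∈ K y, x • z = z')).card = κ := by
    intro y z h1 h2
    have := R.orb_K y z
    rw [R.card_U hac hn h1 h2, ← hκu] at this
    exact Nat.eq_of_mul_eq_mul_right upos this
  have hHU : ∀ y ∈ P, ∀ z ∈ P, y ≠ z → ∀ b, adj y b →
      Nat.card ↥(S2 G y b ⊓ Subgroup.normalizer (U : Set G)) + 1 ≤ κ := by
    intro y hy z hz hne b hb
    have := R.HU_le hh hb hne (hna y hy z hz)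
    rw [hUe y hy z hz hne, ← hκu] at this
    exact Nat.le_of_mul_le_mul_right (by rw [add_mul, one_mul]; exact this) upos
  -- an element fixing `y` and mapping `z` into `P` normalises `U`
  have hnorm : ∀ y ∈ P, ∀ z ∈ P, y ≠ z → ∀ g : G, g • y = y → g • z ∈ P →
      g ∈ Subgroup.normalizer (U : Set G) := by
    intro y hy z hz hne g h1 h2
    refine Subgroup.mem_normalizer_fintype (fun x hx => ?_)
    have hne' : y ≠ g • z := fun e => hne (smul_left_cancel g (by rw [← e, h1]))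
    show g * x * g⁻¹ ∈ U
    rw [← hUe y hy _ h2 hne']
    refine ⟨R.conj_K' (hUK y hy hx) h1, ?_⟩
    show _ • g • z = g • z
    simp [mul_smul, (hP z).1 hz x hx]
  -- adjusting an element to centralise an involution
  have hadj : ∀ y ∈ P, ∀ z ∈ P, ∀ z' ∈ P, y ≠ z → y ≠ z' → ∀ s : G, Iv s → s • y = y → s • z = z →
      s • z' = z' → ∀ b, adj y b → s • b = b → ∀ g : G, g • y = y → g • z = z' →
      ∃ m ∈ U, m * g ∈ S2 G y b ⊓ Subgroup.normalizer (U : Set G) := by
    intro y hy z hz z' hz' n1 n2 s hs f1 f2 f3 b hb f4 g g1 g2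
    have g1' : g⁻¹ • y = y := by rw [inv_smul_eq_iff, g1]
    have g2' : g⁻¹ • z' = z := by rw [inv_smul_eq_iff, g2]
    obtain ⟨m, hm, e⟩ := R.conj_U hh hs (hs.conj g) f1 (by simp [mul_smul, g1', f1, g1]) f3
      (by simp [mul_smul, g2', f2, g2])
    rw [hUe y hy z' hz' n2] at hm
    have m1 : (m * g) • y = y := by rw [mul_smul, g1, (hP y).1 hy m hm]
    refine ⟨m, hm, ⟨m1, R.fix_of_comm hb hs.2 f1 f4 m1 ?_⟩, hnorm y hy z hz n1 _ m1 ?_⟩
    · calc m * g * s = (m * (g * s * g⁻¹) * m⁻¹) * (m * g) := by group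
        _ = _ := by rw [e]
    · rw [mul_smul, g2, (hP z').1 hz' m hm]; exact hz'
  have bound : ∀ y ∈ P, ∀ s : G, Iv s → s • y = y →
      κ * ((P.filter (fun z => s • z = z)).erase y).card ≤ (P.erase y).card ∧
      2 * ((P.filter (fun z => s • z = z)).erase y).card + 1 ≤ κ := by
    intro y hy s hs hsy
    set Z := (P.filter (fun z => s • z = z)).erase y with hZ
    have mZ : ∀ z ∈ Z, z ≠ y ∧ z ∈ P ∧ s • z = z := fun z hz => by
      simpa [hZ] using hz
    constructor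
    · rw [mul_comm, ← smul_eq_mul, ← Finset.sum_const, Finset.sum_congr rfl (fun z hz =>
        (horb y z (mZ z hz).1.symm (hna y hy z (mZ z hz).2.1)).symm), ← Finset.card_biUnion]
      · refine Finset.card_le_card (fun w hw => ?_)
        obtain ⟨z, hz, hw⟩ := Finset.mem_biUnion.1 hw
        rw [mem_fin] at hw
        obtain ⟨x, hx, rfl⟩ := hw
        exact Finset.mem_erase.2 ⟨fun e => (mZ z hz).1 (smul_left_cancel x (by rw [e, R.K_fix hx])),
          hKP y hy x hx z (mZ z hz).2.1⟩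
      · intro z hz z' hz' hne
        rw [Function.onFun, Finset.disjoint_left]
        intro w h1 h2
        rw [mem_fin] at h1 h2
        obtain ⟨x, hx, rfl⟩ := h1
        obtain ⟨x', hx', e⟩ := h2
        have hv : x⁻¹ * x' ∈ K y := (K y).mul_mem ((K y).inv_mem hx) hx'
        set v := x⁻¹ * x' with hvd
        have e1 : v • z' = z := by rw [hvd, mul_smul, e, inv_smul_smul]
        have e2 : v⁻¹ • z' = z := by
          rw [← R.inverts hh hs hsy hv, mul_smul, mul_smul, hs.inv, (mZ z' hz').2.2, e1,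
            (mZ z hz).2.2]
        have e3 : v * v ∈ K y ⊓ stabilizer G z' := ⟨(K y).mul_mem hv hv, by
          show _ • z' = z'
          rw [mul_smul, e1, ← e2, smul_inv_smul]⟩
        have e4 := mem_of_sq_mem (R.k_odd hh y) (R.pow_k hv) e3
        exact hne (by rw [← e1]; exact e4.2)
    · rcases Z.eq_empty_or_nonempty with e | ⟨z, hz⟩
      · rw [e]
        have : 0 < κ := Finset.card_pos.2 ⟨c, mem_fin.2 ⟨1, (K a).one_mem, one_smul _ _⟩⟩
        rw [Finset.card_empty]; omega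
      obtain ⟨b, hb, hsb⟩ := R.partner hh hs hsy
      obtain ⟨z1, z2, z3⟩ := mZ z hz
      set N := S2 G y b ⊓ Subgroup.normalizer (U : Set G) with hN
      have h1 := orb N (N ⊓ stabilizer G z) (fun (g : G) (x : X) => g • x) (one_smul G)
        (fun g g' y => mul_smul g g' y) z (fun g => Iff.rfl) (fin (fun w => ∃ g ∈ N, g • z = w))
        (fun w => mem_fin)
      have h2 : 2 ≤ Nat.card ↥(N ⊓ stabilizer G z) := by
        have : s ∈ N ⊓ stabilizer G z :=
          ⟨⟨⟨hsy, hsb⟩, hnorm y hy z z2 z1.symm s hsy (by rw [z3]; exact z2)⟩, z3⟩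
        haveI : Nontrivial ↥(N ⊓ stabilizer G z) :=
          ⟨⟨⟨s, this⟩, 1, fun e => hs.2 (congrArg Subtype.val e)⟩⟩
        exact Finite.one_lt_card
      have h3 : Z.card ≤ (fin (fun w => ∃ g ∈ N, g • z = w)).card := by
        refine Finset.card_le_card (fun z' hz' => ?_)
        obtain ⟨y1, y2, y3⟩ := mZ z' hz'
        obtain ⟨g, g1, g2⟩ := R.non z1.symm (hna y hy z z2) y1.symm (hna y hy z' y2)
        obtain ⟨m, hm, hm'⟩ := hadj y hy z z2 z' y2 z1.symm y1.symm s hs hsy z3 y3 b hb hsb g g1 g2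
        exact mem_fin.2 ⟨m * g, hm', by rw [mul_smul, g2, (hP z').1 y2 m hm]⟩
      have h4 := hHU y hy z z2 z1.symm b hb
      rw [← hN] at h4
      nlinarith
  let J : Finset G := fin (fun s => Iv s ∧ ∃ y ∈ P, s • y = y)
  have hJne : J.Nonempty := by
    obtain ⟨b, hb⟩ := R.ex a
    obtain ⟨s, hs, h1, -⟩ := R.ex_inv hh hb
    exact ⟨s, mem_fin.2 ⟨hs, a, haP, h1⟩⟩
  obtain ⟨s0, hs0, hmax⟩ := Finset.exists_max_image J
    (fun s => (P.filter (fun z => s • z = z)).card) hJne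
  obtain ⟨hs0, y0, hy0, hsy0⟩ := mem_fin.1 hs0
  obtain ⟨b1, b2⟩ := bound y0 hy0 s0 hs0 hsy0
  have e0 := Finset.card_erase_add_one (s := P.filter (fun z => s0 • z = z)) (a := y0)
    (Finset.mem_filter.2 ⟨hy0, hsy0⟩)
  set f := ((P.filter (fun z => s0 • z = z)).erase y0).card with hf
  have e1 := Finset.card_erase_add_one hy0
  have e1' := Finset.card_erase_add_one haP
  set φ := (P.erase y0).card with hφ
  have c1 := Finset.card_mul_le_card_mul (s := P) (t := J) (m := k) (n := f + 1)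
    (fun y s => s • y = y) (by
      intro y hy
      rw [← R.card_sw_self hh y]
      refine Finset.card_le_card (fun s hs => ?_)
      rw [mem_sw] at hs
      exact Finset.mem_bipartiteAbove _ |>.2 ⟨mem_fin.2 ⟨hs.1.1, y, hy, hs.2⟩, hs.2⟩) (by
      intro s hs
      rw [e0]
      exact hmax s hs)
  have hinvU : ∀ s ∈ J, ∀ x ∈ U, s * x * s⁻¹ = x⁻¹ := by
    intro s hs x hx
    obtain ⟨h1, y, hy, h2⟩ := mem_fin.1 hs
    exact R.inverts hh h1 h2 (hUK y hy hx)
  have c2 : J.card ≤ k + u * φ := by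
    rw [← Finset.card_filter_add_card_filter_not (s := J) (fun s => s • a = a)]
    refine Nat.add_le_add ?_ ?_
    · rw [← R.card_sw_self hh a]
      refine Finset.card_le_card (fun s hs => ?_)
      rw [Finset.mem_filter] at hs
      exact mem_sw.2 ⟨⟨(mem_fin.1 hs.1).1, a, hs.2⟩, hs.2⟩
    · rw [show φ = (P.erase a).card by omega]
      refine Finset.card_le_mul_card_image_of_maps_to (f := fun s => s • a) (fun s hs => ?_) u
        (fun y hy => ?_)
      · rw [Finset.mem_filter] at hs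
        refine Finset.mem_erase.2 ⟨hs.2, (hP _).2 (fun x hx => ?_)⟩
        have := hinvU s hs.1 x⁻¹ (U.inv_mem hx)
        rw [inv_inv] at this
        rw [← this]
        simp [mul_smul, (hP a).1 haP _ (U.inv_mem hx)]
      · rcases (Finset.filter (fun s => s • a = y)
          (J.filter (fun s => ¬ s • a = a))).eq_empty_or_nonempty with e | ⟨s1, hs1⟩
        · rw [e]; simp
        rw [hu, ← card_fin_sub]
        simp only [Finset.mem_filter] at hs1
        refine Finset.card_le_card_of_injOn (fun s => s1 * s) (fun s hs => ?_)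
          (fun s _ s' _ e => mul_left_cancel e)
        simp only [Finset.coe_filter, Finset.mem_filter, Set.mem_setOf_eq] at hs
        rw [Finset.mem_erase] at hy
        rw [Finset.mem_coe, mem_fin, ← hUe a haP y hy.2 hy.1.symm]
        have i1 := (mem_fin.1 hs1.1.1).1
        have i2 := (mem_fin.1 hs.1.1).1
        have fa : (s1 * s) • a = a := by rw [mul_smul, hs.2, ← hs1.2, i1.smul_smul]
        refine ⟨R.cen_K hu0 hu1 fa ?_, ?_⟩
        · have e1 := hinvU s hs.1.1 u0 hu0U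
          have e2 := hinvU s1 hs1.1.1 _ (U.inv_mem hu0U)
          calc s1 * s * u0 = s1 * (s * u0 * s⁻¹) * s1⁻¹ * (s1 * s) := by group
            _ = u0 * (s1 * s) := by rw [e1, e2, inv_inv]
        · show (s1 * s) • y = y
          rw [mul_smul, ← hs.2, i2.smul_smul, hs1.2, hs.2]
  have φpos : 0 < φ := by
    have : 0 < (P.erase a).card := Finset.card_pos.2 ⟨c, Finset.mem_erase.2 ⟨hac.symm, hcP⟩⟩
    omega
  have κ2 : 2 ≤ κ := by
    obtain ⟨y, hy, hyc⟩ := R.U_ne hac hn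
    exact Finset.one_lt_card.2 ⟨_, mem_fin.2 ⟨y, hy, rfl⟩, c,
      mem_fin.2 ⟨1, (K a).one_mem, one_smul _ _⟩, hyc⟩
  have c3 : (φ + 1) * κ ≤ (κ + φ) * (f + 1) := by
    refine Nat.le_of_mul_le_mul_right (c := u) ?_ upos
    calc (φ + 1) * κ * u = P.card * k := by rw [← e1, ← hκu]; ring
      _ ≤ J.card * (f + 1) := c1
      _ ≤ (k + u * φ) * (f + 1) := Nat.mul_le_mul_right _ c2
      _ = _ := by rw [← hκu]; ring
  have hκf : κ ≤ 2 + f := by
    refine Nat.le_of_mul_le_mul_left (c := φ) ?_ φpos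
    nlinarith
  have hf1 : f = 1 := by
    rcases f with _ | _ | f
    · nlinarith
    · rfl
    · omega
  have hκ3 : κ = 3 := by omega
  obtain ⟨z, hz⟩ := Finset.card_eq_one.1 (hf ▸ hf1)
  have mz : z ≠ y0 ∧ z ∈ P ∧ s0 • z = z := by
    have : z ∈ (P.filter (fun z => s0 • z = z)).erase y0 := by rw [hz]; simp
    simpa using this
  have nz := hna y0 hy0 z mz.2.1
  have t2 : 2 ∣ t := by
    rw [← R.card_T mz.1.symm nz]
    have := (S2 G y0 z).orderOf_dvd_natCard (x := s0) ⟨hsy0, mz.2.2⟩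
    rwa [orderOf_eq_prime (by rw [sq]; exact hs0.1) hs0.2] at this
  have tle : t ≤ 2 * u := by
    obtain ⟨b, hb, hsb⟩ := R.partner hh hs0 hsy0
    have h4 := hHU y0 hy0 z mz.2.1 mz.1.symm b hb
    have : ∀ g ∈ fin (· ∈ S2 G y0 z), ∃ m ∈ U,
        m * g ∈ S2 G y0 b ⊓ Subgroup.normalizer (U : Set G) := fun g hg =>
      hadj y0 hy0 z mz.2.1 z mz.2.1 mz.1.symm mz.1.symm s0 hs0 hsy0 mz.2.2 mz.2.2 b hb hsb g
        (mem_fin.1 hg).1 (mem_fin.1 hg).2
    choose! m hm1 hm2 using this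
    have := Finset.card_le_card_of_injOn (s := fin (· ∈ S2 G y0 z))
      (t := fin (· ∈ S2 G y0 b ⊓ Subgroup.normalizer (U : Set G)) ×ˢ fin (· ∈ U))
      (fun g => (m g * g, m g)) (fun g hg => by
        simp only [Finset.coe_product, Set.mem_prod, Finset.mem_coe, mem_fin]
        exact ⟨hm2 g hg, hm1 g hg⟩) (fun g _ g' _ e => by
        simp only [Prod.mk.injEq] at e
        rw [e.2] at e
        exact mul_left_cancel e.1)
    rw [Finset.card_product, card_fin_sub, card_fin_sub, card_fin_sub,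
      R.card_T mz.1.symm nz] at this
    nlinarith
  have uodd : Odd u := by
    have := R.k_odd hh a
    rw [← hκu] at this
    exact (Nat.odd_mul.1 this).2
  have ut : u ∣ t := by
    rw [← R.card_T hac hn]
    exact Subgroup.card_dvd_of_le (fun x hx => ⟨R.K_fix hx.1, hx.2⟩)
  have ht : t = 2 * u := by
    have := (Nat.Coprime.mul_dvd_of_dvd_of_dvd (by simpa using uodd) t2 ut)
    exact le_antisymm tle (Nat.le_of_dvd (R.t_pos a) this)
  obtain ⟨d, hd, hd'⟩ := R.far hac hn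
  have hda : a ≠ d := by rintro rfl; exact hn (R.symm hd)
  have o1 := orb U ⊥ (fun (g : G) (x : X) => g • x) (one_smul G)
    (fun g g' y => mul_smul g g' y) d (fun g => by
      rw [Subgroup.mem_bot]
      constructor
      · rintro rfl; exact ⟨U.one_mem, one_smul _ _⟩
      · rintro ⟨h1, h2⟩; exact R.K_free (hUK c hcP h1) hd h2) (fin (fun w => ∃ g ∈ U, g • d = w))
    (fun w => mem_fin)
  rw [Subgroup.card_bot, mul_one, ← hu] at o1
  have u3 : u ≤ 3 := by
    rw [← o1, ← hκ3, ← horb a d hda hd']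
    refine Finset.card_le_card (fun w hw => ?_)
    rw [mem_fin] at hw ⊢
    obtain ⟨g, hg, e⟩ := hw
    exact ⟨g, hg.1, e⟩
  have u2 : 2 ≤ u := by
    haveI : Nontrivial U := ⟨⟨⟨u0, hu0U⟩, 1, fun e => hu1 (congrArg Subtype.val e)⟩⟩
    exact Finite.one_lt_card
  have hu3 : u = 3 := by obtain ⟨j, hj⟩ := uodd; omega
  have l4 : u + 1 ≤ l := by
    rw [← o1, ← R.card_nn a, ← Finset.card_erase_add_one (mem_nn.2 ⟨hac.symm, hn⟩)]
    refine Nat.succ_le_succ (Finset.card_le_card (fun w hw => ?_))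
    rw [mem_fin] at hw
    obtain ⟨g, hg, rfl⟩ := hw
    have ga : g • a = a := R.K_fix hg.1
    exact Finset.mem_erase.2 ⟨(R.ne (R.adj_of_fix hg.2 hd)).symm, mem_nn.2
      ⟨fun e => hda (smul_left_cancel g (by rw [e, ga])), R.nadj_of_fix ga hd'⟩⟩
  obtain ⟨lam, mu, -, -, p1, p2, p3, p4, p5, p6⟩ := R.exists_lam_mu
  have hk9 : k = 9 := by rw [← hκu, hκ3, hu3]
  have ht6 : t = 6 := by omega
  have hl := R.lt
  have hX := R.card_X
  subst hk9 ht6
  have hmu : mu = 6 := by omega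
  subst hmu
  obtain ⟨j, hj⟩ := p4
  have h8 : h * (j + 1) = 8 := by nlinarith
  have hle : h ≤ 8 := Nat.le_of_dvd (by norm_num) ⟨_, h8.symm⟩
  obtain ⟨i, hi⟩ := hh
  have : h = 4 ∨ h = 8 := by
    interval_cases h <;> omega
  rcases this with rfl | rfl
  · omega
  · exfalso
    have : lam = 0 := by omega
    subst this
    have := p6 (by rw [hX]; exact ⟨11, by omega⟩)
    norm_num at this

end RN

end Cfsg.Agent.H76.Rk
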