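/-
Rank 3 Frobenius problem: groups with a unique involution and automorphisms of order two.
-/
import Cfsg.Agent.H76.RkF
import Cfsg.Agent.H1.UniqueSub

set_option autoImplicit false

namespace Cfsg.Agent.H76.Rk

open Finset MulAction

variable {G : Type*} [Group G]

theorem le_of_half [Finite G] (T Q : Subgroup G) (J : Finset G) (hJ : ∀ a ∈ J, a ∈ Q ∧ a ∈ T)
    (hlt : Nat.card T < 2 * J.card) : T ≤ Q := by
  have h1 : J.card ≤ Nat.card ↥(Q ⊓ T) := by
    rw [← card_fin_sub]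
    exact Finset.card_le_card (fun a ha => mem_fin.2 (hJ a ha))
  obtain ⟨m, hm⟩ : Nat.card ↥(Q ⊓ T) ∣ Nat.card T := Subgroup.card_dvd_of_le inf_le_right
  have hpos : 0 < Nat.card T := Nat.card_pos
  have hm1 : m = 1 := by
    rcases m with _ | _ | m
    · omega
    · rfl
    · nlinarith
  have : Q ⊓ T = T := Subgroup.eq_of_le_of_card_ge inf_le_right (by rw [hm, hm1]; simp)
  rw [← this]; exact inf_le_left

theorem mem_cen {x g : G} : g ∈ Subgroup.centralizer ({x} : Set G) ↔ x * g = g * x := by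
  rw [Subgroup.mem_centralizer_iff]; simp

/-- class sizes -/
theorem cls [Finite G] (R : Subgroup G) (z : G) :
    (fin (fun w => ∃ g ∈ R, g * z * g⁻¹ = w)).card *
      Nat.card ↥(R ⊓ Subgroup.centralizer {z}) = Nat.card R :=
  orb R _ (fun g y => g * y * g⁻¹) cj_one cj_mul z (fun g => by
    rw [Subgroup.mem_inf, mem_cen, mul_inv_eq_iff_eq_mul, eq_comm]) _ (fun _ => mem_fin)

theorem card_le_two [Finite G] {Q : Subgroup G} {s : G} (h : ∀ x ∈ Q, x = 1 ∨ x = s) :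
    Nat.card Q ≤ 2 := by
  classical
  rw [← card_fin_sub]
  exact (Finset.card_le_card (t := {1, s}) (fun x hx => by simpa using h x (mem_fin.1 hx))).trans
    Finset.card_le_two

theorem two_le_card [Finite G] {Q : Subgroup G} {s : G} (h : s ∈ Q) (h1 : s ≠ 1) :
    2 ≤ Nat.card Q := by
  haveI : Nontrivial Q := ⟨⟨⟨s, h⟩, 1, fun e => h1 (congrArg Subtype.val e)⟩⟩
  exact Finite.one_lt_card

theorem ord4 {x : G} (n : ℕ) (h : x ^ 2 ^ n = 1) (h2 : x * x ≠ 1) :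
    ∃ j : ℕ, x ^ j * x ^ j ≠ 1 ∧ (x ^ j * x ^ j) * (x ^ j * x ^ j) = 1 := by
  induction n generalizing x with
  | zero => exact absurd (by simp at h; simp [h]) h2
  | succ n ih =>
    by_cases h4 : (x * x) * (x * x) = 1
    · exact ⟨1, by simpa using h2, by simpa using h4⟩
    · obtain ⟨j, hj⟩ := ih (x := x * x) (by rw [← sq, ← pow_mul, ← pow_succ', h]) h4
      exact ⟨2 * j, by rwa [pow_mul, sq]⟩

theorem pow_two_of_mem {P : Subgroup G} (hP : IsPGroup 2 P) {x : G} (hx : x ∈ P) :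
    ∃ n, x ^ 2 ^ n = 1 := by
  obtain ⟨n, hn⟩ := hP ⟨x, hx⟩
  exact ⟨n, congrArg Subtype.val hn⟩

theorem isP_zpowers {x : G} {n : ℕ} (h : x ^ 2 ^ n = 1) : IsPGroup 2 (Subgroup.zpowers x) := by
  rintro ⟨_, j, rfl⟩
  exact ⟨n, Subtype.ext (by
    show (x ^ j) ^ 2 ^ n = 1
    rw [← zpow_natCast, ← zpow_mul, mul_comm, zpow_mul, zpow_natCast, h, one_zpow])⟩

theorem cyc_or [Finite G] (R : Subgroup G) (hR : IsPGroup 2 R) {s : G}
    (hu : ∀ x ∈ R, x * x = 1 → x = 1 ∨ x = s) :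
    IsCyclic R ∨ (4 ≤ Nat.card R ∧ (∃ x ∈ R, ∃ y ∈ R, x * y ≠ y * x) ∧
      ∀ q ∈ R, (∀ x ∈ R, q * x = x * q) → q * q = 1) := by
  refine (H1.cyclic_or_quaternion_gens hR (fun x y hx hy => ?_)).imp id ?_
  · have key : ∀ z : R, orderOf z = 2 → (z : G) = s := by
      intro z hz
      have := pow_orderOf_eq_one z
      rw [hz, sq] at this
      refine (hu z z.2 (congrArg Subtype.val this)).resolve_left (fun e => ?_)
      rw [show z = 1 from Subtype.ext e, orderOf_one] at hz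
      omega
    exact Subtype.ext ((key x hx).trans (key y hy).symm)
  rintro ⟨n, a, g, ha, -, hga, h⟩
  have h4 : 4 ≤ orderOf a := by
    rw [ha, pow_succ]; have := Nat.two_pow_pos n; omega
  have hna : g * a ≠ a * g := by
    intro e
    rw [e, mul_inv_cancel_right] at hga
    have : a ^ 2 = 1 := by rw [sq]; nth_rewrite 1 [hga]; simp
    have := Nat.le_of_dvd (by norm_num) (orderOf_dvd_of_pow_eq_one this)
    omega
  refine ⟨h4.trans (Nat.le_of_dvd Nat.card_pos (orderOf_dvd_natCard a)),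
    ⟨g, g.2, a, a.2, fun e => hna (Subtype.ext e)⟩, fun q hq hc => ?_⟩
  rcases h ⟨q, hq⟩ with ⟨i, hi⟩ | ⟨i, hi⟩
  · have e1 : g * ⟨q, hq⟩ * g⁻¹ = (⟨q, hq⟩ : R)⁻¹ := by
      rw [← hi]; simp only []; rw [← conj_zpow, hga, inv_zpow]
    have e2 : (g : G) * q * (g : G)⁻¹ = q⁻¹ := congrArg Subtype.val e1
    rw [← hc g g.2, mul_inv_cancel_right] at e2
    nth_rewrite 1 [e2]; simp
  · exfalso
    apply hna
    have e1 : g = ⟨q, hq⟩ * (a ^ i)⁻¹ := by simp only [] at hi; rw [hi]; group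
    have e2 : (⟨q, hq⟩ : R) * a = a * ⟨q, hq⟩ := Subtype.ext (hc a a.2)
    rw [e1, ← mul_assoc, ← e2]; group

theorem cyc_of_half [Finite G] (R : Subgroup G) (hR : IsPGroup 2 R) {s u : G}
    (hu : ∀ x ∈ R, x * x = 1 → x = 1 ∨ x = s) (hC : ∀ x ∈ R, u * x = x * u → x = 1 ∨ x = s)
    (I : Finset G) (hI : ∀ x ∈ I, x ∈ R ∧ u * x * u⁻¹ = x⁻¹) (hc : Nat.card R < 2 * I.card) :
    IsCyclic R := by
  classical
  refine (cyc_or R hR hu).resolve_right ?_
  rintro ⟨h4, -, hq⟩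
  have four : ∀ x ∈ I, x * x ≠ 1 → ∃ j : ℕ, x ^ j * x ^ j = s ∧ s * s = 1 ∧ s ≠ 1 ∧
      u * x ^ j * u⁻¹ = (x ^ j)⁻¹ := by
    intro x hx h2
    obtain ⟨n, hn⟩ := pow_two_of_mem hR (hI x hx).1
    obtain ⟨j, h1, h3⟩ := ord4 n hn h2
    have hm := R.pow_mem (hI x hx).1 j
    have := (hu _ (R.mul_mem hm hm) h3).resolve_left h1
    exact ⟨j, this, this ▸ h3, this ▸ h1, by rw [← conj_pow, (hI x hx).2, inv_pow]⟩
  by_cases h0 : ∀ x ∈ I, x * x = 1
  · have := (Finset.card_le_card (s := I) (t := {1, s}) (fun x hx => by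
      simpa using hu x (hI x hx).1 (h0 x hx))).trans Finset.card_le_two
    omega
  push Not at h0
  obtain ⟨x0, hx0, h0⟩ := h0
  obtain ⟨j, q1, s2, s1, q2⟩ := four x0 hx0 h0
  have qm := R.pow_mem (hI x0 hx0).1 j
  set q := x0 ^ j with hqd
  have := le_of_half R (Subgroup.centralizer {q}) I (fun x hx => ⟨?_, (hI x hx).1⟩) hc
  · exact s1 (q1 ▸ hq q qm (fun x hx => mem_cen.1 (this hx)))
  rw [mem_cen]
  by_cases h2 : x * x = 1
  · rcases hu x (hI x hx).1 h2 with rfl | rfl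
    · simp
    · rw [← q1]; group
  obtain ⟨i, p1, -, -, p2⟩ := four x hx h2
  have pm := R.pow_mem (hI x hx).1 i
  have hcomm : x ^ i * x = x * x ^ i := by group
  set p := x ^ i with hpd
  have qi : q⁻¹ = q * s := by
    rw [inv_eq_iff_mul_eq_one, ← mul_assoc, q1, s2]
  have pi : p⁻¹ = s * p := by
    rw [inv_eq_iff_mul_eq_one, ← p1]
    calc _ = (p * p) * (p * p) := by group
      _ = 1 := by rw [p1, s2]
  have := hC (q * p) (R.mul_mem qm pm) (by
    rw [← mul_inv_eq_iff_eq_mul]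
    calc u * (q * p) * u⁻¹ = (u * q * u⁻¹) * (u * p * u⁻¹) := by group
      _ = q * (s * s) * p := by rw [q2, p2, qi, pi]; group
      _ = _ := by rw [s2, mul_one])
  rcases this with e | e
  · have : q = p⁻¹ := eq_inv_of_mul_eq_one_left e
    rw [this, inv_mul_eq_iff_eq_mul, ← mul_assoc, hcomm]; group
  · have : q = p := by rw [← p1] at e; exact mul_right_cancel e
    rw [this, hcomm]

/-- a Sylow 2-subgroup of an extension of index at most two -/
theorem syl2 [Finite G] (T T1 : Subgroup G) {σ : G} (hσ : σ ∈ T1) {n : ℕ} (h2 : σ ^ 2 ^ n = 1)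
    (hT : ∀ g ∈ T1, g ∈ T ∨ g * σ⁻¹ ∈ T) :
    ∃ P : Subgroup G, IsPGroup 2 P ∧ P ≤ T1 ∧ σ ∈ P ∧
      ∀ Q ≤ T1, IsPGroup 2 Q → ∃ m ∈ T, ∀ x ∈ Q, m⁻¹ * x * m ∈ P := by
  haveI : Fact (Nat.Prime 2) := ⟨Nat.prime_two⟩
  have hle : Subgroup.zpowers σ ≤ T1 := Subgroup.zpowers_le.2 hσ
  obtain ⟨P, hP⟩ := ((isP_zpowers h2).of_equiv
    (Subgroup.subgroupOfEquivOfLe hle).symm).exists_le_sylow
  have hσP : σ ∈ (P : Subgroup T1).map T1.subtype :=
    ⟨⟨σ, hσ⟩, hP (Subgroup.mem_zpowers σ), rfl⟩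
  refine ⟨(P : Subgroup T1).map T1.subtype, P.2.map _, Subgroup.map_subtype_le _, hσP,
    fun Q hQ hp => ?_⟩
  obtain ⟨m, hm, h⟩ := syl_conj T1 P Q hQ hp
  rcases hT m hm with h1 | h1
  · exact ⟨m, h1, h⟩
  · refine ⟨_, h1, fun x hx => ?_⟩
    have := Subgroup.mul_mem _ (Subgroup.mul_mem _ hσP (h x hx)) (Subgroup.inv_mem _ hσP)
    convert this using 1
    group

theorem four_dvd {Y : Type*} (f g : Y → Y) (S : Finset Y) (hf : ∀ y ∈ S, f y ∈ S)
    (hg : ∀ y ∈ S, g y ∈ S) (ff : ∀ y ∈ S, f (f y) = y) (gg : ∀ y ∈ S, g (g y) = y)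
    (fg : ∀ y ∈ S, f (g y) = g (f y)) (nf : ∀ y ∈ S, f y ≠ y) (ng : ∀ y ∈ S, g y ≠ y)
    (nfg : ∀ y ∈ S, f y ≠ g y) : 4 ∣ S.card := by
  classical
  induction S using Finset.strongInduction with
  | H S ih =>
    rcases S.eq_empty_or_nonempty with rfl | ⟨y, hy⟩
    · simp
    have fi : ∀ x ∈ S, ∀ z ∈ S, f x = z → x = f z := fun x hx z _ e => by rw [← e, ff x hx]
    have gi : ∀ x ∈ S, ∀ z ∈ S, g x = z → x = g z := fun x hx z _ e => by rw [← e, gg x hx]
    have h1 := hf y hy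
    have h2 := hg y hy
    have h3 := hf _ h2
    have hOS : ({y, f y, g y, f (g y)} : Finset Y) ⊆ S := by
      intro z hz
      simp only [Finset.mem_insert, Finset.mem_singleton] at hz
      rcases hz with rfl | rfl | rfl | rfl <;> assumption
    have hc : ({y, f y, g y, f (g y)} : Finset Y).card = 4 := by
      have a1 := nf y hy
      have a2 := ng y hy
      have a3 := nfg y hy
      have a4 := nf _ h2
      have a5 : f (g y) ≠ y := fun e => a3 (fi _ h2 _ hy e).symm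
      have a6 : f (g y) ≠ f y := fun e => a2 (by rw [fi _ h2 _ h1 e, ff y hy])
      rw [Finset.card_eq_four]
      exact ⟨_, _, _, _, a1.symm, a2.symm, a5.symm, a3, a6.symm, a4.symm, rfl⟩
    have := ih (S \ {y, f y, g y, f (g y)}) (Finset.sdiff_ssubset hOS ⟨y, by simp⟩) (by
      intro z hz
      simp only [Finset.mem_sdiff, Finset.mem_insert, Finset.mem_singleton, not_or] at hz ⊢
      obtain ⟨hz, b1, b2, b3, b4⟩ := hz
      exact ⟨hf z hz, fun e => b2 (fi _ hz _ hy e), fun e => b1 (by rw [fi _ hz _ h1 e, ff y hy]),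
        fun e => b4 (fi _ hz _ h2 e), fun e => b3 (by rw [fi _ hz _ h3 e, ff _ h2])⟩) (by
      intro z hz
      simp only [Finset.mem_sdiff, Finset.mem_insert, Finset.mem_singleton, not_or] at hz ⊢
      obtain ⟨hz, b1, b2, b3, b4⟩ := hz
      exact ⟨hg z hz, fun e => b3 (gi _ hz _ hy e), fun e => b4 (by rw [gi _ hz _ h1 e, fg y hy]),
        fun e => b1 (by rw [gi _ hz _ h2 e, gg y hy]),
        fun e => b2 (by rw [gi _ hz _ h3 e, fg y hy, gg _ h1])⟩)
      (fun z hz => ff z (Finset.mem_sdiff.1 hz).1) (fun z hz => gg z (Finset.mem_sdiff.1 hz).1)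
      (fun z hz => fg z (Finset.mem_sdiff.1 hz).1) (fun z hz => nf z (Finset.mem_sdiff.1 hz).1)
      (fun z hz => ng z (Finset.mem_sdiff.1 hz).1) (fun z hz => nfg z (Finset.mem_sdiff.1 hz).1)
    rw [← Finset.card_sdiff_add_card_eq_card hOS, hc]
    exact Dvd.dvd.add this dvd_rfl

end Cfsg.Agent.H76.Rk
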