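/-
Rank 3 Frobenius problem: the two point stabiliser and its involutory automorphisms.
-/
import Cfsg.Agent.H76.RkG

set_option autoImplicit false

namespace Cfsg.Agent.H76.Rk

open Finset MulAction

variable {G : Type*} [Group G] [Finite G]

theorem exists_odd_part (T : Subgroup G) (h2 : 2 ∣ Nat.card T) (P : Sylow 2 T) (hP : IsCyclic P) :
    ∃ (O : Subgroup G) (j : ℕ) (r : G), O ≤ T ∧ Odd (Nat.card O) ∧
      Nat.card T = 2 ^ j * Nat.card O ∧ (∀ x ∈ T, ∀ m, Odd m → x ^ m = 1 → x ∈ O) ∧ r ∈ T ∧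
      (∀ x ∈ T, ∃ i : ℤ, x * (r ^ i)⁻¹ ∈ O) ∧
      ∀ g1 ∈ Subgroup.normalizer (T : Set G), ∀ g2 ∈ Subgroup.normalizer (T : Set G),
        ∀ z, (g1 * g2 * g1⁻¹ * g2⁻¹)⁻¹ * z ∈ T → ∀ x ∈ T, z * x * z⁻¹ * x⁻¹ ∈ O := by
  haveI : Fact (Nat.Prime 2) := ⟨Nat.prime_two⟩
  have hN := hP.normalizer_le_centralizer ((Nat.minFac_eq_two_iff _).mpr h2)
  let V : T →* P := MonoidHom.transferSylow P hN
  have hc := MonoidHom.ker_transferSylow_isComplement' P hN
  obtain ⟨j, hj⟩ := P.2.exists_card_eq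
  have hO : ∀ x : T, (x : G) ∈ V.ker.map T.subtype ↔ V x = 1 := fun x =>
    Subgroup.mem_map_iff_mem T.subtype_injective
  have hcard : Nat.card (V.ker.map T.subtype) = Nat.card V.ker :=
    Subgroup.card_map_of_injective T.subtype_injective
  have hodd : ∀ x : T, ∀ m, Odd m → x ^ m = 1 → V x = 1 := by
    intro x m hm e
    obtain ⟨n, hn⟩ := P.2 (V x)
    have h1 : V x ^ m = 1 := by rw [← map_pow, e, map_one]
    have := pow_gcd_eq_one.2 ⟨h1, hn⟩
    rwa [Nat.Coprime.gcd_eq_one (Nat.Coprime.pow_right _ hm.coprime_two_right), pow_one] at this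
  have hko : Odd (Nat.card V.ker) := by
    have := MonoidHom.not_dvd_card_ker_transferSylow P hN
    exact Nat.odd_iff.2 (by change ¬ 2 ∣ Nat.card V.ker at this; omega)
  obtain ⟨γ, hγ⟩ := IsCyclic.exists_generator (α := P)
  obtain ⟨y, hy⟩ := (P.2.powEquiv' P.not_dvd_index).surjective γ
  have hr : V y = γ := by
    rw [← hy]; exact MonoidHom.transferSylow_eq_pow P hN y y.2
  have hx : ∀ x : T, ∃ i : ℤ, V x = γ ^ i ∧ V (x * ((y : T) ^ i)⁻¹) = 1 := by
    intro x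
    obtain ⟨i, hi⟩ := hγ (V x)
    exact ⟨i, hi.symm, by rw [map_mul, map_inv, map_zpow, hr, ← hi]; simp⟩
  have hpow : ∀ g ∈ Subgroup.normalizer (T : Set G), ∃ m : ℤ, ∀ x x' : T,
      (x' : G) = g * x * g⁻¹ → V x' = V x ^ m := by
    intro g hg
    let c : T →* T := (T.normalizerMonoidHom ⟨g, hg⟩).toMonoidHom
    obtain ⟨m, hm⟩ := hγ (V (c y))
    refine ⟨m, fun x x' e => ?_⟩
    obtain rfl : x' = c x := Subtype.ext e
    obtain ⟨i, h1, h2⟩ := hx x
    have h3 := hodd (c (x * ((y : T) ^ i)⁻¹)) _ hko (by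
      rw [← map_pow]
      have : (⟨_, h2⟩ : V.ker) ^ Nat.card V.ker = 1 := pow_card_eq_one'
      rw [show (x * ((y : T) ^ i)⁻¹) ^ Nat.card V.ker = 1 from congrArg Subtype.val this, map_one])
    rw [map_mul, map_mul, map_inv, map_inv, map_zpow, map_zpow, mul_inv_eq_one, ← hm] at h3
    rw [h3, h1, ← zpow_mul, ← zpow_mul, mul_comm]
  refine ⟨V.ker.map T.subtype, j, (y : T), Subgroup.map_subtype_le _, hcard ▸ hko, ?_,
    fun x hx m hm e => (hO ⟨x, hx⟩).2 (hodd _ m hm (Subtype.ext e)), (y : T).2, fun x hx' => ?_,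
    fun g1 h1 g2 h2 z hz x hx => ?_⟩
  · rw [hcard, ← hj, mul_comm]; exact hc.card_mul.symm
  · obtain ⟨i, -, h⟩ := hx ⟨x, hx'⟩
    exact ⟨i, (hO _).2 h⟩
  · obtain ⟨m1, e1⟩ := hpow g1 h1
    obtain ⟨m2, e2⟩ := hpow g2 h2
    have n : ∀ g ∈ Subgroup.normalizer (T : Set G), ∀ x ∈ T, g * x * g⁻¹ ∈ T :=
      fun g hg x hx => (Subgroup.mem_normalizer_iff.1 hg x).1 hx
    set x0 := (g1 * g2 * g1⁻¹ * g2⁻¹)⁻¹ * z with hx0
    have w0 : x0 * x * x0⁻¹ ∈ T := T.mul_mem (T.mul_mem hz hx) (T.inv_mem hz)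
    have w1 := n _ (Subgroup.inv_mem _ h1) _ (n _ (Subgroup.inv_mem _ h2) _ w0)
    have a1 := e1 ⟨_, w1⟩ ⟨_, n _ h1 _ w1⟩ rfl
    have a2 := e2 ⟨_, n _ h1 _ w1⟩ ⟨_, w0⟩ (by simp only []; group)
    have b1 := e2 ⟨_, w1⟩ ⟨_, n _ h2 _ w1⟩ rfl
    have b2 := e1 ⟨_, n _ h2 _ w1⟩ ⟨_, n _ h1 _ (n _ h2 _ w1)⟩ rfl
    rw [a1, ← zpow_mul] at a2
    rw [b1, ← zpow_mul, mul_comm, ← a2] at b2
    have c1 : V ⟨_, w0⟩ = V ⟨x, hx⟩ := by
      have : (⟨_, w0⟩ : T) = ⟨x0, hz⟩ * ⟨x, hx⟩ * (⟨x0, hz⟩ : T)⁻¹ := rfl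
      rw [this, map_mul, map_mul, map_inv, hP.isMulCommutative.is_comm.comm (V ⟨x0, hz⟩)]
      simp
    have := (hO (⟨_, n _ h1 _ (n _ h2 _ w1)⟩ * (⟨x, hx⟩ : T)⁻¹)).2 (by
      rw [map_mul, map_inv, b2, c1, mul_inv_cancel])
    convert this using 1
    simp only [Subgroup.coe_mul, Subgroup.coe_inv, hx0]
    group

/-- a group with a unique involution and an involutory automorphism with small centraliser -/
structure GH (T : Subgroup G) (s u : G) : Prop where
  sT : s ∈ T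
  s2 : s * s = 1
  s1 : s ≠ 1
  uniq : ∀ x ∈ T, x * x = 1 → x = 1 ∨ x = s
  u2 : u * u = 1
  un : u ∈ Subgroup.normalizer (T : Set G)
  uC : ∀ x ∈ T, u * x = x * u → x = 1 ∨ x = s

namespace GH

variable {T : Subgroup G} {s u : G}

omit [Finite G] in
theorem cen (H : GH T s u) {g : G} (hg : g ∈ Subgroup.normalizer (T : Set G)) : g * s = s * g := by
  have := H.uniq _ ((Subgroup.mem_normalizer_iff.1 hg s).1 H.sT) (Iv.conj ⟨H.s2, H.s1⟩ g).1
  exact mul_inv_eq_iff_eq_mul.1 (this.resolve_left (Iv.conj ⟨H.s2, H.s1⟩ g).2)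

theorem two_dvd (H : GH T s u) : 2 ∣ Nat.card T := by
  haveI : Fact (Nat.Prime 2) := ⟨Nat.prime_two⟩
  have := T.orderOf_dvd_natCard H.sT
  rwa [orderOf_eq_prime (by rw [sq]; exact H.s2) H.s1] at this

theorem cyc (H : GH T s u) (X2 : Finset G) (hX : ∀ z ∈ X2, z * z = 1 ∧ u * z ∈ T)
    (hc : Nat.card T < 2 * X2.card) (P0 : Sylow 2 T) : IsCyclic P0 := by
  classical
  have ui : u⁻¹ = u := inv_eq_of_mul_eq_one_right H.u2
  have n : ∀ x ∈ T, u * x * u⁻¹ ∈ T := fun x hx => (Subgroup.mem_normalizer_iff.1 H.un x).1 hx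
  let T1 : Subgroup G :=
    { carrier := {g | g ∈ T ∨ g * u⁻¹ ∈ T}
      one_mem' := Or.inl T.one_mem
      mul_mem' := by
        rintro a b (ha | ha) (hb | hb)
        · exact Or.inl (T.mul_mem ha hb)
        · exact Or.inr (by rw [mul_assoc]; exact T.mul_mem ha hb)
        · exact Or.inr (by convert T.mul_mem ha (n _ hb) using 1; group)
        · refine Or.inl ?_
          convert T.mul_mem ha (n _ hb) using 1
          calc a * b = a * b * (u * u)⁻¹ := by rw [H.u2]; simp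
            _ = _ := by group
      inv_mem' := by
        rintro a (ha | ha)
        · exact Or.inl (T.inv_mem ha)
        · refine Or.inr ?_
          convert n _ (T.inv_mem ha) using 1
          calc a⁻¹ * u⁻¹ = (u * u) * a⁻¹ * u⁻¹ := by rw [H.u2]; simp
            _ = _ := by group }
  have hXT : ∀ z ∈ X2, z ∈ T1 := fun z hz => Or.inr (by
    convert n _ (hX z hz).2 using 1
    calc z * u⁻¹ = (u * u) * z * u⁻¹ := by rw [H.u2]; simp
      _ = _ := by group)
  have c1 := cls T u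
  have c2 : 2 ≤ Nat.card ↥(T ⊓ Subgroup.centralizer {u}) :=
    two_le_card (s := s) ⟨H.sT, mem_cen.2 (H.cen H.un)⟩ H.s1
  obtain ⟨u', hu', hu''⟩ := Finset.exists_mem_notMem_of_card_lt_card
    (s := fin (fun w => ∃ g ∈ T, g * u * g⁻¹ = w)) (t := X2) (by nlinarith)
  obtain ⟨P, p1, p2, p3, p4⟩ := syl2 T T1 (σ := u) (Or.inr (by simp)) (n := 1)
    (by simpa [sq] using H.u2) (fun g hg => hg)
  obtain ⟨m, hm, hm'⟩ := p4 (Subgroup.zpowers u') (Subgroup.zpowers_le.2 (hXT _ hu'))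
    (isP_zpowers (n := 1) (by simpa [sq] using (hX _ hu').1))
  have hv := hm' u' (Subgroup.mem_zpowers _)
  have c3 := cls (P ⊓ T) u
  have c4 : Nat.card ↥(P ⊓ T ⊓ Subgroup.centralizer {u}) ≤ 2 :=
    card_le_two (s := s) (fun x hx => H.uC x hx.1.2 (mem_cen.1 hx.2))
  have hnot : m⁻¹ * u' * m ∉ fin (fun w => ∃ g ∈ P ⊓ T, g * u * g⁻¹ = w) := by
    intro e
    rw [mem_fin] at e
    obtain ⟨g, hg, e⟩ := e
    exact hu'' (mem_fin.2 ⟨m * g, T.mul_mem hm hg.2, by
      rw [cj_mul, e]; group⟩)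
  have hR : IsCyclic ↥(P ⊓ T) := by
    refine cyc_of_half (P ⊓ T) (p1.to_le inf_le_left) (s := s) (u := u)
      (fun x hx => H.uniq x hx.2) (fun x hx => H.uC x hx.2)
      ((insert (m⁻¹ * u' * m) (fin (fun w => ∃ g ∈ P ⊓ T, g * u * g⁻¹ = w))).image (u * ·))
      (fun x hx => ?_) ?_
    · obtain ⟨z, hz, rfl⟩ := Finset.mem_image.1 hx
      suffices h : z ∈ P ∧ u * z ∈ T ∧ z * z = 1 by
        refine ⟨⟨P.mul_mem p3 h.1, h.2.1⟩, ?_⟩
        rw [← mul_assoc, H.u2, one_mul, mul_inv_rev, inv_eq_of_mul_eq_one_right h.2.2]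
      rcases Finset.mem_insert.1 hz with rfl | hz
      · refine ⟨hv, ?_, ?_⟩
        · convert T.mul_mem (T.mul_mem (n _ (T.inv_mem hm)) (hX _ hu').2) hm using 1
          group
        · calc _ = m⁻¹ * (u' * u') * m := by group
            _ = 1 := by rw [(hX _ hu').1]; group
      · rw [mem_fin] at hz
        obtain ⟨g, hg, rfl⟩ := hz
        refine ⟨P.mul_mem (P.mul_mem hg.1 p3) (P.inv_mem hg.1), ?_, ?_⟩
        · convert T.mul_mem (n _ hg.2) (T.inv_mem hg.2) using 1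
          rw [ui]; group
        · calc _ = g * (u * u) * g⁻¹ := by group
            _ = 1 := by rw [H.u2]; group
    · rw [Finset.card_image_of_injective _ (mul_right_injective u),
        Finset.card_insert_of_notMem hnot]
      nlinarith
  obtain ⟨m', hm1, hm2⟩ := p4 ((P0 : Subgroup T).map T.subtype)
    (fun x hx => Or.inl (Subgroup.map_subtype_le _ hx)) (P0.2.map _)
  let φ : P0 →* ↥(P ⊓ T) := MonoidHom.codRestrict
    ((MulAut.conj m'⁻¹).toMonoidHom.comp (T.subtype.comp (P0 : Subgroup T).subtype)) (P ⊓ T)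
    (fun x => ⟨by simpa using hm2 _ ⟨x, x.2, rfl⟩, by
      simpa using T.mul_mem (T.mul_mem (T.inv_mem hm1) (x : T).2) hm1⟩)
  exact isCyclic_of_injective φ (fun x y e => by
    have := congrArg Subtype.val e
    simpa [φ] using this)

theorem main (H : GH T s u) {s0 : G} (h0 : s0 ∈ Subgroup.normalizer (T : Set G))
    (X2 Y1 : Finset G) (hX : ∀ z ∈ X2, z * z = 1 ∧ u * z ∈ T)
    (hXc : ∀ z ∈ X2, ∀ x ∈ T, x * z * x⁻¹ ∈ X2)
    (hY : ∀ z ∈ Y1, z * z = 1 ∧ (s0 * u * s0⁻¹ * u⁻¹)⁻¹ * z ∈ T) :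
    ((2 * X2.card ≤ Nat.card T ∨ Nat.card T ≤ X2.card) ∧ (∀ z ∈ Y1, ∀ x ∈ T, z * x = x * z) ∧
      Y1.card ≤ 2) ∨
    ((∃ x ∈ T, ∃ y ∈ T, x * y ≠ y * x) ∧ Nat.card T ≠ 4 ∧
      ((2 * X2.card ≤ Nat.card T ∧ 4 * Y1.card ≤ 3 * Nat.card T) ∨
      ∃ j o, Nat.card T = 2 ^ (j + 2) * o ∧ Odd o ∧ 3 * X2.card ≤ 2 * Nat.card T ∧
        Y1.card ≤ 2 * o)) := by
  classical
  haveI : Fact (Nat.Prime 2) := ⟨Nat.prime_two⟩
  obtain ⟨P0⟩ : Nonempty (Sylow 2 T) := inferInstance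
  have ui : u⁻¹ = u := inv_eq_of_mul_eq_one_right H.u2
  have n : ∀ g ∈ Subgroup.normalizer (T : Set G), ∀ x ∈ T, g * x * g⁻¹ ∈ T :=
    fun g hg x hx => (Subgroup.mem_normalizer_iff.1 hg x).1 hx
  have tpos : 0 < Nat.card T := Nat.card_pos
  have sc : ∀ x ∈ T, x * s = s * x := fun x hx => H.cen (Subgroup.le_normalizer hx)
  -- differences of elements of `Y1`
  have hYY : ∀ z ∈ Y1, ∀ z' ∈ Y1, z * z' ∈ T ∧ z * (z * z') * z⁻¹ = (z * z')⁻¹ := by
    intro z hz z' hz'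
    have zi := inv_eq_of_mul_eq_one_right (hY z hz).1
    refine ⟨?_, ?_⟩
    · convert T.mul_mem (T.inv_mem (hY z hz).2) (hY z' hz').2 using 1
      nth_rewrite 1 [← zi]; group
    · rw [← mul_assoc, (hY z hz).1, one_mul, mul_inv_rev,
        inv_eq_of_mul_eq_one_right (hY z' hz').1]
  have hYc : ∀ (S : Finset G), (∀ z ∈ Y1, ∀ z' ∈ Y1, z * z' ∈ S) → Y1.card ≤ S.card := by
    intro S hS
    rcases Y1.eq_empty_or_nonempty with rfl | ⟨z, hz⟩
    · simp
    exact Finset.card_le_card_of_injOn (z * ·) (fun z' hz' => hS z hz z' hz')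
      (fun _ _ _ _ e => mul_left_cancel e)
  -- the odd part is inverted by `u`
  have oinv : ∀ O : Subgroup G, O ≤ T → Odd (Nat.card O) →
      (∀ x ∈ T, ∀ m, Odd m → x ^ m = 1 → x ∈ O) →
      (∀ g ∈ Subgroup.normalizer (T : Set G), ∀ x ∈ O, g * x * g⁻¹ ∈ O) ∧
      (∀ x ∈ O, u * x * u⁻¹ = x⁻¹) ∧ s ∉ O := by
    intro O h1 h2 h3
    have pw : ∀ x ∈ O, x ^ Nat.card O = 1 := fun x hx =>
      congrArg Subtype.val (pow_card_eq_one' (x := (⟨x, hx⟩ : O)))
    have a1 : ∀ g ∈ Subgroup.normalizer (T : Set G), ∀ x ∈ O, g * x * g⁻¹ ∈ O :=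
      fun g hg x hx => h3 _ (n g hg x (h1 hx)) _ h2 (by rw [conj_pow, pw x hx]; group)
    have a2 : s ∉ O := fun e => H.s1 (eq_one_of_odd h2 (pw s e) H.s2)
    exact ⟨a1, fun x hx => H81.conj_eq_inv_of_fpf (N := O)
      (Subgroup.mem_normalizer_fintype (a1 u H.un)) H.u2
      (fun z hz e => (H.uC z (h1 hz) e).resolve_right (fun e => a2 (e ▸ hz))) hx, a2⟩
  by_cases hcomm : ∀ x ∈ T, ∀ y ∈ T, x * y = y * x
  · left
    have hcyc : IsCyclic P0 := by
      have := (cyc_or ((P0 : Subgroup T).map T.subtype) (P0.2.map _) (s := s)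
        (fun x hx => H.uniq x (Subgroup.map_subtype_le _ hx))).resolve_right (by
          rintro ⟨-, ⟨x, hx, y, hy, e⟩, -⟩
          exact e (hcomm x (Subgroup.map_subtype_le _ hx) y (Subgroup.map_subtype_le _ hy)))
      exact isCyclic_of_surjective _
        (Subgroup.equivMapOfInjective _ _ T.subtype_injective).symm.surjective
    obtain ⟨O, j, r, o1, o2, o3, o4, -, -, o5⟩ := exists_odd_part T H.two_dvd P0 hcyc
    obtain ⟨i1, i2, -⟩ := oinv O o1 o2 o4
    have key : ∀ z ∈ Y1, ∀ x ∈ T, z * x = x * z := by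
      intro z hz x hx
      have hz0 := (hY z hz).2
      have zO : ∀ y ∈ O, z * y * z⁻¹ = y := by
        intro y hy
        set x0 := (s0 * u * s0⁻¹ * u⁻¹)⁻¹ * z with hx0
        have e1 : x0 * y * x0⁻¹ = y := by rw [hcomm x0 hz0 y (o1 hy)]; group
        have e2 := i2 _ (i1 _ (Subgroup.inv_mem _ h0) _ (O.inv_mem hy))
        have e3 : u⁻¹ * y * u⁻¹⁻¹ = y⁻¹ := by rw [inv_inv, ← i2 y hy, ui]
        calc z * y * z⁻¹ = s0 * (u * (s0⁻¹ * (u⁻¹ * (x0 * y * x0⁻¹) * u⁻¹⁻¹) * s0⁻¹⁻¹) * u⁻¹) *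
              s0⁻¹ := by rw [hx0]; group
          _ = y := by rw [e1, e3, e2]; group
      have hzn : z * x * z⁻¹ ∈ T := by
        have := T.mul_mem (o1 (o5 s0 h0 u H.un z hz0 x hx)) hx
        simpa using this
      have y1 := o5 s0 h0 u H.un z hz0 x hx
      have y2 : (z * x * z⁻¹ * x⁻¹) ^ 2 ^ j = 1 := by
        have : x ^ 2 ^ j ∈ O := o4 _ (T.pow_mem hx _) _ o2 (by
          rw [← pow_mul, ← o3]
          exact congrArg Subtype.val (pow_card_eq_one' (x := (⟨x, hx⟩ : T))))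
        rw [Commute.mul_pow (hcomm _ hzn _ (T.inv_mem hx)), conj_pow, zO _ this, inv_pow,
          mul_inv_cancel]
      have y3 : (z * x * z⁻¹ * x⁻¹) ^ Nat.card O = 1 :=
        congrArg Subtype.val (pow_card_eq_one' (x := (⟨_, y1⟩ : O)))
      have := pow_gcd_eq_one.2 ⟨y3, y2⟩
      rw [Nat.Coprime.gcd_eq_one (Nat.Coprime.pow_right _ o2.coprime_two_right), pow_one,
        mul_inv_eq_one, mul_inv_eq_iff_eq_mul] at this
      exact this
    refine ⟨?_, key, (hYc {1, s} (fun z hz z' hz' => ?_)).trans Finset.card_le_two⟩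
    · by_contra hcon
      push Not at hcon
      have cl : ∀ z ∈ X2, Nat.card T ≤ 2 * (fin (fun w => ∃ g ∈ T, g * z * g⁻¹ = w)).card ∧
          2 * (fin (fun w => ∃ g ∈ T, g * z * g⁻¹ = w)).card ≤ Nat.card T ∧
          fin (fun w => ∃ g ∈ T, g * z * g⁻¹ = w) ⊆ X2 := by
        intro z hz
        have c1 := cls T z
        have zz : z = u * (u * z) := by rw [← mul_assoc, H.u2, one_mul]
        have c2 : Nat.card ↥(T ⊓ Subgroup.centralizer {z}) ≤ 2 :=
          card_le_two (s := s) (fun x hx => H.uC x hx.1 (by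
            have e1 := mem_cen.1 hx.2
            rw [zz, mul_assoc, hcomm _ (hX z hz).2 x hx.1, ← mul_assoc, ← mul_assoc x] at e1
            exact mul_right_cancel e1))
        have c3 : 2 ≤ Nat.card ↥(T ⊓ Subgroup.centralizer {z}) :=
          two_le_card (s := s) ⟨H.sT, mem_cen.2 (by
            rw [zz, mul_assoc, sc _ (hX z hz).2, ← mul_assoc, H.cen H.un, mul_assoc])⟩ H.s1
        refine ⟨by nlinarith, by nlinarith, fun w hw => ?_⟩
        rw [mem_fin] at hw
        obtain ⟨g, hg, rfl⟩ := hw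
        exact hXc z hz g hg
      obtain ⟨z, hz⟩ : X2.Nonempty := Finset.card_pos.1 (by omega)
      obtain ⟨a1, a2, a3⟩ := cl z hz
      obtain ⟨z', hz', hn⟩ := Finset.exists_mem_notMem_of_card_lt_card
        (s := fin (fun w => ∃ g ∈ T, g * z * g⁻¹ = w)) (t := X2) (by omega)
      obtain ⟨b1, -, b3⟩ := cl z' hz'
      have := Finset.card_le_card (Finset.union_subset a3 b3)
      rw [Finset.card_union_of_disjoint (by
        rw [Finset.disjoint_left]
        intro w h1 h2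
        rw [mem_fin] at h1 h2
        obtain ⟨g, hg, rfl⟩ := h1
        obtain ⟨g', hg', e⟩ := h2
        exact hn (mem_fin.2 ⟨g'⁻¹ * g, T.mul_mem (T.inv_mem hg') hg, by
          rw [cj_mul, ← e]; group⟩))] at this
      omega
    · obtain ⟨h1, h2⟩ := hYY z hz z' hz'
      rw [key z hz _ h1, mul_inv_cancel_right] at h2
      simpa using H.uniq _ h1 (by nth_rewrite 1 [h2]; exact inv_mul_cancel _)
  right
  have hnc := hcomm
  push Not at hnc
  refine ⟨hnc, fun h4 => hcomm (fun x hx y hy => ?_), ?_⟩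
  · by_cases h1 : x = 1 ∨ x = s
    · rcases h1 with rfl | rfl
      · simp
      · exact (sc y hy).symm
    push Not at h1
    refine mem_cen.1 (le_of_half T (Subgroup.centralizer {x}) {1, s, x} (fun a ha => ?_) ?_ hy)
    · simp only [Finset.mem_insert, Finset.mem_singleton] at ha
      rcases ha with rfl | rfl | rfl
      · exact ⟨Subgroup.one_mem _, T.one_mem⟩
      · exact ⟨mem_cen.2 (sc x hx), H.sT⟩
      · exact ⟨mem_cen.2 rfl, hx⟩
    · rw [Finset.card_eq_three.2 ⟨_, _, _, H.s1.symm, h1.1.symm, h1.2.symm, rfl⟩, h4]; omega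
  by_cases hx2 : 2 * X2.card ≤ Nat.card T
  · left
    refine ⟨hx2, ?_⟩
    by_contra hcon
    obtain ⟨z, hz⟩ : Y1.Nonempty := Finset.card_pos.1 (by omega)
    refine hcomm (comm_of_inv34 T z (Y1.image (z * ·)) (fun a ha => ?_) ?_)
    · obtain ⟨z', hz', rfl⟩ := Finset.mem_image.1 ha
      exact hYY z hz z' hz'
    · rw [Finset.card_image_of_injective _ (mul_right_injective z)]; omega
  right
  obtain ⟨O, j, r, o1, o2, o3, o4, o6, o7, o5⟩ :=
    exists_odd_part T H.two_dvd P0 (H.cyc X2 hX (by omega) P0)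
  obtain ⟨i1, i2, i3⟩ := oinv O o1 o2 o4
  have opos : 0 < Nat.card O := Nat.card_pos
  have oc : ∀ x ∈ O, ∀ y ∈ O, x * y = y * x := by
    intro x hx y hy
    have : (x * y)⁻¹ = (y * x)⁻¹ := by
      rw [← i2 _ (O.mul_mem hx hy), mul_inv_rev, ← i2 x hx, ← i2 y hy]; group
    exact inv_injective this
  set C := T ⊓ Subgroup.centralizer (O : Set G) with hC
  have mC : ∀ x, x ∈ C ↔ x ∈ T ∧ ∀ y ∈ O, y * x = x * y := fun x => Iff.rfl
  have OC : O ≤ C := fun x hx => (mC x).2 ⟨o1 hx, fun y hy => oc y hy x hx⟩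
  have half : ∀ J : Finset G, (∀ a ∈ J, a ∈ C) → 2 * J.card ≤ Nat.card T := by
    intro J hJ
    by_contra hcon
    have hle := le_of_half T C J (fun a ha => ⟨hJ a ha, (hJ a ha).1⟩) (by omega)
    refine hcomm (fun x hx y hy => ?_)
    obtain ⟨i, hi⟩ := o7 x hx
    obtain ⟨i', hi'⟩ := o7 y hy
    have e1 := ((mC _).1 (hle hy)).2 _ hi
    have e2 := ((mC _).1 (hle (T.zpow_mem o6 i))).2 _ hi'
    have e3 : r ^ i * y = y * r ^ i := by
      calc r ^ i * y = r ^ i * (y * (r ^ i')⁻¹) * r ^ i' := by group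
        _ = _ := by rw [← e2]; group
    calc x * y = (x * (r ^ i)⁻¹) * (r ^ i * y) := by group
      _ = ((x * (r ^ i)⁻¹) * y) * r ^ i := by rw [e3]; group
      _ = _ := by rw [e1]; group
  have hj : 2 ≤ j := by
    have := half (insert s (fin (· ∈ O))) (fun a ha => by
      rcases Finset.mem_insert.1 ha with rfl | ha
      · exact (mC _).2 ⟨H.sT, fun y hy => sc y (o1 hy)⟩
      · exact OC (mem_fin.1 ha))
    rw [Finset.card_insert_of_notMem (by simpa using i3), card_fin_sub, o3] at this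
    rcases j with _ | _ | j <;> omega
  obtain ⟨j, rfl⟩ : ∃ j', j = j' + 2 := ⟨j - 2, by omega⟩
  refine ⟨j, _, o3, o2, ?_, ?_⟩
  · set I := X2.image (u * ·) with hI
    have mI : ∀ x ∈ I, x ∈ T ∧ u * x * u⁻¹ = x⁻¹ := by
      intro x hx
      obtain ⟨z, hz, rfl⟩ := Finset.mem_image.1 hx
      refine ⟨(hX z hz).2, ?_⟩
      rw [← mul_assoc, H.u2, one_mul, mul_inv_rev, inv_eq_of_mul_eq_one_right (hX z hz).1]
    have cI : I.card = X2.card := Finset.card_image_of_injective _ (mul_right_injective u)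
    have d1 := Finset.card_mul_le_card_mul (s := I.filter (· ∉ C))
      (t := fin (· ∈ T) \ fin (· ∈ C)) (m := Nat.card O) (n := Nat.card O / 3)
      (fun x z => x⁻¹ * z ∈ O) (by
        intro x hx
        rw [Finset.mem_filter] at hx
        rw [← card_fin_sub]
        refine Finset.card_le_card_of_injOn (x * ·) (fun y hy => ?_)
          (fun _ _ _ _ e => mul_left_cancel e)
        have hy : y ∈ O := mem_fin.1 hy
        simp only [Finset.coe_bipartiteAbove, Finset.coe_sdiff, Set.mem_setOf_eq, Set.mem_diff,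
          Finset.mem_coe, mem_fin, Finset.mem_sdiff]
        exact ⟨⟨T.mul_mem (mI x hx.1).1 (o1 hy), fun e => hx.2 (by
          simpa using C.mul_mem e (C.inv_mem (OC hy)))⟩, by simpa using hy⟩) (by
        intro z _
        rcases ((I.filter (· ∉ C)).bipartiteBelow (fun x z => x⁻¹ * z ∈ O) z).eq_empty_or_nonempty
          with e | ⟨x0, hx0⟩
        · rw [e]; simp
        simp only [Finset.mem_bipartiteBelow, Finset.mem_filter] at hx0
        have d2 : ((I.filter (· ∉ C)).bipartiteBelow (fun x z => x⁻¹ * z ∈ O) z).card ≤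
            Nat.card ↥(O ⊓ Subgroup.centralizer {x0}) := by
          rw [← card_fin_sub]
          refine Finset.card_le_card_of_injOn (x0⁻¹ * ·) (fun x hx => ?_)
            (fun _ _ _ _ e => mul_left_cancel e)
          simp only [Finset.mem_coe, Finset.mem_bipartiteBelow, Finset.mem_filter] at hx
          have hy : x0⁻¹ * x ∈ O := by
            simpa [mul_assoc] using O.mul_mem hx0.2 (O.inv_mem hx.2)
          refine mem_fin.2 ⟨hy, mem_cen.2 ?_⟩
          have e1 := i2 _ hy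
          have e2 : u * (x0⁻¹ * x) * u⁻¹ = (u * x0 * u⁻¹)⁻¹ * (u * x * u⁻¹) := by group
          rw [e1, (mI x0 hx0.1.1).2, (mI x hx.1.1).2] at e2
          have e3 : x0 * x = x * x0 := by
            calc x0 * x = x * (x0⁻¹ * x)⁻¹ * x := by group
              _ = x * x0 := by rw [e2]; group
          rw [mul_inv_cancel_left, mul_assoc, ← e3, inv_mul_cancel_left]
        refine d2.trans ((Nat.le_div_iff_mul_le (by norm_num)).2 ?_)
        obtain ⟨m, hm⟩ : Nat.card ↥(O ⊓ Subgroup.centralizer {x0}) ∣ Nat.card O :=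
          Subgroup.card_dvd_of_le inf_le_left
        have m1 : m ≠ 1 := by
          rintro rfl
          have : O ⊓ Subgroup.centralizer {x0} = O :=
            Subgroup.eq_of_le_of_card_ge inf_le_left (by rw [hm]; simp)
          exact hx0.1.2 ((mC _).2 ⟨(mI x0 hx0.1.1).1, fun y hy =>
            (mem_cen.1 (this.ge hy).2).symm⟩)
        have m2 : Odd m := (Nat.odd_mul.1 (hm ▸ o2)).2
        obtain ⟨i, hi⟩ := m2
        rw [hm]
        exact Nat.mul_le_mul_left _ (by omega))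
    have d3 := Finset.card_sdiff_add_card_eq_card (s := fin (· ∈ C)) (t := fin (· ∈ T))
      (fun x hx => mem_fin.2 (mem_fin.1 hx).1)
    have d4 := half (fin (· ∈ C)) (fun a ha => mem_fin.1 ha)
    have d5 := Finset.card_filter_add_card_filter_not (s := I) (· ∈ C)
    have d6 : (I.filter (· ∈ C)).card ≤ (fin (· ∈ C)).card :=
      Finset.card_le_card (fun x hx => mem_fin.2 (Finset.mem_filter.1 hx).2)
    have d7 : 3 * (I.filter (· ∉ C)).card ≤ (fin (· ∈ T) \ fin (· ∈ C)).card := by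
      refine Nat.le_of_mul_le_mul_right ?_ opos
      have := Nat.div_mul_le_self (Nat.card O) 3
      nlinarith
    rw [card_fin_sub T] at d3
    omega
  · refine (hYc (fin (· ∈ O) ∪ (fin (· ∈ O)).image (· * s)) (fun z hz z' hz' => ?_)).trans ?_
    · obtain ⟨h1, h2⟩ := hYY z hz z' hz'
      have h3 := o5 s0 h0 u H.un z (hY z hz).2 _ h1
      set x := z * z' with hx
      rw [h2] at h3
      have h4 : x ^ Nat.card O * x ^ Nat.card O = 1 := by
        have : (x⁻¹ * x⁻¹) ^ Nat.card O = 1 :=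
          congrArg Subtype.val (pow_card_eq_one' (x := (⟨_, h3⟩ : O)))
        rw [← mul_inv_rev, inv_pow, inv_eq_one, ← sq, ← pow_mul, mul_comm, pow_mul, sq] at this
        exact this
      rcases H.uniq _ (T.pow_mem h1 _) h4 with e | e
      · exact Finset.mem_union_left _ (mem_fin.2 (o4 x h1 _ o2 e))
      · refine Finset.mem_union_right _ (Finset.mem_image.2 ⟨x * s, mem_fin.2
          (o4 _ (T.mul_mem h1 H.sT) _ o2 ?_), by rw [mul_assoc, H.s2, mul_one]⟩)
        obtain ⟨i, hi⟩ := o2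
        rw [Commute.mul_pow (sc x h1), e, hi, pow_succ, pow_mul, sq, H.s2, one_pow, one_mul, H.s2]
    · refine (Finset.card_union_le _ _).trans ?_
      have := Finset.card_image_le (s := fin (· ∈ O)) (f := (· * s))
      rw [card_fin_sub] at this ⊢
      omega

end GH

end Cfsg.Agent.H76.Rk
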