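/-
Rank 3 Frobenius problem: semiregular kernel, the geometry of the involutions.
-/
import Cfsg.Agent.H76.RkH

set_option autoImplicit false

namespace Cfsg.Agent.H76.Rk

open Finset MulAction

variable {G X : Type*} [Group G] [MulAction G X] {adj : X → X → Prop}

variable (G) in
/-- complement of even order, semiregular kernel -/
structure RT [Fintype X] (adj : X → X → Prop) (K : X → Subgroup G) (k h t l : ℕ) : Prop
    extends RN G adj K k h t l where
  hh : Even h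
  U : ∀ {a c : X} {u : G}, u ∈ K a → u • c = c → c ≠ a → u = 1

variable (G) in
/-- the setwise stabiliser of two points -/
def SW (a b : X) : Subgroup G where
  carrier := {g | (g • a = a ∧ g • b = b) ∨ (g • a = b ∧ g • b = a)}
  one_mem' := Or.inl ⟨one_smul _ _, one_smul _ _⟩
  mul_mem' := by
    rintro x y (⟨h1, h2⟩ | ⟨h1, h2⟩) (⟨h3, h4⟩ | ⟨h3, h4⟩) <;> simp [mul_smul, h1, h2, h3, h4]
  inv_mem' := by
    rintro x (⟨h1, h2⟩ | ⟨h1, h2⟩) <;> simp [inv_smul_eq_iff, h1, h2]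

theorem comm_fix {s x : G} {w : X} (hc : x * s = s * x) (hw : s • w = w) : s • x • w = x • w := by
  rw [← mul_smul, ← hc, mul_smul, hw]

theorem cj_fix (g : G) {s : G} {w : X} (hw : s • w = w) : (g * s * g⁻¹) • g • w = g • w := by
  simp [mul_smul, hw]

theorem exists_two_part [Finite G] (g : G) : ∃ j n, (g ^ (2 * j + 1)) ^ 2 ^ n = 1 := by
  obtain ⟨n, m, ⟨j, hj⟩, e⟩ := Nat.exists_eq_two_pow_mul_odd (orderOf_pos g).ne'
  exact ⟨j, n, by rw [← pow_mul, ← hj, mul_comm, ← e, pow_orderOf_eq_one]⟩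

namespace RT

variable [Finite G] [Fintype X] {K : X → Subgroup G} {k h t l : ℕ}

theorem line (R : RT G adj K k h t l) (ht : Even t) {a y : X} (hne : a ≠ y) :
    ∃ s : G, Iv s ∧ s • a = a ∧ s • y = y := by
  by_cases e : adj a y
  · exact R.ex_inv R.hh e
  · obtain ⟨s, hs, h1⟩ := exists_Iv (S2 G a y) (by rw [R.card_T hne e]; exact ht.two_dvd)
    exact ⟨s, h1, hs.1, hs.2⟩

theorem luniq (R : RT G adj K k h t l) {a y : X} (hne : a ≠ y) {s s' : G} (hs : Iv s) (hs' : Iv s')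
    (ha : s • a = a) (ha' : s' • a = a) (hy : s • y = y) (hy' : s' • y = y) : s = s' := by
  have := R.U (R.inv_mul R.hh hs hs' ha ha') (by rw [mul_smul, hy', hy]) hne.symm
  rw [← hs.inv]; exact inv_eq_of_mul_eq_one_right this

theorem lcen (R : RT G adj K k h t l) {a y : X} (hne : a ≠ y) {s x : G} (hs : Iv s)
    (ha : s • a = a) (hy : s • y = y) (ha' : s • x • a = x • a) (hy' : s • x • y = x • y) :
    x * s = s * x :=
  mul_inv_eq_iff_eq_mul.1 (R.luniq (fun e => hne (smul_left_cancel x e)) (hs.conj x) hs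
    (cj_fix x ha) ha' (cj_fix x hy) hy')

theorem free3 (R : RT G adj K k h t l) (ht : Even t) {a y Y : X} (hne : a ≠ y) {s x : G}
    (hs : Iv s) (ha : s • a = a) (hy : s • y = y) (hY : s • Y ≠ Y) (xa : x • a = a)
    (xy : x • y = y) (xY : x • Y = Y) : x = 1 := by
  have hne' : a ≠ Y := by rintro rfl; exact hY ha
  obtain ⟨s', hs', ha', hY'⟩ := R.line ht hne'
  have c1 := R.lcen hne (x := x) hs ha hy (by rw [xa, ha]) (by rw [xy, hy])
  have c2 := R.lcen hne' (x := x) hs' ha' hY' (by rw [xa, ha']) (by rw [xY, hY'])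
  refine R.U (R.cen_K (R.inv_mul R.hh hs hs' ha ha') (fun e => hY ?_) xa ?_) xy hne.symm
  · rw [← hs.inv, inv_eq_of_mul_eq_one_right e, hY']
  · rw [← mul_assoc, c1, mul_assoc, c2, mul_assoc]

theorem mid_inv (R : RT G adj K k h t l) {Y a y : X} (ha : adj Y a) (hy : adj Y y) (hne : a ≠ y) :
    ∃ u : G, Iv u ∧ u • Y = Y ∧ u • a = y := by
  obtain ⟨κ, hκ, e⟩ := R.K_trans ha hy
  obtain ⟨s, hs, h1, h2⟩ := R.ex_inv R.hh ha
  have e2 : (κ * s) • a = y := by rw [mul_smul, h2, e]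
  refine ⟨κ * s, ⟨?_, fun e1 => hne (by rw [← e2, e1, one_smul])⟩,
    by rw [mul_smul, h1, R.K_fix hκ], e2⟩
  calc κ * s * (κ * s) = κ * (s * κ * s⁻¹) := by rw [hs.inv]; group
    _ = 1 := by rw [R.inverts R.hh hs h1 hκ, mul_inv_cancel]

omit [Finite G] in
theorem nadj_Z (R : RT G adj K k h t l) {a b y : X} (hab : adj a b) {s : G} (hs : Iv s)
    (ha : s • a = a) (hb : s • b = b) (hy : s • y = y) (hyb : y ≠ b) : ¬ adj a y :=
  fun e => hyb (R.nb_unique hs.2 ha e hab hy hb)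

theorem Z_trans (R : RT G adj K k h t l) {a b y y' : X} (hab : adj a b) {s : G} (hs : Iv s)
    (ha : s • a = a) (hb : s • b = b) (hy : s • y = y) (hya : y ≠ a) (hyb : y ≠ b)
    (hy' : s • y' = y') (hya' : y' ≠ a) (hyb' : y' ≠ b) :
    ∃ g : G, g • a = a ∧ g • b = b ∧ g • y = y' := by
  obtain ⟨g, g1, g2⟩ := R.non hya.symm (R.nadj_Z hab hs ha hb hy hyb) hya'.symm
    (R.nadj_Z hab hs ha hb hy' hyb')
  exact ⟨g, g1, R.fix_of_comm hab hs.2 ha hb g1
    (R.lcen hya.symm hs ha hy (by rw [g1, ha]) (by rw [g2, hy'])), g2⟩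

theorem card_fx (R : RT G adj K k h t l) (ht : Even t) {s : G} (hs : IC X s) :
    ∃ e, (fx (X := X) s).card = e + 2 ∧ e * t = h ∧ l = k * e := by
  classical
  obtain ⟨a, -⟩ := hs.2
  obtain ⟨y, hya, hn⟩ := R.exn a
  obtain ⟨s', hs', ha, hy⟩ := R.line ht hya.symm
  obtain ⟨g, rfl⟩ := R.IC_conj R.hh ⟨hs', a, ha⟩ hs
  rw [fx_conj]
  obtain ⟨b, hab, hb⟩ := R.partner R.hh hs' ha
  have hyb : y ≠ b := by rintro rfl; exact hn hab
  have := orb (S2 G a b) (S2 G a y) (fun (g : G) (x : X) => g • x) (one_smul G)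
    (fun g g' y => mul_smul g g' y) y (fun g => ⟨fun hg => ⟨⟨hg.1, R.fix_of_comm hab hs'.2 ha hb hg.1
      (R.lcen hya.symm hs' ha hy (by rw [hg.1, ha]) (by rw [hg.2, hy]))⟩, hg.2⟩,
      fun hg => ⟨hg.1.1, hg.2⟩⟩) (fx s' \ {a, b}) (fun z => by
      simp only [Finset.mem_sdiff, mem_fx, Finset.mem_insert, Finset.mem_singleton, not_or]
      constructor
      · rintro ⟨h1, h2, h3⟩
        obtain ⟨g, g1, g2, g3⟩ := R.Z_trans hab hs' ha hb hy hya hyb h1 h2 h3
        exact ⟨g, ⟨g1, g2⟩, g3⟩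
      · rintro ⟨g, hg, rfl⟩
        exact ⟨comm_fix (R.cen_edge R.hh hab hs' ha hb hg.1 hg.2) hy,
          fun e => hya (smul_left_cancel g (by rw [e, hg.1])),
          fun e => hyb (smul_left_cancel g (by rw [e, hg.2]))⟩)
  rw [R.card_T hya.symm hn, R.card_H hab] at this
  have h2 := Finset.card_sdiff_add_card_eq_card (s := {a, b}) (t := fx s') (by
    intro z hz
    simp only [Finset.mem_insert, Finset.mem_singleton] at hz
    rcases hz with rfl | rfl <;> simpa)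
  rw [Finset.card_pair (R.ne hab)] at h2
  refine ⟨_, h2.symm, this, Nat.eq_of_mul_eq_mul_right (R.t_pos a) ?_⟩
  rw [R.lt, ← this, mul_assoc]

theorem card_cen (R : RT G adj K k h t l) {s : G} (hs : IC X s) :
    Nat.card (Subgroup.centralizer ({s} : Set G)) = (fx (X := X) s).card * h := by
  obtain ⟨hs, a, ha⟩ := hs
  obtain ⟨b, hab, hb⟩ := R.partner R.hh hs ha
  have := orb (Subgroup.centralizer {s}) (S2 G a b) (fun (g : G) (x : X) => g • x) (one_smul G)
    (fun g g' y => mul_smul g g' y) a (fun g => ⟨fun hg => ⟨mem_cen.2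
      (R.cen_edge R.hh hab hs ha hb hg.1 hg.2).symm, hg.1⟩, fun hg =>
      ⟨hg.2, R.fix_of_comm hab hs.2 ha hb hg.2 (mem_cen.1 hg.1).symm⟩⟩) (fx s) (fun z => by
      rw [mem_fx]
      constructor
      · intro hz
        obtain ⟨z', h1, h2⟩ := R.partner R.hh hs hz
        obtain ⟨g, g1, g2⟩ := R.arc hab h1
        exact ⟨g, mem_cen.2 (R.lcen (R.ne hab) hs ha hb (by rw [g1, hz]) (by rw [g2, h2])).symm, g1⟩
      · rintro ⟨g, hg, rfl⟩
        exact comm_fix (mem_cen.1 hg).symm ha)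
  rw [← this, R.card_H hab]

theorem nofix (R : RT G adj K k h t l) {s u : G} (hs : Iv s) (hu : Iv u) (hc : u * s = s * u)
    (hne : u ≠ s) {w : X} (hw : s • w = w) : u • w ≠ w :=
  fun e => hne (R.inv_comm R.hh hu hs e hw hc)

theorem cH_dvd (R : RT G adj K k h t l) (ht : Even t) {a b : X} (hab : a ≠ b) {s u : G} (hs : Iv s)
    (ha : s • a = a) (hb : s • b = b) (hu : Iv u) (hc : u * s = s * u) (hne : u ≠ s) :
    Nat.card ↥(S2 G a b ⊓ Subgroup.centralizer {u}) ∣ (fx (X := X) u).card :=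
  semi _ (fun (g : G) (x : X) => g • x) (one_smul G) (fun g g' y => mul_smul g g' y) _
    (fun g hg y hy => mem_fx.2 (comm_fix (mem_cen.1 hg.2).symm (mem_fx.1 hy)))
    (fun g hg y hy e => R.free3 ht hab hs ha hb (R.nofix hu hs hc.symm hne.symm (mem_fx.1 hy))
      hg.1.1 hg.1.2 e)

theorem exists_U (R : RT G adj K k h t l) {a y : X} (hne : a ≠ y) (hn : ¬ adj a y) {s : G}
    (hs : Iv s) (ha : s • a = a) (hy : s • y = y) :
    ∃ u ∈ sw G a y, ∀ x ∈ S2 G a y, u * x = x * u → x = 1 ∨ x = s := by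
  obtain ⟨Y, h1, h2⟩ := R.mid hne hn
  obtain ⟨u, hu, uY, ua⟩ := R.mid_inv (R.symm h1) (R.symm h2) hne
  refine ⟨u, mem_sw.2 ⟨⟨hu, Y, uY⟩, ua⟩, fun x hx hc => ?_⟩
  by_cases e : x • Y = Y
  · exact Or.inl (R.frob x (R.symm h1) (R.symm h2) hne e hx.1 hx.2)
  right
  obtain ⟨v, hv, va, vY⟩ := R.mid_inv h1 (R.adj_of_fix hx.1 h1) (Ne.symm e)
  have uxY := comm_fix hc.symm uY
  have c1 := R.lcen (Ne.symm e) (x := v) hu uY uxY (by rw [vY, uxY])
    (by rw [← vY, hv.smul_smul, uY])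
  have vy : v • y = y := by rw [← ua, ← mul_smul, c1, mul_smul, va]
  obtain rfl := R.luniq hne hs hv ha va hy vy
  have := R.frob (x⁻¹ * s) (R.symm h1) (R.symm h2) hne (by rw [mul_smul, vY, inv_smul_smul])
    (by rw [mul_smul, ha, inv_smul_eq_iff, hx.1]) (by rw [mul_smul, hy, inv_smul_eq_iff, hx.2])
  exact inv_mul_eq_one.1 this

theorem card_E (R : RT G adj K k h t l) (ht : Even t) {s : G} (hs : IC X s) :
    (fin (fun u => IC X u ∧ u * s = s * u ∧ u ≠ s)).card * (fx (X := X) s).card +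
      (fx (X := X) s).card = Fintype.card X := by
  classical
  have h1 := Finset.card_mul_eq_card_mul (s := fin (fun u => IC X u ∧ u * s = s * u ∧ u ≠ s))
    (t := univ \ fx (X := X) s) (m := (fx (X := X) s).card) (n := 1) (fun u y => u • y = y) (by
      intro u hu
      rw [mem_fin] at hu
      obtain ⟨g, e⟩ := R.IC_conj R.hh hs hu.1
      rw [← fx_conj g s, e]
      congr 1; ext y
      simp only [Finset.mem_bipartiteAbove, Finset.mem_sdiff, Finset.mem_univ, true_and, mem_fx]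
      exact ⟨fun h => h.2, fun h => ⟨R.nofix hu.1.1 hs.1 hu.2.1.symm hu.2.2.symm h, h⟩⟩) (by
      intro y hy
      simp only [Finset.mem_sdiff, Finset.mem_univ, true_and, mem_fx] at hy
      obtain ⟨u, hu, u1, u2⟩ := R.line ht (Ne.symm hy)
      rw [Finset.card_eq_one]
      refine ⟨u, ?_⟩
      ext v
      simp only [Finset.mem_bipartiteBelow, mem_fin, Finset.mem_singleton]
      constructor
      · rintro ⟨⟨v1, v2, -⟩, v3⟩
        exact R.luniq (Ne.symm hy) v1.1 hu v3 u1 (comm_fix v2.symm v3) u2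
      · rintro rfl
        exact ⟨⟨⟨hu, y, u1⟩, (R.lcen (Ne.symm hy) hu u1 u2 u2
          (by rw [hs.1.smul_smul, u1])).symm, by rintro rfl; exact hy u1⟩, u1⟩)
  rw [h1, mul_one, Finset.card_sdiff_add_card_eq_card (Finset.subset_univ _), Finset.card_univ]

/-- an involution commuting with `s` flips an edge fixed by `s` -/
theorem flip (R : RT G adj K k h t l) {s u : G} (hs : Iv s) (hu : Iv u) (hc : u * s = s * u)
    (hne : u ≠ s) (Z : Finset X) (hZ : ∀ w ∈ Z, s • w = w) (hZu : ∀ w ∈ Z, u • w ∈ Z)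
    (hZa : ∀ w ∈ Z, ∀ w', adj w w' → s • w' = w' → w' ∈ Z) (h4 : ¬ 4 ∣ Z.card) :
    ∃ w ∈ Z, adj w (u • w) := by
  by_contra hcon
  push Not at hcon
  have : ∀ y ∈ Z, ∃ b, adj y b ∧ s • b = b := fun y hy => R.partner R.hh hs (hZ y hy)
  choose! f hf1 hf2 using this
  have hf : ∀ y ∈ Z, f y ∈ Z := fun y hy => hZa y hy _ (hf1 y hy) (hf2 y hy)
  exact h4 (four_dvd f (u • ·) Z hf hZu (fun y hy => R.nb_unique hs.2 (hf2 y hy) (hf1 _ (hf y hy))
      (R.symm (hf1 y hy)) (hf2 _ (hf y hy)) (hZ y hy)) (fun y _ => hu.smul_smul y)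
    (fun y hy => R.nb_unique hs.2 (hZ _ (hZu y hy)) (hf1 _ (hZu y hy)) (R.inv u (hf1 y hy))
      (hf2 _ (hZu y hy)) (comm_fix hc (hf2 y hy)))
    (fun y hy => (R.ne (hf1 y hy)).symm) (fun y hy => R.nofix hs hu hc hne (hZ y hy))
    (fun y hy e => hcon y hy (e ▸ hf1 y hy)))

theorem four_dvd_fx (R : RT G adj K k h t l) (ht : Even t) {s : G} (hs : IC X s) :
    4 ∣ (fx (X := X) s).card := by
  classical
  haveI : Fact (Nat.Prime 2) := ⟨Nat.prime_two⟩
  by_contra h4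
  obtain ⟨e, he, het, hl⟩ := R.card_fx ht hs
  obtain ⟨hs1, a, ha⟩ := id hs
  obtain ⟨b, hab, hb⟩ := R.partner R.hh hs1 ha
  have h2 := R.h_ge a
  have epos : 0 < e := Nat.pos_of_ne_zero (by rintro rfl; omega)
  obtain ⟨y, hy, hyn⟩ := Finset.exists_mem_notMem_of_card_lt_card (s := {a, b}) (t := fx s)
    (by have := Finset.card_le_two (a := a) (b := b); omega)
  simp only [mem_fx, Finset.mem_insert, Finset.mem_singleton, not_or] at hy hyn
  obtain ⟨g0, g1, g2⟩ := R.arc hab (R.symm hab)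
  obtain ⟨x, x1, x2, x3⟩ := R.Z_trans hab hs1 ha hb
    (comm_fix (R.lcen (R.ne hab) hs1 ha hb (by rw [g1, hb]) (by rw [g2, ha])) hy)
    (fun e => hyn.2 (smul_left_cancel g0 (by rw [e, g2])))
    (fun e => hyn.1 (smul_left_cancel g0 (by rw [e, g1]))) hy hyn.1 hyn.2
  obtain ⟨j, n, hσ⟩ := exists_two_part (x * g0)
  set σ := (x * g0) ^ (2 * j + 1) with hσd
  have σ2 : ((x * g0) ^ 2) ^ j ∈ S2 G a b := Subgroup.pow_mem _
    (by rw [sq, mem_S2]; simp [mul_smul, g1, g2, x1, x2]) j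
  have σa : σ • a = b := by rw [hσd, pow_succ, pow_mul, mul_smul, mul_smul, g1, x2, σ2.2]
  have σb : σ • b = a := by rw [hσd, pow_succ, pow_mul, mul_smul, mul_smul, g2, x1, σ2.1]
  have σy : σ • y = y := (stabilizer G y).pow_mem (show (x * g0) • y = y by rw [mul_smul, x3]) _
  obtain ⟨P, p1, p2, p3, p4⟩ := syl2 (S2 G a b) (SW G a b) (σ := σ) (Or.inr ⟨σa, σb⟩) hσ (by
    rintro g (hg | hg)
    · exact Or.inl hg
    · refine Or.inr ⟨?_, ?_⟩
      · show _ • a = a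
        rw [mul_smul, inv_smul_eq_iff.2 σb.symm, hg.2]
      · show _ • b = b
        rw [mul_smul, inv_smul_eq_iff.2 σa.symm, hg.1])
  set E := fin (fun u => IC X u ∧ u * s = s * u ∧ u ≠ s) with hE
  have mE : ∀ u, u ∈ E ↔ IC X u ∧ u * s = s * u ∧ u ≠ s := fun u => mem_fin
  have cE : ∀ u ∈ E, ∀ g, s * g = g * s → g * u * g⁻¹ ∈ E := by
    intro u hu g hg
    rw [mE] at hu ⊢
    have hg' : g * s * g⁻¹ = s := by rw [← hg]; group
    refine ⟨hu.1.conj g, ?_, fun e => hu.2.2 ?_⟩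
    · calc g * u * g⁻¹ * s = g * (u * s) * g⁻¹ := by nth_rewrite 1 [← hg']; group
        _ = _ := by rw [hu.2.1]; nth_rewrite 2 [← hg']; group
    · rw [← hg'] at e; simpa using e
  have cH : ∀ g ∈ S2 G a b, s * g = g * s :=
    fun g hg => (R.cen_edge R.hh hab hs1 ha hb hg.1 hg.2).symm
  have claimA : ∀ u ∈ E, ∃ g, s * g = g * s ∧ g * u * g⁻¹ ∈ P ∧ (g * u * g⁻¹) • a = b := by
    intro u hu
    rw [mE] at hu
    obtain ⟨w, hw, hw'⟩ := R.flip hs1 hu.1.1 hu.2.1 hu.2.2 (fx s) (fun w hw => mem_fx.1 hw)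
      (fun w hw => mem_fx.2 (comm_fix hu.2.1 (mem_fx.1 hw))) (fun w _ w' _ h => mem_fx.2 h) h4
    rw [mem_fx] at hw
    obtain ⟨g, e1, e2⟩ := R.arc hw' hab
    have c1 := R.lcen (R.ne hw') hs1 hw (comm_fix hu.2.1 hw) (x := g) (by rw [e1, ha])
      (by rw [e2, hb])
    have f1 : (g * u * g⁻¹) • a = b := by rw [← e1, ← e2]; simp [mul_smul]
    obtain ⟨m, hm, hm'⟩ := p4 (Subgroup.zpowers (g * u * g⁻¹)) (Subgroup.zpowers_le.2
      (Or.inr ⟨f1, by rw [← f1, (hu.1.1.conj g).smul_smul]⟩))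
      (isP_zpowers (n := 1) (by simpa [sq] using (hu.1.1.conj g).1))
    refine ⟨m⁻¹ * g, ?_, ?_, ?_⟩
    · rw [← mul_assoc, cH _ (Subgroup.inv_mem _ hm), mul_assoc, ← c1, mul_assoc]
    · rw [cj_mul, inv_inv]; exact hm' _ (Subgroup.mem_zpowers _)
    · rw [cj_mul, inv_inv, mul_smul, mul_smul, hm.1, f1, inv_smul_eq_iff, hm.2]
  have cl : ∀ u ∈ E, u ∈ P → u • a = b →
      Nat.card ↥(P ⊓ S2 G a b) ≤ 2 * (fin (fun w => ∃ g ∈ P ⊓ S2 G a b, g * u * g⁻¹ = w)).card ∧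
      ∀ w ∈ fin (fun w => ∃ g ∈ P ⊓ S2 G a b, g * u * g⁻¹ = w), w ∈ P ∧ w • a = b ∧ w ≠ σ := by
    intro u hu uP ua
    constructor
    · have c1 := cls (P ⊓ S2 G a b) u
      obtain ⟨i, hi⟩ := (p1.to_le (show P ⊓ S2 G a b ⊓ Subgroup.centralizer {u} ≤ P from
        inf_le_left.trans inf_le_left)).exists_card_eq
      rw [mE] at hu
      have c2 := (Subgroup.card_dvd_of_le (show P ⊓ S2 G a b ⊓ Subgroup.centralizer {u} ≤ _ from
        inf_le_inf_right _ inf_le_right)).trans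
        (R.cH_dvd ht (R.ne hab) hs1 ha hb hu.1.1 hu.2.1 hu.2.2)
      obtain ⟨g, e⟩ := R.IC_conj R.hh hs hu.1
      rw [← e, fx_conj, e, hi] at c2
      have : 2 ^ i ≤ 2 := by
        rcases i with _ | _ | i
        · norm_num
        · norm_num
        · exact absurd ((Dvd.intro (2 ^ i) (by ring) : 4 ∣ 2 ^ (i + 1 + 1)).trans c2) h4
      rw [hi] at c1
      nlinarith
    · intro w hw
      rw [mem_fin] at hw
      obtain ⟨g, hg, rfl⟩ := hw
      refine ⟨P.mul_mem (P.mul_mem hg.1 uP) (P.inv_mem hg.1), ?_, fun e => ?_⟩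
      · rw [mul_smul, mul_smul, inv_smul_eq_iff.2 hg.2.1.symm, ua, hg.2.2]
      · have := (mE _).1 (cE u hu g (cH g hg.2))
        rw [e] at this
        exact R.nofix hs1 this.1.1 this.2.1 this.2.2 hy σy
  have claimB : ∀ u ∈ E, u ∈ P → u • a = b → ∀ u' ∈ E, u' ∈ P → u' • a = b →
      ∃ g, s * g = g * s ∧ g * u * g⁻¹ = u' := by
    intro u hu uP ua u' hu' uP' ua'
    by_contra hcon
    obtain ⟨a1, a2⟩ := cl u hu uP ua
    obtain ⟨b1, b2⟩ := cl u' hu' uP' ua'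
    have d1 := Finset.card_le_card_of_injOn (s := insert σ
      (fin (fun w => ∃ g ∈ P ⊓ S2 G a b, g * u * g⁻¹ = w) ∪
        fin (fun w => ∃ g ∈ P ⊓ S2 G a b, g * u' * g⁻¹ = w))) (t := fin (· ∈ P ⊓ S2 G a b))
      (σ * ·) (fun w hw => by
        have : w ∈ P ∧ w • a = b := by
          simp only [Finset.coe_insert, Finset.coe_union, Set.mem_insert_iff, Set.mem_union,
            Finset.mem_coe] at hw
          rcases hw with rfl | hw | hw
          · exact ⟨p3, σa⟩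
          · exact ⟨(a2 w hw).1, (a2 w hw).2.1⟩
          · exact ⟨(b2 w hw).1, (b2 w hw).2.1⟩
        refine mem_fin.2 ⟨P.mul_mem p3 this.1, ?_⟩
        rcases p2 this.1 with h | h
        · exact absurd (h.1.symm.trans this.2) (R.ne hab)
        · show σ * w ∈ S2 G a b
          rw [mem_S2, mul_smul, mul_smul, h.1, h.2, σa, σb]; exact ⟨rfl, rfl⟩)
      (fun _ _ _ _ e => mul_left_cancel e)
    rw [card_fin_sub, Finset.card_insert_of_notMem (by
      intro e
      rcases Finset.mem_union.1 e with e | e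
      · exact (a2 _ e).2.2 rfl
      · exact (b2 _ e).2.2 rfl), Finset.card_union_of_disjoint (by
        rw [Finset.disjoint_left]
        intro w h1 h2
        rw [mem_fin] at h1 h2
        obtain ⟨g, hg, rfl⟩ := h1
        obtain ⟨g', hg', e⟩ := h2
        exact hcon ⟨g'⁻¹ * g, cH _ (Subgroup.mul_mem _ (Subgroup.inv_mem _ hg'.2) hg.2), by
          rw [cj_mul, ← e]; group⟩)] at d1
    omega
  obtain ⟨w, wpos, hw⟩ := R.h_dvd a
  have n1 := R.card_E ht hs
  rw [← hE, R.card_X, he, hl, hw] at n1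
  have n2 : E.card * (e + 2) = w * h * (e + 1) := by nlinarith
  obtain ⟨u0, hu0⟩ : E.Nonempty := by
    rw [← Finset.card_pos]
    refine Nat.pos_of_ne_zero (fun e0 => ?_)
    rw [e0, zero_mul] at n2
    have : 0 < w * h * (e + 1) := by positivity
    omega
  have n3 := cls (Subgroup.centralizer {s}) u0
  have : fin (fun w => ∃ g ∈ Subgroup.centralizer ({s} : Set G), g * u0 * g⁻¹ = w) = E := by
    ext u
    rw [mem_fin]
    constructor
    · rintro ⟨g, hg, rfl⟩; exact cE u0 hu0 g (mem_cen.1 hg)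
    · intro hu
      obtain ⟨g, c1, c2, c3⟩ := claimA u0 hu0
      obtain ⟨g', c1', c2', c3'⟩ := claimA u hu
      obtain ⟨m, m1, m2⟩ := claimB _ (cE u0 hu0 g c1) c2 c3 _ (cE u hu g' c1') c2' c3'
      refine ⟨g'⁻¹ * (m * g), Subgroup.mul_mem _ (Subgroup.inv_mem _ (mem_cen.2 c1'))
        (Subgroup.mul_mem _ (mem_cen.2 m1) (mem_cen.2 c1)), ?_⟩
      rw [cj_mul, cj_mul, m2]; group
  rw [this, R.card_cen hs, he] at n3
  set d := Nat.card ↥(Subgroup.centralizer ({s} : Set G) ⊓ Subgroup.centralizer {u0})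
  have n4 : (e + 1) * (w * d) = (e + 2) * (e + 2) := by
    refine Nat.eq_of_mul_eq_mul_right (show 0 < h by omega) ?_
    calc (e + 1) * (w * d) * h = (w * h * (e + 1)) * d := by ring
      _ = (e + 2) * (E.card * d) := by rw [← n2]; ring
      _ = _ := by rw [n3]; ring
  have n5 : (e + 1) ∣ (e + 1) * (e + 3) + 1 := ⟨w * d, by rw [n4]; ring⟩
  have := Nat.le_of_dvd one_pos ((Nat.dvd_add_right (Dvd.intro _ rfl)).1 n5)
  omega

end RT

end Cfsg.Agent.H76.Rk
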