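/-
Rank 3 Frobenius problem: semiregular kernel, the parameters.
-/
import Cfsg.Agent.H76.RkI

set_option autoImplicit false

namespace Cfsg.Agent.H76.Rk

open Finset MulAction

variable {G X : Type*} [Group G] [MulAction G X] {adj : X → X → Prop}

theorem nsq (a n : ℤ) (ha : 0 ≤ a) (h1 : a ^ 2 < n) (h2 : n < (a + 1) ^ 2) : ¬ IsSquare n := by
  rintro ⟨m, rfl⟩
  rw [← abs_mul_abs_self m] at h1 h2
  have h0 := abs_nonneg m
  have : a < |m| := by nlinarith
  have : |m| < a + 1 := by nlinarith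
  omega

theorem sq20 (t : ℕ) (h0 : 0 < t) (ht : Even t) (h : IsSquare ((t : ℤ) ^ 2 + 20 * t + 4)) :
    t = 4 := by
  obtain ⟨r, rfl⟩ := ht
  by_cases hr : r ≤ 19
  · interval_cases r <;> first | omega | norm_num at h
  · exact absurd h (nsq (((r + r : ℕ) : ℤ) + 9) _ (by positivity) (by push_cast; nlinarith)
      (by push_cast; nlinarith))

theorem sq36 (r : ℕ) (h0 : 0 < r) (h : IsSquare (((4 * r : ℕ) : ℤ) ^ 2 + 36 * (4 * r : ℕ) + 4)) :
    r = 6 := by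
  by_cases hr : r ≤ 35
  · interval_cases r <;> first | omega | norm_num at h
  · exact absurd h (nsq (((4 * r : ℕ) : ℤ) + 17) _ (by positivity) (by push_cast; nlinarith)
      (by push_cast; nlinarith))

theorem arith1 {k h t l e w x1 x2 y1 lam mu lam' mu' : ℕ} (e2 : 2 ≤ e)
    (het : e * t = h) (hl : l = k * e) (hw : k = 1 + w * h) (tpos : 0 < t)
    (b1 : x1 * 2 ≤ e * y1) (c1 : (k + k * x1 + l * x2) * (e + 2) = (1 + k + l) * k)
    (p1 : l * mu + k * lam + k = k * k) (p4 : lam = h * lam') (p5 : mu = t * mu') :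
    (x1 + e * x2) * (e + 2) = w * t * e * (e + 1) ∧ 2 * w * t * (e + 1) ≤ (y1 + 2 * x2) * (e + 2) ∧
      x2 * (e + 2) ≤ w * t * (e + 1) ∧ mu' + lam' = w := by
  have kpos : 0 < k := by omega
  have c3 : (x1 + e * x2) * (e + 2) = w * t * e * (e + 1) := by
    have : (1 + x1 + e * x2) * (e + 2) = 1 + k + k * e :=
      Nat.eq_of_mul_eq_mul_left kpos (by rw [hl] at c1; linear_combination c1)
    rw [hw, ← het] at this
    zify at this ⊢
    linear_combination this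
  refine ⟨c3, Nat.le_of_mul_le_mul_left (c := e) ?_ (by omega),
    Nat.le_of_mul_le_mul_left (c := e) ?_ (by omega), ?_⟩
  · have := Nat.mul_le_mul_right (e + 2) b1
    calc e * (2 * w * t * (e + 1)) = 2 * (w * t * e * (e + 1)) := by ring
      _ = x1 * 2 * (e + 2) + 2 * e * x2 * (e + 2) := by rw [← c3]; ring
      _ ≤ e * y1 * (e + 2) + 2 * e * x2 * (e + 2) := by omega
      _ = _ := by ring
  · calc e * (x2 * (e + 2)) ≤ x1 * (e + 2) + e * (x2 * (e + 2)) := by omega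
      _ = _ := by linear_combination c3
  · have : e * mu + lam + 1 = k :=
      Nat.eq_of_mul_eq_mul_left kpos (by rw [hl] at p1; linear_combination p1)
    rw [hw, p4, p5, ← het] at this
    refine Nat.eq_of_mul_eq_mul_left (show 0 < e * t by positivity) ?_
    zify at this ⊢
    linear_combination this

theorem ar2 {w t e : ℕ} (t2 : 2 ≤ t) (e2 : 2 ≤ e) (h : 2 * w * t * (e + 1) ≤ (2 + t) * (e + 2)) :
    w ≤ 1 := by
  by_contra hne
  have : 2 * 2 * t * (e + 1) ≤ 2 * w * t * (e + 1) := by gcongr; omega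
  nlinarith

theorem ar3 {t e : ℕ} (e2 : 2 ≤ e) (h : 2 * 1 * t * (e + 1) ≤ (2 + t) * (e + 2)) : t ≤ 5 := by
  by_contra hne
  nlinarith

theorem ar4 {w t e : ℕ} (t2 : 2 ≤ t) (h : t * (e + 2) ≤ w * t * (e + 1)) : 2 ≤ w := by
  by_contra hne
  have : w * t * (e + 1) ≤ 1 * t * (e + 1) := by gcongr; omega
  nlinarith

theorem ar5 {w t e : ℕ} (w2 : 2 ≤ w) (e2 : 2 ≤ e)
    (h : 2 * w * t * (e + 1) ≤ (2 + 2 * t) * (e + 2)) : t ≤ 2 := by
  by_contra hne
  have : 2 * 2 * t * (e + 1) ≤ 2 * w * t * (e + 1) := by gcongr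
  nlinarith

theorem ar6 {w t e y : ℕ} (tpos : 0 < t) (h : 2 * w * t * (e + 1) ≤ y * (e + 2))
    (hy : 6 * y ≤ 11 * t) : 12 * w * (e + 1) ≤ 11 * (e + 2) := by
  refine Nat.le_of_mul_le_mul_left (c := t) ?_ tpos
  have := Nat.mul_le_mul_right (e + 2) hy
  nlinarith

theorem arith {k h t l e w x1 x2 y1 lam mu lam' mu' : ℕ} {C : Prop} (ht : Even t) (h4 : 4 ∣ e + 2)
    (het : e * t = h) (hl : l = k * e) (wpos : 0 < w) (hw : k = 1 + w * h) (tpos : 0 < t)
    (b1 : x1 * 2 ≤ e * y1) (c1 : (k + k * x1 + l * x2) * (e + 2) = (1 + k + l) * k) (c2 : x2 ≤ t)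
    (p1 : l * mu + k * lam + k = k * k) (p2 : 0 < mu) (p4 : lam = h * lam') (p5 : mu = t * mu')
    (p6 : IsSquare (((lam : ℤ) - mu) ^ 2 + 4 * (k - mu)))
    (kc : lam = 0 → k = 2 * mu + 1 → 0 < x1 → C ∧ (k = 9 → h ≤ 2))
    (hM : ((2 * x2 ≤ t ∨ t ≤ x2) ∧ y1 ≤ 2) ∨ (¬ C ∧ t ≠ 4 ∧ ((2 * x2 ≤ t ∧ 4 * y1 ≤ 3 * t) ∨
      ∃ j o, t = 2 ^ (j + 2) * o ∧ Odd o ∧ 3 * x2 ≤ 2 * t ∧ y1 ≤ 2 * o))) :
    k = 5 ∧ h = 4 ∧ l = 10 := by
  have e2 : 2 ≤ e := by omega
  obtain ⟨c3, I1, I2, I3⟩ := arith1 e2 het hl hw tpos b1 c1 p1 p4 p5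
  clear c1 p1 b1
  have mpos : 0 < mu' := Nat.pos_of_ne_zero (by rintro rfl; omega)
  have t2 : 2 ≤ t := by obtain ⟨r, hr⟩ := ht; omega
  have w1 : w = 1 → lam = 0 ∧ mu = t := by
    intro e1
    obtain rfl : lam' = 0 := by omega
    obtain rfl : mu' = 1 := by omega
    omega
  rcases hM with ⟨hx | hx, hy1⟩ | ⟨hnc, t4, hM⟩
  · have I4 : 2 * w * t * (e + 1) ≤ (2 + t) * (e + 2) := I1.trans (Nat.mul_le_mul_right _ (by omega))
    obtain rfl : w = 1 := by have := ar2 t2 e2 I4; omega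
    obtain ⟨l0, m0⟩ := w1 rfl
    have t4 := ar3 e2 I4
    have : t = 2 ∨ t = 4 := by obtain ⟨r, hr⟩ := ht; omega
    rcases this with rfl | rfl
    · obtain ⟨e', rfl⟩ : ∃ e', e = e' + 1 := ⟨e - 1, by omega⟩
      have : (e' + 1 + 2) ∣ (e' + 1 + 2) * (2 * e') + 4 :=
        ⟨x1 + (e' + 1) * x2, by linear_combination c3.symm⟩
      have := Nat.le_of_dvd (by norm_num) ((Nat.dvd_add_right (Dvd.intro _ rfl)).1 this)
      obtain rfl : e' = 1 := by omega
      omega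
    · obtain rfl : e = 2 := by omega
      have := (kc l0 (by omega) (by omega)).2 (by omega)
      omega
  · obtain rfl : x2 = t := by omega
    have w2 := ar4 t2 I2
    obtain rfl : x2 = 2 := by
      have := ar5 w2 e2 (I1.trans (Nat.mul_le_mul_right _ (by omega)))
      omega
    have I4 : 2 * 2 * 2 * (e + 1) ≤ (2 + 2 * 2) * (e + 2) :=
      (by gcongr : 2 * 2 * 2 * (e + 1) ≤ 2 * w * 2 * (e + 1)).trans
        (I1.trans (Nat.mul_le_mul_right _ (by omega)))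
    obtain rfl : e = 2 := by omega
    obtain rfl : w = 2 := by omega
    obtain rfl : h = 4 := by omega
    obtain rfl : k = 9 := by omega
    have : lam' = 0 ∨ lam' = 1 := by omega
    rcases this with rfl | rfl
    · have := (kc (by omega) (by omega) (by omega)).2 rfl
      omega
    · obtain rfl : mu = 2 := by omega
      subst p4
      norm_num at p6
  exfalso
  have I6 : 12 * w * (e + 1) ≤ 11 * (e + 2) := ar6 tpos I1 (by
    rcases hM with ⟨h1, h2⟩ | ⟨j, o, h1, -, h2, h3⟩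
    · omega
    · have : 4 * o ≤ t := by
        rw [h1]; exact Nat.mul_le_mul_right _ (by have := Nat.two_pow_pos j; rw [pow_add]; omega)
      omega)
  obtain rfl : w = 1 := by
    by_contra hne
    have : 12 * 2 * (e + 1) ≤ 12 * w * (e + 1) := by gcongr; omega
    omega
  obtain ⟨rfl, rfl⟩ := w1 rfl
  have : e = 2 ∨ e = 6 ∨ e = 10 := by omega
  rcases this with rfl | rfl | rfl
  · refine hnc (kc rfl (by omega) ?_).1
    rcases hM with ⟨h1, h2⟩ | ⟨j, o, h1, -, h2, h3⟩ <;> omega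
  · refine t4 (sq20 mu tpos ht ?_)
    convert p6 using 1
    rw [hw, ← het]; push_cast; ring
  · rcases hM with ⟨h1, h2⟩ | ⟨j, o, h1, ho, h2, h3⟩
    · omega
    have h5 : mu = 4 * (2 ^ j * o) := by rw [h1]; ring
    have := sq36 (2 ^ j * o) (by omega) (by
      convert p6 using 1
      rw [hw, ← het, ← h5]; push_cast; ring)
    have ho3 : o ≤ 3 := by
      obtain ⟨i, hi⟩ := ho
      have h7 : o ∣ 6 := ⟨2 ^ j, by rw [← this]; ring⟩
      have h6 := Nat.le_of_dvd (by norm_num) h7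
      omega
    omega

namespace RT

variable [Finite G] [Fintype X] {K : X → Subgroup G} {k h t l : ℕ}

theorem K_cyc (R : RT G adj K k h t l) (ht : Even t)
    (tri : ∀ a b x, adj a b → adj a x → adj b x → False) {mu : ℕ}
    (hmu : ∀ a c, a ≠ c → ¬ adj a c → (fin (fun x => adj a x ∧ adj c x)).card = mu)
    (hk : k = 2 * mu + 1) {z : G} {p v : X} (hz : Iv z) (hp : z • p = p) (hv : adj v (z • v)) :
    ∃ κ ∈ K p, ∀ y ∈ K p, ∃ i : ℕ, y = κ ^ i := by
  classical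
  have hne : p ≠ v := by rintro rfl; rw [hp] at hv; exact R.irr hv
  have hn : ¬ adj p v := fun e => tri p v _ e (R.adj_of_fix hp e) hv
  obtain ⟨s, hs, s1, s2⟩ := R.line ht hne
  have hκ := R.inv_mul R.hh hz hs hp s1
  have κv : (z * s) • v = z • v := by rw [mul_smul, s2]
  set κ := z * s
  have κp := R.K_fix hκ
  set D := fin (fun x => adj p x ∧ adj v x) with hD
  have mD : ∀ x, x ∈ D ↔ adj p x ∧ adj v x := fun x => mem_fin
  have dis : ∀ x ∈ D, κ • x ∉ D := fun x hx e =>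
    tri v _ _ hv ((mD _).1 e).2 (κv ▸ R.inv κ ((mD _).1 hx).2)
  have c1 := Finset.card_sdiff_add_card_eq_card (s := D ∪ D.image (κ • ·)) (t := nb adj p) (by
    intro x hx
    rcases Finset.mem_union.1 hx with h | h
    · exact mem_nb.2 ((mD _).1 h).1
    · obtain ⟨w, hw, rfl⟩ := Finset.mem_image.1 h
      exact mem_nb.2 (R.adj_of_fix κp ((mD _).1 hw).1))
  rw [R.card_nb, Finset.card_union_of_disjoint (by
    rw [Finset.disjoint_left]
    intro x h1 h2
    obtain ⟨w, hw, rfl⟩ := Finset.mem_image.1 h2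
    exact dis w hw h1), Finset.card_image_of_injective _ (MulAction.injective κ),
    hmu p v hne hn] at c1
  obtain ⟨x0, hx0⟩ := Finset.card_eq_one.1 (show (nb adj p \ (D ∪ D.image (κ • ·))).card = 1 by
    omega)
  have px0 : adj p x0 := by
    have : x0 ∈ nb adj p \ (D ∪ D.image (κ • ·)) := by rw [hx0]; simp
    exact mem_nb.1 (Finset.mem_sdiff.1 this).1
  have key : ∀ w, adj p w → κ • w ≠ x0 → (κ • w ∈ D ↔ w ∉ D) := by
    intro w hw hne
    refine ⟨fun h e => dis w e h, fun h => ?_⟩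
    by_contra h'
    apply hne
    rw [← Finset.mem_singleton, ← hx0, Finset.mem_sdiff, Finset.mem_union, Finset.mem_image]
    refine ⟨mem_nb.2 (R.adj_of_fix κp hw), ?_⟩
    rintro (e | ⟨w', hw', e⟩)
    · exact h' e
    · exact h (smul_left_cancel κ e ▸ hw')
  refine ⟨κ, hκ, fun y hy => ?_⟩
  have hx := R.adj_of_fix (R.K_fix ((K p).inv_mem hy)) px0
  by_contra hcon
  push Not at hcon
  have hc : ∀ i : ℕ, κ ^ i • y⁻¹ • x0 ≠ x0 := by
    intro i e
    rw [← mul_smul] at e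
    exact hcon i (mul_inv_eq_one.1 (R.K_free ((K p).mul_mem ((K p).pow_mem hκ i)
      ((K p).inv_mem hy)) px0 e)).symm
  set x := y⁻¹ • x0
  have step : ∀ i : ℕ, κ ^ (i + 1) • x ∈ D ↔ κ ^ i • x ∉ D := by
    intro i
    have := hc (i + 1)
    rw [pow_succ', mul_smul] at this ⊢
    exact key _ (R.adj_of_fix (R.K_fix ((K p).pow_mem hκ i)) hx) this
  have alt : ∀ i : ℕ, κ ^ (2 * i) • x ∈ D ↔ x ∈ D := by
    intro i
    induction i with
    | zero => simp
    | succ i ih => rw [show 2 * (i + 1) = 2 * i + 1 + 1 by ring, step, step, not_not, ih]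
  have := step (2 * mu)
  rw [← hk, R.pow_k hκ, one_smul, alt] at this
  tauto

omit [Finite G] in
theorem H_comm (R : RT G adj K k h t l) {a b : X} (hab : adj a b) {κ : G} (hκ : κ ∈ K a)
    (hc : ∀ y ∈ K a, ∃ i : ℕ, y = κ ^ i) : ∀ x ∈ S2 G a b, ∀ x' ∈ S2 G a b, x * x' = x' * x := by
  intro x hx x' hx'
  obtain ⟨i, hi⟩ := hc _ (R.conj_K' hκ hx.1)
  obtain ⟨j, hj⟩ := hc _ (R.conj_K' hκ hx'.1)
  have e1 : x * x' * κ * (x * x')⁻¹ = x' * x * κ * (x' * x)⁻¹ := by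
    rw [cj_mul, cj_mul, hi, hj, ← conj_pow, ← conj_pow, hi, hj, ← pow_mul, ← pow_mul, mul_comm]
  have hm := Subgroup.mul_mem _ (Subgroup.inv_mem _ (Subgroup.mul_mem _ hx' hx))
    (Subgroup.mul_mem _ hx hx')
  by_contra hne
  have := R.fpf hab hm.1 hm.2 (fun e => hne (inv_mul_eq_one.1 e).symm) hκ (by
    calc _ = (x' * x)⁻¹ * (x * x' * κ * (x * x')⁻¹) * (x * x') := by group
      _ = _ := by rw [e1]; group)
  obtain ⟨y, hy, hy1⟩ := R.ex_K a
  obtain ⟨n, rfl⟩ := hc y hy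
  exact hy1 (by rw [this, one_pow])

theorem k_nine (R : RT G adj K k h t l) {a : X} {κ : G} (hκ : κ ∈ K a)
    (hc : ∀ y ∈ K a, ∃ i : ℕ, y = κ ^ i) (hk : k = 9) : h ≤ 2 := by
  classical
  obtain ⟨b, hab⟩ := R.ex a
  have ho : orderOf κ = 9 := by
    rw [← Nat.card_zpowers, ← hk, ← R.card_K a]
    congr 2
    refine le_antisymm (Subgroup.zpowers_le.2 hκ) (fun y hy => ?_)
    obtain ⟨i, rfl⟩ := hc y hy
    exact Subgroup.npow_mem_zpowers κ i
  have h1 := semi (S2 G a b) (fun g y => g * y * g⁻¹) cj_one cj_mul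
    (fin (fun y => y ∈ K a ∧ y ^ 3 = 1 ∧ y ≠ 1)) (fun g hg y hy => by
      rw [mem_fin] at hy ⊢
      exact ⟨R.conj_K' hy.1 hg.1, by rw [conj_pow, hy.2.1]; group, by simpa using hy.2.2⟩)
    (fun g hg y hy e => by
      rw [mem_fin] at hy
      by_contra hne
      exact hy.2.2 (R.fpf hab hg.1 hg.2 hne hy.1 (mul_inv_eq_iff_eq_mul.1 e)))
  rw [R.card_H hab] at h1
  refine (Nat.le_of_dvd (Finset.card_pos.2 ⟨κ ^ 3, mem_fin.2 ⟨(K a).pow_mem hκ 3, ?_, ?_⟩⟩) h1).trans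
    ((Finset.card_le_card (t := {κ ^ 3, κ ^ 6}) (fun y hy => ?_)).trans Finset.card_le_two)
  · rw [← pow_mul, ← orderOf_dvd_iff_pow_eq_one, ho]
  · rw [Ne, ← orderOf_dvd_iff_pow_eq_one, ho]; norm_num
  · rw [mem_fin] at hy
    obtain ⟨i, rfl⟩ := hc y hy.1
    obtain ⟨-, h2, h3⟩ := hy
    rw [← pow_mul, ← orderOf_dvd_iff_pow_eq_one, ho] at h2
    rw [Ne, ← orderOf_dvd_iff_pow_eq_one, ho] at h3
    have h4 := pow_mod_orderOf κ i
    rw [ho] at h4
    have : i % 9 = 3 ∨ i % 9 = 6 := by omega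
    rcases this with e | e <;> simp [← h4, e]

theorem t_even (R : RT G adj K k h t l) (ht : Even t) : k = 5 ∧ h = 4 ∧ l = 10 := by
  classical
  obtain ⟨a⟩ : Nonempty X := Fintype.card_pos_iff.1 (by rw [R.card_X]; omega)
  obtain ⟨b, hab⟩ := R.ex a
  obtain ⟨s, hs, ha, hb⟩ := R.ex_inv R.hh hab
  have hsC : IC X s := ⟨hs, a, ha⟩
  obtain ⟨e, he, het, hl⟩ := R.card_fx ht hsC
  have h4 := R.four_dvd_fx ht hsC
  rw [he] at h4
  set Z := fx (X := X) s \ {a, b} with hZ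
  have mZ : ∀ w, w ∈ Z ↔ s • w = w ∧ w ≠ a ∧ w ≠ b := fun w => by simp [hZ]
  have cZ : Z.card = e := by
    have h2 := Finset.card_sdiff_add_card_eq_card (s := {a, b}) (t := fx s) (by
      intro z hz
      simp only [Finset.mem_insert, Finset.mem_singleton] at hz
      rcases hz with rfl | rfl <;> simpa)
    rw [Finset.card_pair (R.ne hab), ← hZ] at h2
    omega
  obtain ⟨y, hy, hmax⟩ := Finset.exists_max_image Z
    (fun w => ((sw G a b).filter (fun z => adj w (z • w))).card) (Finset.card_pos.1 (by omega))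
  obtain ⟨sy, hya, hyb⟩ := (mZ y).1 hy
  have hn := R.nadj_Z hab hs ha hb sy hyb
  have Za : ∀ w ∈ Z, ∀ w', adj w w' → s • w' = w' → w' ∈ Z := by
    intro w hw w' h1 h2
    obtain ⟨w1, w2, w3⟩ := (mZ w).1 hw
    refine (mZ _).2 ⟨h2, ?_, ?_⟩
    · rintro rfl; exact w3 (R.nb_unique hs.2 ha (R.symm h1) hab w1 hb)
    · rintro rfl; exact w2 (R.nb_unique hs.2 hb (R.symm h1) (R.symm hab) w1 ha)
  have swp : ∀ z ∈ sw G a b, Iv z ∧ z • a = b ∧ z • b = a ∧ z * s = s * z ∧ z ≠ s := by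
    intro z hz
    rw [mem_sw] at hz
    have zb : z • b = a := by rw [← hz.2, hz.1.1.smul_smul]
    exact ⟨hz.1.1, hz.2, zb, R.lcen (R.ne hab) hs ha hb (by rw [hz.2, hb]) (by rw [zb, ha]),
      by rintro rfl; exact R.ne hab (ha.symm.trans hz.2)⟩
  have b1 := Finset.card_mul_le_card_mul (s := sw G a b) (t := Z) (m := 2)
    (n := ((sw G a b).filter (fun z => adj y (z • y))).card) (fun z w => adj w (z • w)) (by
      intro z hz
      obtain ⟨z1, z2, z3, z4, z5⟩ := swp z hz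
      have Zz : ∀ w ∈ Z, z • w ∈ Z := by
        intro w hw
        obtain ⟨w1, w2, w3⟩ := (mZ w).1 hw
        exact (mZ _).2 ⟨comm_fix z4 w1, fun e => w3 (smul_left_cancel z (by rw [e, z3])),
          fun e => w2 (smul_left_cancel z (by rw [e, z2]))⟩
      obtain ⟨w, hw, hw'⟩ := R.flip hs z1 z4 z5 Z (fun w hw => ((mZ w).1 hw).1) Zz Za (by omega)
      exact Finset.one_lt_card.2 ⟨w, (Finset.mem_bipartiteAbove _).2 ⟨hw, hw'⟩, z • w,
        (Finset.mem_bipartiteAbove _).2 ⟨Zz w hw, by rw [z1.smul_smul]; exact R.symm hw'⟩,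
        R.ne hw'⟩) (fun w hw => hmax w hw)
  obtain ⟨y', hyy, sy'⟩ := R.partner R.hh hs sy
  obtain ⟨-, hya', hyb'⟩ := (mZ y').1 (Za y hy y' hyy sy')
  obtain ⟨u, hu, huC⟩ := R.exists_U hya.symm hn hs ha sy
  rw [mem_sw] at hu
  have uy : u • y = a := by rw [← hu.2, hu.1.1.smul_smul]
  have uc : u * s = s * u := R.lcen hya.symm hs ha sy (by rw [hu.2, sy]) (by rw [uy, ha])
  have uy' : u • y' = b := R.nb_unique hs.2 ha (uy ▸ R.inv u hyy) hab (comm_fix uc sy') hb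
  obtain ⟨s0, s1, s2, s3⟩ := R.Z_trans hab hs ha hb sy hya hyb sy' hya' hyb'
  have s4 : s0 • y' = y := R.nb_unique hs.2 sy' (by have := R.inv s0 hyy; rwa [s3] at this) (R.symm hyy)
    (comm_fix (R.cen_edge R.hh hab hs ha hb s1 s2) sy') sy
  have Tc : ∀ x ∈ S2 G a y, x * s = s * x := fun x hx =>
    R.lcen hya.symm hs ha sy (by rw [hx.1, ha]) (by rw [hx.2, sy])
  have Tb : ∀ x ∈ S2 G a y, x • b = b := fun x hx => R.fix_of_comm hab hs.2 ha hb hx.1 (Tc x hx)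
  have Ty : ∀ x ∈ S2 G a y, x • y' = y' := fun x hx => R.fix_of_comm hyy hs.2 sy sy' hx.2 (Tc x hx)
  have H : GH (S2 G a y) s u :=
    { sT := ⟨ha, sy⟩, s2 := hs.1, s1 := hs.2, u2 := hu.1.1.1, uC := huC
      uniq := fun x hx h2 => by
        by_cases e : x = 1
        · exact Or.inl e
        · exact Or.inr (R.luniq hya.symm ⟨h2, e⟩ hs hx.1 ha hx.2 sy)
      un := Subgroup.mem_normalizer_fintype (fun x hx => by
        have hx : x ∈ S2 G a y := hx
        exact ⟨uy ▸ cj_fix u hx.2, hu.2 ▸ cj_fix u hx.1⟩) }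
  have hM := H.main (s0 := s0) (Subgroup.mem_normalizer_fintype (fun x hx => by
      have hx : x ∈ S2 G a y := hx
      exact ⟨s1 ▸ cj_fix s0 hx.1, s4 ▸ cj_fix s0 (Ty x hx)⟩))
    (sw G a y) ((sw G a b).filter (fun z => adj y (z • y))) (fun z hz => by
      rw [mem_sw] at hz
      refine ⟨hz.1.1.1, ?_⟩
      rw [mem_S2, mul_smul, mul_smul, hz.2, uy]
      exact ⟨rfl, by rw [← hz.2, hz.1.1.smul_smul, hu.2, hz.2]⟩) (fun z hz x hx => by
      rw [mem_sw] at hz ⊢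
      exact ⟨hz.1.conj x, by rw [mul_smul, mul_smul, inv_smul_eq_iff.2 hx.1.symm, hz.2, hx.2]⟩)
    (fun z hz => by
      rw [Finset.mem_filter] at hz
      obtain ⟨z1, z2, z3, z4, z5⟩ := swp z hz.1
      have zy : z • y = y' := R.nb_unique hs.2 sy hz.2 hyy (comm_fix z4 sy) sy'
      refine ⟨z1.1, ?_⟩
      rw [mem_S2, mul_smul, mul_smul, z2, zy, inv_smul_eq_iff, inv_smul_eq_iff]
      simp only [mul_smul]
      rw [inv_smul_eq_iff.2 uy.symm, inv_smul_eq_iff.2 hu.2.symm, inv_smul_eq_iff.2 s4.symm,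
        inv_smul_eq_iff.2 s1.symm, uy', hu.2, s2, s3]
      exact ⟨rfl, rfl⟩)
  have c1 := R.count_IC R.hh hab hya.symm hn hsC
  have c2 := sw_le (G := G) a y
  rw [R.card_T hya.symm hn] at hM c2
  obtain ⟨lam, mu, p0, p0', p1, p2, -, ⟨lam', p4⟩, ⟨mu', p5⟩, p6⟩ := R.exists_lam_mu
  have kc : lam = 0 → k = 2 * mu + 1 → 0 < (sw G a b).card →
      (∀ x ∈ S2 G a y, ∀ x' ∈ S2 G a y, x * x' = x' * x) ∧ (k = 9 → h ≤ 2) := by
    intro l0 hk hx
    obtain ⟨z, hz⟩ := Finset.card_pos.1 hx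
    rw [mem_sw] at hz
    obtain ⟨⟨z1, p, hp⟩, z2⟩ := hz
    obtain ⟨g, hg⟩ := R.trans p a
    obtain ⟨κ, k1, k2⟩ := R.K_cyc ht (fun a b x h1 h2 h3 => by
        have := p0 a b h1
        rw [l0, Finset.card_eq_zero] at this
        exact Finset.notMem_empty x (this ▸ mem_fin.2 ⟨h2, h3⟩)) p0' hk (z1.conj g)
      (hg ▸ cj_fix g hp) (v := g • a) (by
        rw [mul_smul, mul_smul, inv_smul_smul, z2]; exact R.inv g hab)
    exact ⟨fun x hx x' hx' => R.H_comm hab k1 k2 x ⟨hx.1, Tb x hx⟩ x' ⟨hx'.1, Tb x' hx'⟩,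
      R.k_nine k1 k2⟩
  obtain ⟨w, wpos, hw⟩ := R.h_dvd a
  have tpos := R.t_pos a
  have kodd := R.k_odd R.hh a
  rw [cZ] at b1
  rw [he, R.card_X] at c1
  replace p6 := p6 (by
    rw [R.card_X, hl]
    exact (odd_one.add_odd kodd).add (Even.mul_left ⟨e / 2, by omega⟩ k))
  exact arith ht h4 het hl wpos hw tpos b1 c1 c2 p1 p2 p4 p5 p6 kc (hM.imp (fun h => ⟨h.1, h.2.2⟩)
    (fun h => ⟨fun hc => by obtain ⟨x, hx, x', hx', hnc⟩ := h.1; exact hnc (hc x hx x' hx'), h.2⟩))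

end RT

end Cfsg.Agent.H76.Rk
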