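/-
Rank 3 Frobenius problem: the odd case and the list of parameters.
-/
import Cfsg.Agent.H76.RkJ

set_option autoImplicit false

namespace Cfsg.Agent.H76.Rk

open Finset MulAction

variable {G X : Type*} [Group G] [MulAction G X] {adj : X → X → Prop}

theorem ar7 {t e w x1 x2 : ℕ} (e2 : 2 ≤ e) (wpos : 0 < w) (tpos : 0 < t) (h1 : x1 ≤ e * t)
    (h2 : x2 ≤ t)
    (h : (1 + x1 + e * x2) * 2 = 1 + (1 + w * (e * t)) + (1 + w * (e * t)) * e) :
    w = 1 ∧ e ≤ 2 ∨ e = 3 := by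
  have h3 : e * x2 ≤ e * t := Nat.mul_le_mul_left _ h2
  have h4 : e * t * (w * (1 + e)) < e * t * 4 := by nlinarith
  have h5 := Nat.lt_of_mul_lt_mul_left h4
  have : w = 1 := by nlinarith
  subst this
  omega

variable [Finite G] [Fintype X] {K : X → Subgroup G} {k h t l : ℕ}

theorem RT.t_odd (R : RT G adj K k h t l) (ht : Odd t) : k = 3 ∧ h = 2 ∧ l = 6 := by
  classical
  obtain ⟨a⟩ : Nonempty X := Fintype.card_pos_iff.1 (by rw [R.card_X]; omega)
  obtain ⟨b, hab⟩ := R.ex a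
  obtain ⟨c, hc, hn⟩ := R.exn a
  obtain ⟨s, hs, ha, hb⟩ := R.ex_inv R.hh hab
  have powT : ∀ {y : X} {x : G}, a ≠ y → ¬ adj a y → x ∈ S2 G a y → x ^ t = 1 := by
    intro y x h1 h2 hx
    have := pow_card_eq_one' (x := (⟨x, hx⟩ : S2 G a y))
    rw [R.card_T h1 h2] at this
    exact congrArg Subtype.val this
  have hf : (fx (X := X) s).card = 2 := by
    rw [← Finset.card_pair (R.ne hab)]
    congr 1; ext y
    simp only [mem_fx, Finset.mem_insert, Finset.mem_singleton]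
    refine ⟨fun hy => ?_, by rintro (rfl | rfl) <;> assumption⟩
    by_contra hne
    push Not at hne
    exact hs.2 (eq_one_of_odd ht (powT hne.1.symm (R.nadj_Z hab hs ha hb hy hne.2) ⟨ha, hy⟩) hs.1)
  have cop : Nat.Coprime t k := by
    refine Nat.coprime_of_dvd (fun p hp h1 h2 => ?_)
    haveI := Fact.mk hp
    obtain ⟨x, hx⟩ := exists_prime_orderOf_dvd_card' (G := S2 G a c) p
      (by rw [R.card_T hc.symm hn]; exact h1)
    have h3 : (x : G) ^ k = 1 := by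
      rw [← orderOf_dvd_iff_pow_eq_one, Subgroup.orderOf_coe, hx]; exact h2
    have := R.U (R.mem_K_of_pow x.2.1 h3) x.2.2 hc
    rw [show x = 1 from Subtype.ext this, orderOf_one] at hx
    exact hp.one_lt.ne hx
  have tpos := R.t_pos a
  obtain ⟨e, he⟩ : t ∣ h := cop.dvd_of_dvd_mul_left ⟨l, by rw [← R.lt, mul_comm]⟩
  have hl : l = k * e := Nat.eq_of_mul_eq_mul_right tpos (by rw [R.lt, he]; ring)
  have eev : Even e := by
    have := R.hh
    rw [he, Nat.even_mul] at this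
    exact this.resolve_left (Nat.not_even_iff_odd.2 ht)
  have h2 := R.h_ge a
  have e2 : 2 ≤ e := by
    obtain ⟨r, rfl⟩ := eev
    rcases r with _ | r <;> omega
  obtain ⟨w, wpos, hw⟩ := R.h_dvd a
  have c1 := R.count_IC R.hh hab hc.symm hn ⟨hs, a, ha⟩
  have c2 := sw_le (G := G) a c
  have c3 := sw_le (G := G) a b
  rw [R.card_T hc.symm hn] at c2
  rw [R.card_H hab] at c3
  rw [hf, R.card_X, hl] at c1
  have c4 : (1 + (sw G a b).card + e * (sw G a c).card) * 2 = 1 + k + k * e :=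
    Nat.eq_of_mul_eq_mul_left (show 0 < k by omega) (by linear_combination c1)
  rw [mul_comm t] at he
  obtain ⟨rfl, rfl⟩ : w = 1 ∧ e = 2 := by
    have := ar7 e2 wpos tpos (he ▸ c3) c2 (by rw [c4, hw, he])
    obtain ⟨r, hr⟩ := eev
    omega
  have x2 : (sw G a c).card = t := by
    obtain ⟨z, hz⟩ : (sw G a c).Nonempty := Finset.card_pos.1 (by omega)
    have d1 := cls (S2 G a c) z
    rw [R.card_T hc.symm hn] at d1
    have d2 : (sw G a c).card ≤ (fin (fun w => ∃ g ∈ S2 G a c, g * z * g⁻¹ = w)).card := by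
      refine Finset.card_le_card (fun z' hz' => ?_)
      rw [mem_sw] at hz hz'
      have hm : z' * z ∈ S2 G a c := by
        rw [mem_S2, mul_smul, mul_smul, hz.2]
        exact ⟨by rw [← hz'.2, hz'.1.1.smul_smul], by rw [← hz.2, hz.1.1.smul_smul, hz'.2, hz.2]⟩
      obtain ⟨j, hj⟩ := conj_of_odd hz'.1.1.1 hz.1.1.1 ht (powT hc.symm hn hm)
      exact mem_fin.2 ⟨_, Subgroup.pow_mem _ hm j, hj⟩
    have d2' : (fin (fun w => ∃ g ∈ S2 G a c, g * z * g⁻¹ = w)).card ≤ (sw G a c).card := by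
      refine Finset.card_le_card (fun v hv => ?_)
      rw [mem_fin] at hv
      obtain ⟨g, hg, rfl⟩ := hv
      rw [mem_sw] at hz ⊢
      exact ⟨hz.1.conj g, by rw [mul_smul, mul_smul, inv_smul_eq_iff.2 hg.1.symm, hz.2, hg.2]⟩
    have d3 : 0 < Nat.card ↥(S2 G a c ⊓ Subgroup.centralizer {z}) := Nat.card_pos
    generalize Nat.card ↥(S2 G a c ⊓ Subgroup.centralizer {z}) = m at *
    rcases m with _ | _ | m
    · omega
    · omega
    · nlinarith
  have x1 : (sw G a b).card = t + 1 := by omega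
  suffices t ≤ 1 by omega
  obtain ⟨z, hz⟩ : (sw G a b).Nonempty := Finset.card_pos.1 (by omega)
  have hz' := mem_sw.1 hz
  have zb : z • b = a := by rw [← hz'.2, hz'.1.1.smul_smul]
  have swc : ∀ v : G, v • a = b → v • b = a → v * s = s * v := fun v h1 h2 =>
    R.lcen (R.ne hab) hs ha hb (by rw [h1, hb]) (by rw [h2, ha])
  have zs := swc z hz'.2 zb
  have cH : ∀ g ∈ S2 G a b, g * s = s * g := fun g hg => R.cen_edge R.hh hab hs ha hb hg.1 hg.2
  set O1 := fin (fun w => ∃ g ∈ S2 G a b, g * z * g⁻¹ = w) with hO1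
  set O2 := fin (fun w => ∃ g ∈ S2 G a b, g * (z * s) * g⁻¹ = w) with hO2
  have d1 := cls (S2 G a b) z
  have d2 := cls (S2 G a b) (z * s)
  have d3 : S2 G a b ⊓ Subgroup.centralizer {z * s} = S2 G a b ⊓ Subgroup.centralizer {z} := by
    ext g
    simp only [Subgroup.mem_inf, mem_cen]
    refine and_congr_right (fun hg => ?_)
    rw [mul_assoc, ← cH g hg, ← mul_assoc, ← mul_assoc, mul_left_inj]
  rw [d3, ← hO2, R.card_H hab] at d2
  rw [← hO1, R.card_H hab] at d1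
  obtain ⟨m, hm⟩ : 2 ∣ Nat.card ↥(S2 G a b ⊓ Subgroup.centralizer {z}) := by
    haveI : Fact (Nat.Prime 2) := ⟨Nat.prime_two⟩
    have := (S2 G a b ⊓ Subgroup.centralizer {z}).orderOf_dvd_natCard (x := s)
      ⟨⟨ha, hb⟩, mem_cen.2 zs⟩
    rwa [orderOf_eq_prime (by rw [sq]; exact hs.1) hs.2] at this
  have mpos : 0 < 2 * m := hm ▸ Nat.card_pos
  rw [hm] at d1 d2
  have d4 : O2.card = O1.card := Nat.eq_of_mul_eq_mul_right mpos (d2.trans d1.symm)
  have inv : ∀ v ∈ sw G a b, ∀ g ∈ S2 G a b, g * v * g⁻¹ ∈ sw G a b := by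
    intro v hv g hg
    rw [mem_sw] at hv ⊢
    exact ⟨hv.1.conj g, by rw [mul_smul, mul_smul, inv_smul_eq_iff.2 hg.1.symm, hv.2, hg.2]⟩
  have s1 : O1 ⊆ sw G a b := by
    intro v hv
    rw [mem_fin] at hv
    obtain ⟨g, hg, rfl⟩ := hv
    exact inv z hz g hg
  have s2 : ∀ v ∈ sw G a b, v ∉ O1 → v ∈ O2 := by
    intro v hv hv1
    rw [mem_sw] at hv
    have vb : v • b = a := by rw [← hv.2, hv.1.1.smul_smul]
    have hm : v * z ∈ S2 G a b := by
      rw [mem_S2, mul_smul, mul_smul, hz'.2, zb]; exact ⟨vb, hv.2⟩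
    have f1 := R.pow_h hab hm.1 hm.2
    rw [he, mul_comm, pow_mul, sq] at f1
    have hm' := Subgroup.pow_mem _ hm t
    by_cases f2 : (v * z) ^ t = 1
    · obtain ⟨j, hj⟩ := conj_of_odd hv.1.1.1 hz'.1.1.1 ht f2
      exact absurd (mem_fin.2 ⟨_, Subgroup.pow_mem _ hm j, hj⟩) hv1
    have f3 := R.inv_edge R.hh hab ⟨f1, f2⟩ hs hm'.1 ha hm'.2 hb
    obtain ⟨j, hj⟩ := conj_of_odd (t := z * s) hv.1.1.1 (by
      calc z * s * (z * s) = z * (s * z) * s := by group
        _ = (z * z) * (s * s) := by rw [← zs]; group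
        _ = 1 := by rw [hz'.1.1.1, hs.1, one_mul]) ht (by
      obtain ⟨i, hi⟩ := ht
      rw [← mul_assoc, Commute.mul_pow (cH _ hm), f3, hi, pow_succ, pow_mul, sq, hs.1, one_pow,
        one_mul, hs.1])
    exact mem_fin.2 ⟨_, Subgroup.pow_mem _ (by
      rw [← mul_assoc]; exact Subgroup.mul_mem _ hm ⟨ha, hb⟩) j, hj⟩
  have d5 := Finset.card_sdiff_add_card_eq_card s1
  have d6 : (sw G a b \ O1).card = 0 ∨ (sw G a b \ O1).card = O1.card := by
    rcases (sw G a b \ O1).eq_empty_or_nonempty with e0 | ⟨v, hv⟩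
    · left; rw [e0, Finset.card_empty]
    right
    rw [← d4]
    congr 1
    refine Finset.Subset.antisymm (fun u hu => s2 u (Finset.mem_sdiff.1 hu).1
      (Finset.mem_sdiff.1 hu).2) (fun u hu => ?_)
    rw [Finset.mem_sdiff] at hv ⊢
    have := s2 v hv.1 hv.2
    rw [mem_fin] at this hu
    obtain ⟨g, hg, e1⟩ := this
    obtain ⟨g', hg', e2⟩ := hu
    have e3 : u = (g' * g⁻¹) * v * (g' * g⁻¹)⁻¹ := by rw [← e1, ← e2]; group
    have hgg := Subgroup.mul_mem _ hg' (Subgroup.inv_mem _ hg)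
    refine ⟨e3 ▸ inv v hv.1 _ hgg, fun hu => hv.2 ?_⟩
    rw [mem_fin] at hu ⊢
    obtain ⟨g2, hg2, e4⟩ := hu
    exact ⟨(g' * g⁻¹)⁻¹ * g2, Subgroup.mul_mem _ (Subgroup.inv_mem _ hgg) hg2, by
      rw [cj_mul, e4, e3]; group⟩
  have d7 : O1.card ∣ t := ⟨m, by rw [he] at d1; nlinarith⟩
  have d8 : O1.card ∣ t + 1 := by
    rcases d6 with e0 | e0
    · exact ⟨1, by omega⟩
    · exact ⟨2, by omega⟩
  have := Nat.le_of_dvd one_pos ((Nat.dvd_add_right d7).1 d8)
  omega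

theorem RN.params (R : RN G adj K k h t l) (hG : Even (Nat.card G)) :
    (k = 3 ∧ h = 2 ∧ l = 6) ∨ (k = 5 ∧ h = 4 ∧ l = 10) ∨ (k = 9 ∧ h = 4 ∧ l = 6) := by
  rcases Nat.even_or_odd h with hh | hh
  swap
  · exact (R.odd_false hG hh).elim
  by_cases hU : ∀ {a c : X} {u : G}, u ∈ K a → u • c = c → c ≠ a → u = 1
  · have R' : RT G adj K k h t l := { R with hh := hh, U := hU }
    rcases Nat.even_or_odd t with ht | ht
    · exact Or.inr (Or.inl (R'.t_even ht))
    · exact Or.inl (R'.t_odd ht)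
  · push Not at hU
    obtain ⟨a, c, u, h1, h2, h3, h4⟩ := hU
    exact Or.inr (Or.inr (R.U_case hh h3.symm (R.nadj_of_K h1 h4 (R.K_fix h1) h2) h1 h4 h2))

end Cfsg.Agent.H76.Rk
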