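/-
Rank 3 Frobenius problem: the final identification.
-/
import Cfsg.Agent.H76.RkK
import Cfsg.Agent.H2.MinNormal
import Cfsg.Agent.S0494
import Cfsg.Agent.S0144

set_option autoImplicit false

namespace Cfsg.Agent.H76.Rk

open Finset MulAction

variable {G X : Type*} [Group G] [Finite G] [Fintype X] [MulAction G X] [FaithfulSMul G X]

theorem build (heven : Even (Nat.card G)) (hprim : IsPreprimitive G X) (A : X)
    (h3 : Nat.card (orbitRel.Quotient ↥(stabilizer G A) X) = 3) (B : X) (hBA : B ≠ A)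
    (hfix : ∃ g ∈ stabilizer G A, g ≠ 1 ∧ g • B = B)
    (hfrob : ∀ g ∈ stabilizer G A, ∀ h ∈ stabilizer G A, g • B = B → g • (h • B) = h • B →
      h • B ≠ B → g = 1) : R3 G (fun y y' : X => ∃ g : G, g • A = y ∧ g • B = y') := by
  classical
  set adj : X → X → Prop := fun y y' => ∃ g : G, g • A = y ∧ g • B = y' with hadj
  haveI : Nontrivial X := ⟨⟨B, A, hBA⟩⟩
  have tr : ∀ x y : X, ∃ g : G, g • x = y := fun x y => exists_smul_eq G x y
  let q : X → orbitRel.Quotient ↥(stabilizer G A) X := Quotient.mk _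
  have hq : ∀ x y, q x = q y ↔ ∃ g : G, g • A = A ∧ g • y = x := fun x y => by
    rw [Quotient.eq, orbitRel_apply, mem_orbit_iff]
    exact ⟨fun ⟨g, hg⟩ => ⟨g, g.2, hg⟩, fun ⟨g, h1, h2⟩ => ⟨⟨g, h1⟩, h2⟩⟩
  have hqA : ∀ x, q x = q A ↔ x = A := fun x => by
    rw [hq]; exact ⟨fun ⟨g, h1, h2⟩ => h2.symm.trans h1, fun e => ⟨1, one_smul _ _, by simp [e]⟩⟩
  haveI := Fintype.ofFinite (orbitRel.Quotient ↥(stabilizer G A) X)
  rw [Nat.card_eq_fintype_card, ← Finset.card_univ] at h3
  have F1 : ∃ C, C ≠ A ∧ ¬ adj A C := by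
    obtain ⟨z, -, hz⟩ := Finset.exists_mem_notMem_of_card_lt_card (s := {q A, q B}) (t := univ)
      (by have := Finset.card_le_two (a := q A) (b := q B); omega)
    obtain ⟨C, rfl⟩ := Quotient.exists_rep z
    simp only [Finset.mem_insert, Finset.mem_singleton, not_or] at hz
    exact ⟨C, fun e => hz.1 ((hqA C).2 e), fun e => hz.2 ((hq C B).2 e)⟩
  have F2 : ∀ c d, c ≠ A → ¬ adj A c → d ≠ A → ¬ adj A d → ∃ g : G, g • A = A ∧ g • c = d := by
    intro c d h1 h2 h4 h5
    rw [← hq]
    by_contra hne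
    have := Finset.card_le_univ ({q A, q B, q d, q c} : Finset _)
    rw [Finset.card_eq_four.2 ⟨_, _, _, _, fun e => hBA ((hqA B).1 e.symm),
      fun e => h4 ((hqA d).1 e.symm), fun e => h1 ((hqA c).1 e.symm),
      fun e => h5 ((hq d B).1 e.symm), fun e => h2 ((hq c B).1 e.symm), hne, rfl⟩,
      ← Finset.card_univ] at this
    omega
  have inv : ∀ (g : G) {a b}, adj a b → adj (g • a) (g • b) := by
    rintro g a b ⟨x, rfl, rfl⟩
    exact ⟨g * x, mul_smul _ _ _, mul_smul _ _ _⟩
  have inv' : ∀ (g : G) {a b}, adj (g • a) (g • b) → adj a b := fun g a b h => by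
    simpa using inv g⁻¹ h
  have irr : ∀ {a}, ¬ adj a a := by
    rintro a ⟨x, h1, h2⟩
    exact hBA (smul_left_cancel x (h2.trans h1.symm))
  have hBA' : adj B A := by
    obtain ⟨z0, -, hz0⟩ := exists_Iv (⊤ : Subgroup G) (by rw [Subgroup.card_top]; exact heven.two_dvd)
    obtain ⟨x, hx⟩ : ∃ x : X, z0 • x ≠ x := by
      by_contra hc
      push Not at hc
      exact hz0.2 (eq_of_smul_eq_smul (α := X) (fun x => by rw [hc x, one_smul]))
    obtain ⟨g0, hg0⟩ := tr x A
    have hz := hz0.conj g0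
    have hzA : (g0 * z0 * g0⁻¹) • A ≠ A := by
      rw [← hg0, mul_smul, mul_smul, inv_smul_smul]
      exact fun e => hx (smul_left_cancel g0 e)
    set z := g0 * z0 * g0⁻¹
    have sw : ∀ y, (∃ g : G, g • A = A ∧ g • z • A = y) → adj A y → adj y A := by
      rintro y ⟨g, h1, rfl⟩ h2
      have := inv (g * z * g⁻¹) h2
      have g' : g⁻¹ • A = A := by rw [inv_smul_eq_iff, h1]
      simpa [mul_smul, g', hz.smul_smul, h1] using this
    by_cases h : adj A (z • A)
    · obtain ⟨g, h1, h2⟩ := h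
      exact sw B ⟨g⁻¹, by rw [inv_smul_eq_iff, h1], by rw [inv_smul_eq_iff, h2]⟩
        ⟨1, one_smul _ _, one_smul _ _⟩
    obtain ⟨g, hg⟩ := tr B A
    have h1 : adj A (g • A) := by
      by_contra h2
      obtain ⟨m, m1, m2⟩ := F2 _ _ hzA h (fun e => hBA (smul_left_cancel g (hg.trans e.symm))) h2
      have := inv (m * z * m⁻¹) (show adj (g • A) A from ⟨g, rfl, hg⟩)
      have m' : m⁻¹ • A = A := by rw [inv_smul_eq_iff, m1]
      rw [← m2] at this h2
      exact h2 (by simpa [mul_smul, m', hz.smul_smul, m1] using this)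
    exact inv' g (hg.symm ▸ h1)
  have symm : ∀ {a b}, adj a b → adj b a := by
    rintro a b ⟨x, rfl, rfl⟩; exact inv x hBA'
  have non : ∀ {a b c d}, a ≠ b → ¬ adj a b → c ≠ d → ¬ adj c d →
      ∃ g : G, g • a = c ∧ g • b = d := by
    intro a b c d h1 h2 h4 h5
    obtain ⟨g1, e1⟩ := tr a A
    obtain ⟨g2, e2⟩ := tr c A
    obtain ⟨g, f1, f2⟩ := F2 (g1 • b) (g2 • d) (fun e => h1 (smul_left_cancel g1 (e1.trans e.symm)))
      (fun e => h2 (inv' g1 (e1.symm ▸ e))) (fun e => h4 (smul_left_cancel g2 (e2.trans e.symm)))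
      (fun e => h5 (inv' g2 (e2.symm ▸ e)))
    exact ⟨g2⁻¹ * g * g1, by rw [mul_smul, mul_smul, e1, f1, inv_smul_eq_iff, e2],
      by rw [mul_smul, mul_smul, f2, inv_smul_smul]⟩
  have ex : ∀ a, ∃ b, adj a b := fun a => by
    obtain ⟨g, rfl⟩ := tr A a
    exact ⟨_, g, rfl, rfl⟩
  have prim : ∀ (a : X) (L : Subgroup G), stabilizer G a ≤ L → ∀ g ∈ L, g • a ≠ a → ∀ g', g' ∈ L := by
    intro a L h1 g hg hga g'
    rw [(IsPreprimitive.isCoatom_stabilizer_of_isPreprimitive G a).2 L
      (lt_of_le_of_ne h1 (fun e => hga (by rw [← e] at hg; exact hg)))]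
    trivial
  refine ⟨symm, irr, inv, ?_, non, ?_, ex, fun a => ?_, fun {a c} hac hn => ?_,
    fun {a c} hac hn => ?_, ?_⟩
  · rintro a b c d ⟨x, rfl, rfl⟩ ⟨y, rfl, rfl⟩
    exact ⟨y * x⁻¹, by simp [mul_smul], by simp [mul_smul]⟩
  · rintro g a b c ⟨x, rfl, rfl⟩ ⟨y, e, rfl⟩ hne f1 f2 f3
    have := hfrob (x⁻¹ * g * x) (by simp [mul_smul, f1]) (x⁻¹ * y) (by simp [mul_smul, e])
      (by simp [mul_smul, f2]) (by simp [mul_smul, f3])
      (fun e => hne (by rw [mul_smul, inv_smul_eq_iff] at e; exact e.symm))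
    calc g = x * (x⁻¹ * g * x) * x⁻¹ := by group
      _ = 1 := by rw [this]; group
  · obtain ⟨C, h1, h2⟩ := F1
    obtain ⟨g, rfl⟩ := tr A a
    exact ⟨g • C, fun e => h1 (smul_left_cancel g e), fun e => h2 (inv' g e)⟩
  · by_contra hc
    push Not at hc
    have t : ∀ x y z, adj x y → adj y z → x = z ∨ adj x z := by
      intro x y z h1 h2
      by_contra h
      push Not at h
      obtain ⟨g, rfl, rfl⟩ := non h.1 h.2 hac hn
      exact hc _ (inv g h1) (inv g (symm h2))
    let L : Subgroup G :=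
      { carrier := {g | a = g • a ∨ adj a (g • a)}
        one_mem' := Or.inl (one_smul _ _).symm
        mul_mem' := by
          rintro x y (hx | hx) hy
          · rcases hy with hy | hy
            · exact Or.inl (by rw [mul_smul, ← hy, ← hx])
            · exact Or.inr (by have := inv x hy; rwa [← hx, ← mul_smul] at this)
          · rcases hy with hy | hy
            · exact Or.inr (by rwa [mul_smul, ← hy])
            · exact t _ _ _ hx (by have := inv x hy; rwa [← mul_smul] at this)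
        inv_mem' := by
          rintro x (hx | hx)
          · exact Or.inl (by rw [eq_inv_smul_iff, ← hx])
          · exact Or.inr (inv' x (by simpa using symm hx)) }
    obtain ⟨b, hb⟩ := ex a
    obtain ⟨g, rfl⟩ := tr a b
    obtain ⟨g', rfl⟩ := tr a c
    rcases prim a L (fun x hx => Or.inl hx.symm) g (Or.inr hb) (fun e => irr (e ▸ hb)) g' with h | h
    · exact hac h
    · exact hn h
  · by_contra hc
    push Not at hc
    have t : ∀ x y z, ¬ adj x y → adj y z → adj x z := by
      intro x y z h1 h2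
      by_cases e : x = y
      · exact e ▸ h2
      obtain ⟨g, rfl, rfl⟩ := non e h1 hac hn
      exact inv' g (hc _ (inv g h2))
    let L : Subgroup G :=
      { carrier := {g | ¬ adj a (g • a)}
        one_mem' := by simpa using irr
        mul_mem' := by
          intro x y hx hy h
          rw [mul_smul] at h
          exact hy (inv' x (t _ _ _ (fun e => hx (symm e)) h))
        inv_mem' := by
          intro x hx h
          exact hx (symm (by simpa using inv x h)) }
    obtain ⟨b, hb⟩ := ex a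
    obtain ⟨g, rfl⟩ := tr a b
    obtain ⟨g', rfl⟩ := tr a c
    exact prim a L (fun x hx h => irr (by rwa [hx] at h)) g' hn hac.symm g hb
  · rintro a b ⟨x, rfl, rfl⟩
    obtain ⟨g, h1, h2, h4⟩ := hfix
    exact ⟨x * g * x⁻¹, by simpa using h2, cj_fix x h1, cj_fix x h4⟩

omit [Finite G] [Fintype X] in
theorem normal_trans (hprim : IsPreprimitive G X) (N : Subgroup G) (hN : N.Normal) (h : N ≠ ⊥)
    (x y : X) : ∃ n ∈ N, n • x = y := by
  haveI := IsQuasiPreprimitive.isPretransitive_of_normal (G := G) (X := X) (N := N) (by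
    intro e
    apply h
    rw [eq_bot_iff]
    intro n hn
    exact eq_of_smul_eq_smul (α := X) (fun x => by
      have : x ∈ fixedPoints N X := by rw [e]; trivial
      rw [one_smul]; exact this ⟨n, hn⟩))
  obtain ⟨n, hn⟩ := exists_smul_eq N x y
  exact ⟨n, n.2, hn⟩

theorem normal_dvd (hprim : IsPreprimitive G X) (N : Subgroup G) (hN : N.Normal) (h : N ≠ ⊥)
    (a : X) : Fintype.card X * Nat.card ↥(N ⊓ stabilizer G a) = Nat.card N :=
  orb N _ (fun (g : G) (x : X) => g • x) (one_smul G) (fun g g' y => mul_smul g g' y) a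
    (fun _ => Iff.rfl) univ (fun z => by simpa using normal_trans hprim N hN h a z)

theorem solv_case (hprim : IsPreprimitive G X) (a : X) (hs : Group.IsSolvable G) [Nontrivial G] :
    ∃ N : Subgroup G, N.Normal ∧ Nat.card N = Fintype.card X ∧
      ∀ x y : X, ∃! n : ↥N, (n : G) • x = y := by
  obtain ⟨M, p, -, h1, h2, h3, -⟩ := H2.exists_minimal_normal_of_solvable (G := G)
  have free : ∀ n ∈ M, ∀ x : X, n • x = x → n = 1 := fun n hn x hx =>
    eq_of_smul_eq_smul (α := X) (fun y => by
      obtain ⟨m, hm, rfl⟩ := normal_trans hprim M h1 h2 x y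
      rw [← mul_smul, H2.mul_comm_of_mem h3 hn hm, mul_smul, hx, one_smul])
  refine ⟨M, h1, ?_, fun x y => ?_⟩
  · have := normal_dvd hprim M h1 h2 a
    rw [show M ⊓ stabilizer G a = ⊥ from eq_bot_iff.2 (fun n hn => free n hn.1 a hn.2),
      Subgroup.card_bot, mul_one] at this
    exact this.symm
  · obtain ⟨m, hm, rfl⟩ := normal_trans hprim M h1 h2 x y
    refine ⟨⟨m, hm⟩, rfl, fun n hn => Subtype.ext ?_⟩
    have := free _ (M.mul_mem (M.inv_mem hm) n.2) x (by rw [mul_smul, hn, inv_smul_smul])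
    exact (inv_mul_eq_one.1 this).symm

theorem final (heven : Even (Nat.card G)) (hprim : IsPreprimitive G X) (A : X)
    (h3 : Nat.card (orbitRel.Quotient ↥(stabilizer G A) X) = 3) (B : X) (hBA : B ≠ A)
    (hfix : ∃ g ∈ stabilizer G A, g ≠ 1 ∧ g • B = B)
    (hfrob : ∀ g ∈ stabilizer G A, ∀ h ∈ stabilizer G A, g • B = B → g • (h • B) = h • B →
      h • B ≠ B → g = 1) :
    (Nonempty (G ≃* ↥(alternatingGroup (Fin 5))) ∧ Fintype.card X = 10) ∨
    (Group.IsSolvable G ∧ ∃ N : Subgroup G, N.Normal ∧ Nat.card N = 16 ∧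
      ∀ x y : X, ∃! n : ↥N, (n : G) • x = y) := by
  haveI : Nonempty X := ⟨A⟩
  haveI : Nontrivial G := by
    obtain ⟨g, -, h, -⟩ := hfix
    exact ⟨⟨g, 1, h⟩⟩
  obtain ⟨K, k, h, t, l, R⟩ := (build heven hprim A h3 B hBA hfix hfrob).exists_RN
  have hX := R.card_X
  have hG := R.card_G
  rcases R.params heven with ⟨rfl, rfl, rfl⟩ | ⟨rfl, rfl, rfl⟩ | ⟨rfl, rfl, rfl⟩
  · left
    rw [hX] at hG
    haveI : IsSimpleGroup G := ⟨fun N hN => by
      by_contra hc
      push Not at hc
      have d1 := normal_dvd hprim N hN hc.1 A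
      have d2 := N.card_subgroup_dvd_card
      have d3 : Nat.card N ≠ Nat.card G := fun e => hc.2 (Subgroup.eq_top_of_card_eq N e)
      rw [hX] at d1
      rw [hG] at d2 d3
      have d4 := Nat.le_of_dvd (by norm_num) d2
      have hs : Group.IsSolvable N := by
        have : Nat.card N = 10 ∨ Nat.card N = 20 ∨ Nat.card N = 30 := by
          generalize Nat.card ↥(N ⊓ stabilizer G A) = m at d1
          have : m ≤ 6 := by omega
          rw [← d1] at d2 d3 ⊢
          interval_cases m <;> omega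
        rcases this with e | e | e
        · exact S0144.result 2 5 1 1 (by norm_num) (by norm_num) e
        · exact S0144.result 2 5 2 1 (by norm_num) (by norm_num) e
        · haveI : IsZGroup N := IsZGroup.of_squarefree (by
            rw [e, show 30 = 2 * (3 * 5) from rfl, Nat.squarefree_mul (by norm_num),
              Nat.squarefree_mul (by norm_num)]
            exact ⟨Nat.prime_two.prime.squarefree, Nat.prime_three.prime.squarefree,
              Nat.prime_five.prime.squarefree⟩)
          infer_instance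
      obtain ⟨M, p, hp, h1, h2, -, -, h4, -⟩ := H2.exists_minimal_normal_le_of_solvable N hN hs hc.1
      haveI := Fact.mk hp
      obtain ⟨i, hi⟩ := h4.exists_card_eq
      have d5 := normal_dvd hprim M h1 h2 A
      rw [hX, hi] at d5
      have e2 := (Nat.prime_dvd_prime_iff_eq Nat.prime_two hp).1
        (Nat.prime_two.dvd_of_dvd_pow (n := i) (by rw [← d5]; omega))
      have e5 := (Nat.prime_dvd_prime_iff_eq Nat.prime_five hp).1
        (Nat.prime_five.dvd_of_dvd_pow (n := i) (by rw [← d5]; omega))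
      omega⟩
    exact ⟨S0494.result hG, hX⟩
  · have hs := S0144.result (G := G) 2 5 6 1 (by norm_num) (by norm_num) (by rw [hG, hX]; norm_num)
    have := solv_case hprim A hs
    rw [hX] at this
    exact Or.inr ⟨hs, this⟩
  · have hs := S0144.result (G := G) 2 3 6 2 (by norm_num) (by norm_num) (by rw [hG, hX]; norm_num)
    have := solv_case hprim A hs
    rw [hX] at this
    exact Or.inr ⟨hs, this⟩

end Cfsg.Agent.H76.Rk
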